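import Cfsg.Agent.Lib.SdBlocks.Levels
import Cfsg.Agent.Lib.CharDeep.LinearExt

/-!
# Stable virtual characters of a semidihedral group
-/

set_option autoImplicit false
set_option maxHeartbeats 1600000
set_option synthInstance.maxHeartbeats 400000

open scoped ComplexConjugate Classical
open Cfsg CfsgLib.Blocks CfsgLib.Blocks.Pairs CfsgLib.BlockRank CfsgLib.DihBlocks CfsgLib.QuatBlocks

namespace CfsgLib.SdBlocks

universe u

/-- The values of an induced function for a subgroup of index two. -/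
theorem indFun_index_two {Γ : Type*} [Group Γ] [Fintype Γ] (H : Subgroup Γ) (h2 : H.index = 2)
    (θ : H → ℂ) (hθ : IsClassFunction H θ) {c : Γ} (hc : c ∉ H) (v : Γ) :
    indFun H θ v = extendByZero H θ v + extendByZero H θ (c⁻¹ * v * c) := by
  haveI := Subgroup.normal_of_index_eq_two h2
  have hconj : ∀ a ∈ H, ∀ w : Γ, extendByZero H θ (a⁻¹ * w * a) = extendByZero H θ w := by
    intro a ha w
    by_cases hw : w ∈ H
    · rw [CfsgLib.Char.extendByZero_apply_mem H _ (mul_mem (mul_mem (inv_mem ha) hw) ha),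
        CfsgLib.Char.extendByZero_apply_mem H _ hw]
      exact (congrArg θ (Subtype.ext (by simp))).trans (hθ ⟨w, hw⟩ ⟨a⁻¹, inv_mem ha⟩)
    · rw [CfsgLib.Char.extendByZero_of_notMem H _ hw, CfsgLib.Char.extendByZero_of_notMem H _
        fun h => hw ((Subgroup.mul_mem_cancel_left _ (inv_mem ha)).1
          ((Subgroup.mul_mem_cancel_right _ ha).1 h))]
  have hcard : (Finset.univ.filter fun a : Γ => a ∈ H).card = Nat.card H := by
    rw [Nat.card_eq_fintype_card, Fintype.card_subtype]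
  have hout : ∀ a ∉ H, extendByZero H θ (a⁻¹ * v * a) = extendByZero H θ (c⁻¹ * v * c) := by
    intro a ha
    have hb : c⁻¹ * a ∈ H :=
      (Subgroup.mul_mem_iff_of_index_two h2).2 (iff_of_false (fun h => hc (inv_mem_iff.1 h)) ha)
    rw [← hconj _ hb (c⁻¹ * v * c)]
    congr 1
    group
  have hcard' : (Finset.univ.filter fun a : Γ => ¬ a ∈ H).card = Nat.card H := by
    have h1 := Finset.card_filter_add_card_filter_not (s := Finset.univ) (fun a : Γ => a ∈ H)
    rw [hcard, Finset.card_univ, ← Nat.card_eq_fintype_card, ← Subgroup.card_mul_index H, h2] at h1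
    omega
  rw [CfsgLib.Char.indFun_apply, ← Finset.sum_filter_add_sum_filter_not Finset.univ
      (fun a : Γ => a ∈ H),
    Finset.sum_congr rfl fun a ha => hconj a (Finset.mem_filter.1 ha).2 v,
    Finset.sum_congr rfl fun a ha => hout a (Finset.mem_filter.1 ha).2, Finset.sum_const,
    Finset.sum_const, hcard, hcard', ← smul_add, nsmul_eq_mul, ← mul_assoc,
    inv_mul_cancel₀ (Nat.cast_ne_zero.2 Nat.card_pos.ne'), one_mul]

variable {G : Type u} [Group G] [Fintype G] {D : Subgroup G} {x s : G} {q : ℕ} {ζ : ℂ}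

/-- The character induced from a linear character of the cyclic part, as a function on `G`. -/
noncomputable def psi (x : G) (q : ℕ) (ζ : ℂ) (i : ℕ) (v : G) : ℂ :=
  if h : ∃ j, j < 2 * q ∧ x ^ j = v then ζ ^ (i * h.choose) + ζ ^ (i * ((q - 1) * h.choose)) else 0

/-- The linear character with value `-1` at `x` and `1` at `s`. -/
noncomputable def par (x s v : G) : ℂ :=
  if ∃ a : ℕ, v = x ^ (2 * a) ∨ v = s * x ^ (2 * a) then 1 else -1

/-- The virtual character of the test of the level `m`. -/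
noncomputable def etaM (x s : G) (q : ℕ) (ζ : ℂ) (m : ℕ) (v : G) : ℂ :=
  psi x q ζ 0 v - psi x q ζ (2 ^ m) v + if m = 1 then 2 * (1 - par x s v) else 0

namespace Sd

variable (h : Sd D x s q)

include h

theorem psi_pow (hζ : IsPrimitiveRoot ζ (2 * q)) (i a : ℕ) :
    psi x q ζ i (x ^ a) = ζ ^ (i * a) + ζ ^ (i * ((q - 1) * a)) := by
  have hq := h.four_le
  have hex : ∃ j, j < 2 * q ∧ x ^ j = x ^ a :=
    ⟨a % (2 * q), Nat.mod_lt _ (by omega), h.pow_mod_eq a⟩
  rw [psi, dif_pos hex]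
  obtain ⟨hlt, heq⟩ := hex.choose_spec
  have hj := h.pow_inj hlt (Nat.mod_lt _ (by omega)) (heq.trans (h.pow_mod_eq a).symm)
  simp only [hj]
  have hpow : ∀ c, ζ ^ (c * (a % (2 * q))) = ζ ^ (c * a) := fun c => by
    refine pow_eq_pow_of_modEq ?_ hζ.pow_eq_one
    exact Nat.ModEq.mul_left c (Nat.mod_modEq a (2 * q))
  rw [← mul_assoc, ← mul_assoc, hpow, hpow]

omit [Fintype G] h in
theorem psi_out {v : G} (hv : v ∉ Subgroup.zpowers x) (i : ℕ) : psi x q ζ i v = 0 :=
  dif_neg fun ⟨j, _, hj⟩ => hv (hj ▸ Subgroup.npow_mem_zpowers x j)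

omit [Fintype G] in
theorem zeta_sigma (hζ : IsPrimitiveRoot ζ (2 * q)) (c : ℕ) :
    ζ ^ ((q - 1) * c) = (-1) ^ c * (ζ ^ c)⁻¹ := by
  have hq := h.four_le
  rw [eq_mul_inv_iff_mul_eq₀ (pow_ne_zero _ (hζ.ne_zero (by omega))), ← pow_add,
    show (q - 1) * c + c = q * c by
      conv_rhs => rw [show q = q - 1 + 1 by omega]
      ring, pow_mul, root_pow_half (by omega) hζ]

theorem psi_pow' (hζ : IsPrimitiveRoot ζ (2 * q)) (i a : ℕ) :
    psi x q ζ i (x ^ a) = ζ ^ (i * a) + (-1) ^ (i * a) * conj (ζ ^ (i * a)) := by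
  have hq := h.four_le
  rw [h.psi_pow hζ, mul_left_comm i, h.zeta_sigma hζ, conj_root_pow (by omega) hζ]

theorem psi_zero (v : G) (hζ : IsPrimitiveRoot ζ (2 * q)) :
    psi x q ζ 0 v = if v ∈ Subgroup.zpowers x then 2 else 0 := by
  split_ifs with hv
  · obtain ⟨j, -, rfl⟩ := h.exists_pow hv
    rw [h.psi_pow hζ]
    norm_num
  · exact psi_out hv 0

omit [Fintype G] in
theorem pow_even_iff [Finite G] {a b : ℕ} (hab : x ^ a = x ^ b) : Even a ↔ Even b := by
  have hq := h.four_le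
  have h1 := h.pow_inj (Nat.mod_lt a (by omega : 2 * q > 0)) (Nat.mod_lt b (by omega : 2 * q > 0))
    (by rw [h.pow_mod_eq, h.pow_mod_eq, hab])
  have h2 := congrArg (· % 2) h1
  simp only [Nat.mod_mul_right_mod] at h2
  rw [Nat.even_iff, Nat.even_iff, h2]

theorem par_pow (a : ℕ) : par x s (x ^ a) = (-1) ^ a := by
  rcases Nat.even_or_odd a with ha | ha
  · obtain ⟨b, hb⟩ := ha
    rw [par, if_pos ⟨b, Or.inl (by rw [hb, two_mul])⟩, Even.neg_one_pow ⟨b, hb⟩]
  · rw [par, if_neg, ha.neg_one_pow]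
    rintro ⟨b, hb | hb⟩
    · exact Nat.not_even_iff_odd.2 ha ((h.pow_even_iff hb).2 (even_two_mul b))
    · exact h.out_notMem (2 * b) (hb ▸ Subgroup.npow_mem_zpowers x a)

theorem par_out (a : ℕ) : par x s (s * x ^ a) = (-1) ^ a := by
  rcases Nat.even_or_odd a with ha | ha
  · obtain ⟨b, hb⟩ := ha
    rw [par, if_pos ⟨b, Or.inr (by rw [hb, two_mul])⟩, Even.neg_one_pow ⟨b, hb⟩]
  · rw [par, if_neg, ha.neg_one_pow]
    rintro ⟨b, hb | hb⟩
    · exact h.out_notMem a (hb ▸ Subgroup.npow_mem_zpowers x _)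
    · exact Nat.not_even_iff_odd.2 ha ((h.pow_even_iff (mul_left_cancel hb)).2 (even_two_mul b))

omit [Fintype G] in
theorem pow_mul_s (a : ℕ) : x ^ a * s = s * x ^ ((q - 1) * a) := by
  rw [← mul_inv_eq_iff_eq_mul.1 ((h.conj_pow_eq ((q - 1) * a)).trans (h.pow_sigma_sigma a))]

theorem par_mul {u v : G} (hu : u ∈ D) (hv : v ∈ D) :
    par x s (u * v) = par x s u * par x s v := by
  have hq := h.four_le
  have hodd : Odd (q - 1) := by
    obtain ⟨m, hm, -, hm2, -⟩ := h.exists_half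
    exact ⟨m - 1, by omega⟩
  have hsig : ∀ a b : ℕ, ((-1 : ℂ)) ^ ((q - 1) * a + b) = (-1) ^ a * (-1) ^ b := fun a b => by
    rw [pow_add, pow_mul, hodd.neg_one_pow]
  rcases h.cases u hu with ⟨a, rfl⟩ | ⟨a, rfl⟩ <;> rcases h.cases v hv with ⟨b, rfl⟩ | ⟨b, rfl⟩
  · rw [← pow_add, h.par_pow, h.par_pow, h.par_pow, pow_add]
  · rw [← mul_assoc, h.pow_mul_s, mul_assoc, ← pow_add, h.par_out, h.par_pow, h.par_out, hsig]
  · rw [mul_assoc, ← pow_add, h.par_out, h.par_out, h.par_pow, pow_add]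
  · rw [mul_assoc s, ← mul_assoc (x ^ a), h.pow_mul_s, mul_assoc s, ← pow_add, ← mul_assoc,
      h.s_sq, one_mul, h.par_out, h.par_out, h.par_pow, hsig]

theorem isCharacter_par : IsCharacter D fun v : D => par x s (v : G) := by
  let f : D →* ℂ :=
    { toFun := fun v => par x s (v : G)
      map_one' := by simpa using h.par_pow 0
      map_mul' := fun u v => h.par_mul u.2 v.2 }
  exact (CfsgLib.CharDeep.Lin.isCharacter_hom f.toHomUnits).1

theorem index_two : ((Subgroup.zpowers x).subgroupOf D).index = 2 := by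
  have h1 := Subgroup.card_mul_index ((Subgroup.zpowers x).subgroupOf D)
  rw [Nat.card_congr (Subgroup.subgroupOfEquivOfLe h.zpowers_le).toEquiv, Nat.card_zpowers,
    h.order, h.card, show 4 * q = 2 * q * 2 by ring] at h1
  have := h.four_le
  exact Nat.eq_of_mul_eq_mul_left (by omega) h1

theorem isCharacter_psi (hζ : IsPrimitiveRoot ζ (2 * q)) (i : ℕ) :
    IsCharacter D fun v : D => psi x q ζ i (v : G) := by
  have hq := h.four_le
  let C : Subgroup D := (Subgroup.zpowers x).subgroupOf D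
  set g : C := ⟨⟨x, h.mem_x⟩, Subgroup.mem_zpowers x⟩ with hgdef
  have hg : ∀ c : C, c ∈ Subgroup.zpowers g := by
    intro c
    obtain ⟨k, hk⟩ := Subgroup.mem_zpowers_iff.1 (c.2 : ((c : D) : G) ∈ Subgroup.zpowers x)
    refine Subgroup.mem_zpowers_iff.2 ⟨k, ?_⟩
    apply Subtype.ext; apply Subtype.ext
    simp only [hgdef, Subgroup.coe_zpow]
    exact hk
  have hord : orderOf g = 2 * q := by
    rw [← Subgroup.orderOf_coe g, ← Subgroup.orderOf_coe (g : D)]
    exact h.order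
  let w : ℂˣ := (hζ.isUnit (by omega)).unit ^ i
  have hw : orderOf w ∣ orderOf g := by
    rw [hord]
    refine orderOf_dvd_of_pow_eq_one (Units.ext ?_)
    simp only [Units.val_pow_eq_pow_val, Units.val_one, w, IsUnit.unit_spec]
    rw [← pow_mul, mul_comm, pow_mul, hζ.pow_eq_one, one_pow]
  let f : C →* ℂˣ := monoidHomOfForallMemZpowers hg hw
  have hfg : f g = w := monoidHomOfForallMemZpowers_apply_gen hg hw
  have hchar := (CfsgLib.CharDeep.Lin.isCharacter_hom f).1
  have hF := CfsgLib.Char.IsCharacter.indFun C hchar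
  have hext : ∀ (u : D) (j : ℕ), (u : G) = x ^ j →
      extendByZero C (fun c => (f c : ℂ)) u = ζ ^ (i * j) := by
    intro u j hu
    have hmem : u ∈ C := by
      show (u : G) ∈ Subgroup.zpowers x
      rw [hu]
      exact Subgroup.npow_mem_zpowers x j
    rw [CfsgLib.Char.extendByZero_apply_mem C _ hmem,
      show (⟨u, hmem⟩ : C) = g ^ j from Subtype.ext (Subtype.ext (by simp [hgdef, hu])), map_pow,
      hfg, Units.val_pow_eq_pow_val]
    simp only [w, Units.val_pow_eq_pow_val, IsUnit.unit_spec, ← pow_mul]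
  convert hF using 1
  funext v
  rw [indFun_index_two C h.index_two _ (CfsgLib.Char.IsCharacter.isClassFunction hchar)
    (c := (⟨s, h.mem_s⟩ : D)) (fun hc => h.s_out hc) v]
  have hval : ((⟨s, h.mem_s⟩⁻¹ * v * ⟨s, h.mem_s⟩ : D) : G) = s * (v : G) * s⁻¹ := by
    rw [Subgroup.coe_mul, Subgroup.coe_mul, InvMemClass.coe_inv, Subgroup.coe_mk,
      inv_eq_of_mul_eq_one_right h.s_sq]
  by_cases hv : (v : G) ∈ Subgroup.zpowers x
  · obtain ⟨j, -, hj⟩ := h.exists_pow hv
    rw [hext v j hj, hext _ ((q - 1) * j) (by rw [hval, hj, h.conj_pow_eq]), hj, h.psi_pow hζ]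
  · rw [psi_out hv, CfsgLib.Char.extendByZero_of_notMem C _ (fun hh => hv hh),
      CfsgLib.Char.extendByZero_of_notMem C _ fun hh => hv ?_, add_zero]
    have h1 : s * (v : G) * s⁻¹ ∈ Subgroup.zpowers x := hval ▸ hh
    obtain ⟨k, -, hk⟩ := h.exists_pow h1
    have h2 : (v : G) = x ^ ((q - 1) * k) := by
      rw [← h.conj_pow_eq, ← hk, inv_eq_of_mul_eq_one_right h.s_sq]
      simp [mul_assoc, h.s_sq, ← mul_assoc s s]
    exact h2 ▸ Subgroup.npow_mem_zpowers x _

theorem isGen_etaM (hζ : IsPrimitiveRoot ζ (2 * q)) (m : ℕ) :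
    IsGeneralizedCharacter D fun v : D => etaM x s q ζ m (v : G) := by
  have h1 : IsCharacter D (1 : D → ℂ) := CfsgLib.Char.isCharacter_one
  by_cases hm : m = 1
  · refine ⟨_, _, CfsgLib.Char.IsCharacter.add (h.isCharacter_psi hζ 0)
      (CfsgLib.Char.IsCharacter.add h1 h1),
      CfsgLib.Char.IsCharacter.add (h.isCharacter_psi hζ (2 ^ m))
        (CfsgLib.Char.IsCharacter.add h.isCharacter_par h.isCharacter_par), funext fun v => ?_⟩
    simp only [etaM, if_pos hm, Pi.add_apply, Pi.sub_apply, Pi.one_apply]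
    ring
  · refine ⟨_, _, h.isCharacter_psi hζ 0, h.isCharacter_psi hζ (2 ^ m), funext fun v => ?_⟩
    simp only [etaM, if_neg hm, add_zero, Pi.sub_apply]

theorem psi_half (hζ : IsPrimitiveRoot ζ (2 * q)) {i : ℕ} (hi : Odd i) {c : ℕ} (hc : Odd c) :
    psi x q ζ i (x ^ (q / 2 * c)) = 0 := by
  obtain ⟨m, hm, hme, hm2, hhalf⟩ := h.exists_half
  have hq1 : 1 ≤ q := by omega
  rw [h.psi_pow' hζ, hhalf, conj_root_pow hq1 hζ]
  have hev : Even (i * (m * c)) := (hme.mul_right c).mul_left i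
  rw [hev.neg_one_pow, one_mul]
  have h0 : ζ ^ (i * (m * c)) ≠ 0 := pow_ne_zero _ (hζ.ne_zero (by omega))
  have hI : ζ ^ (i * (m * c)) * ζ ^ (i * (m * c)) = -1 := by
    rw [← pow_add, show i * (m * c) + i * (m * c) = q * (i * c) by rw [hm]; ring, pow_mul,
      root_pow_half hq1 hζ, (hi.mul hc).neg_one_pow]
  field_simp
  linear_combination hI

theorem etaM_half (hζ : IsPrimitiveRoot ζ (2 * q)) {m : ℕ} (hm : 1 ≤ m) {c : ℕ} (hc : Odd c) :
    etaM x s q ζ m (x ^ (q / 2 * c)) = if m = 1 then 4 else 0 := by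
  obtain ⟨m', hm', hme, hm2, hhalf⟩ := h.exists_half
  have hq1 : 1 ≤ q := by omega
  have h0 : ∀ n, ζ ^ (2 ^ (n + 1) * (m' * c)) = (-1) ^ (2 ^ n * c) := fun n => by
    rw [show 2 ^ (n + 1) * (m' * c) = q * (2 ^ n * c) by rw [hm']; ring, pow_mul,
      root_pow_half hq1 hζ]
  obtain ⟨n, rfl⟩ : ∃ n, m = n + 1 := ⟨m - 1, by omega⟩
  rw [etaM, h.psi_zero _ hζ, if_pos (Subgroup.npow_mem_zpowers x _), h.psi_pow' hζ, h.par_pow,
    hhalf, h0, (hme.mul_right c).neg_one_pow,
    (((even_two).pow_of_ne_zero (Nat.succ_ne_zero n)).mul_right (m' * c)).neg_one_pow]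
  rcases Nat.eq_zero_or_pos n with rfl | hn
  · rw [pow_zero, one_mul, hc.neg_one_pow, if_pos rfl, if_pos rfl]
    simp only [map_neg, map_one]
    norm_num
  · rw [if_neg (by omega), if_neg (by omega),
      (((even_two).pow_of_ne_zero (by omega : n ≠ 0)).mul_right c).neg_one_pow]
    simp only [map_one]
    norm_num

theorem etaM_out (m a : ℕ) :
    etaM x s q ζ m (s * x ^ a) = if m = 1 then 2 * (1 - (-1) ^ a) else 0 := by
  rw [etaM, psi_out (h.out_notMem a), psi_out (h.out_notMem a), h.par_out]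
  ring

variable {M : Ideal AlgInt} [M.IsMaximal] [CharP (ResField M) 2]
  {e : MonoidAlgebra (ResField M) G} {E : MonoidAlgebra (ResField M) G}

/-- A criterion for the stability of a function under the fusion. -/
theorem eta_fus (hM : IsPModular 2 M) (hP : PairOf 2 E D e) (hno : NoExt 2 D e)
    (hz : ∀ c : G, c * x ^ q = x ^ q * c) (η : G → ℂ) (b : ℂ)
    (hσ : ∀ a, η (x ^ ((q - 1) * a)) = η (x ^ a)) (hb : ∀ c, Odd c → η (x ^ (q / 2 * c)) = b)
    (hodd : ∀ a, Odd a → η (s * x ^ a) = b) (hev : ∀ a, Even a → η (s * x ^ a) = η s)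
    (u v : G) (hf : Fus 2 D e u v) : η v = η u := by
  have hmix : ∀ u v, u ∈ Subgroup.zpowers x → v ∉ Subgroup.zpowers x → Fus 2 D e u v →
      η v = η u := by
    intro u v hu hv hf
    have hord := hf.orderOf_eq
    obtain ⟨i, hi⟩ := h.exists_out hf.mem_right hv
    rcases Nat.even_or_odd i with he | he
    · exfalso
      rw [hi, (h.orderOf_out i).1 he] at hord
      have hu' := h.eq_z hu hord.symm
      rw [hu'] at hf
      exact hv (fus_central hz hf ▸ Subgroup.npow_mem_zpowers x q)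
    · have ho4 : orderOf u = 4 := by rw [← hord, hi, (h.orderOf_out i).2 he]
      rw [hi, hodd i he]
      rcases h.eq_u4 hu ho4 with rfl | rfl
      · simpa using (hb 1 odd_one).symm
      · rw [← pow_mul, hb 3 ⟨1, rfl⟩]
  by_cases hu : u ∈ Subgroup.zpowers x <;> by_cases hv : v ∈ Subgroup.zpowers x
  · rcases h.fus_pow hM hP hno hu hv hf with rfl | rfl
    · rfl
    · obtain ⟨a, -, rfl⟩ := h.exists_pow hu
      rw [← pow_mul, mul_comm, hσ]
  · exact hmix u v hu hv hf
  · exact (hmix v u hv hu hf.symm).symm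
  · have hord := hf.orderOf_eq
    obtain ⟨i, rfl⟩ := h.exists_out hf.mem_right hv
    obtain ⟨g, f, h1, -, -⟩ := id hf
    obtain ⟨j, rfl⟩ := h.exists_out (h1.le (Subgroup.mem_zpowers u)) hu
    rcases Nat.even_or_odd i with he | he <;> rcases Nat.even_or_odd j with he' | he'
    · rw [hev i he, hev j he']
    · rw [(h.orderOf_out i).1 he, (h.orderOf_out j).2 he'] at hord
      omega
    · rw [(h.orderOf_out i).2 he, (h.orderOf_out j).1 he'] at hord
      omega
    · rw [hodd i he, hodd j he']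

theorem fus_psi (hM : IsPModular 2 M) (hP : PairOf 2 E D e) (hno : NoExt 2 D e)
    (hz : ∀ c : G, c * x ^ q = x ^ q * c) (hζ : IsPrimitiveRoot ζ (2 * q)) {i : ℕ} (hi : Odd i)
    (u v : G) (hf : Fus 2 D e u v) : psi x q ζ i v = psi x q ζ i u := by
  refine h.eta_fus hM hP hno hz _ 0 (fun a => ?_) (fun c hc => h.psi_half hζ hi hc)
    (fun a _ => psi_out (h.out_notMem a) i)
    (fun a _ => by rw [psi_out (h.out_notMem a), psi_out h.s_out]) u v hf
  rw [h.psi_pow hζ, h.psi_pow hζ, add_comm]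
  congr 1
  refine pow_eq_pow_of_modEq ?_ hζ.pow_eq_one
  exact Nat.ModEq.mul_left i (h.sigma_sigma a)

theorem fus_etaM (hM : IsPModular 2 M) (hP : PairOf 2 E D e) (hno : NoExt 2 D e)
    (hz : ∀ c : G, c * x ^ q = x ^ q * c) (hζ : IsPrimitiveRoot ζ (2 * q)) {m : ℕ} (hm : 1 ≤ m)
    (u v : G) (hf : Fus 2 D e u v) : etaM x s q ζ m v = etaM x s q ζ m u := by
  refine h.eta_fus hM hP hno hz _ (if m = 1 then 4 else 0) (fun a => ?_)
    (fun c hc => h.etaM_half hζ hm hc)
    (fun a ha => by rw [h.etaM_out, ha.neg_one_pow]; norm_num)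
    (fun a ha => by
      have h0 := h.etaM_out (ζ := ζ) m 0
      rw [pow_zero, mul_one] at h0
      rw [h.etaM_out, h0, ha.neg_one_pow, pow_zero]) u v hf
  have hodd : Odd (q - 1) := by
    obtain ⟨m, hm, -, hm2, -⟩ := h.exists_half
    exact ⟨m - 1, by have := h.four_le; omega⟩
  have hpsi : ∀ i, psi x q ζ i (x ^ ((q - 1) * a)) = psi x q ζ i (x ^ a) := fun i => by
    rw [h.psi_pow hζ, h.psi_pow hζ, add_comm]
    congr 1
    refine pow_eq_pow_of_modEq ?_ hζ.pow_eq_one
    exact Nat.ModEq.mul_left i (h.sigma_sigma a)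
  rw [etaM, etaM, hpsi, hpsi, h.par_pow, h.par_pow, pow_mul, hodd.neg_one_pow]

end Sd

end CfsgLib.SdBlocks
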