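import Cfsg.Agent.Lib.SdBlocks.Sections
import Cfsg.Agent.Lib.StarAction.AutDefect

/-!
# The integral coordinates of the columns in the cyclic part, level by level
-/

set_option autoImplicit false
set_option maxHeartbeats 1600000
set_option synthInstance.maxHeartbeats 400000

open scoped ComplexConjugate Classical
open Cfsg CfsgLib.Blocks CfsgLib.Blocks.Pairs CfsgLib.BlockRank CfsgLib.DihBlocks CfsgLib.QuatBlocks
open Polynomial

namespace CfsgLib.SdBlocks

universe u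

/-- The sign relating the two halves of a level. -/
def sg (t k i : ℕ) : ℤ := if k = t then (-1) ^ i else 1

theorem sg_sub {t k i : ℕ} (hk : 1 ≤ k) (hi : i ≤ 2 ^ k) : sg t k (2 ^ k - i) = sg t k i := by
  unfold sg
  split_ifs
  · obtain ⟨c, hc⟩ := dvd_pow_self 2 (by omega : k ≠ 0)
    rw [neg_one_pow_eq_pow_mod_two, neg_one_pow_eq_pow_mod_two (n := i)]
    congr 1
    omega
  · rfl

theorem sg_sq (t k i : ℕ) : sg t k i * sg t k i = 1 := by
  unfold sg
  split_ifs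
  · rw [← pow_add, ← two_mul, pow_mul, neg_one_sq, one_pow]
  · ring

variable {G : Type u} [Group G] [Fintype G] {M : Ideal AlgInt} [M.IsMaximal]
  [CharP (ResField M) 2] {D : Subgroup G} {e : MonoidAlgebra (ResField M) G}
  {B : Set (IrrCharacter G)} {x s : G} {q : ℕ} {ζ : ℂ} {t k : ℕ}

theorem prim_level (hζ : IsPrimitiveRoot ζ (2 * 2 ^ t)) (hk : k ≤ t) :
    IsPrimitiveRoot (ζ ^ 2 ^ (t - k)) (2 * 2 ^ k) := by
  refine hζ.pow (Nat.mul_pos two_pos (Nat.two_pow_pos t)) ?_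
  rw [mul_comm 2 (2 ^ k), ← mul_assoc, ← pow_add, Nat.sub_add_cancel hk, mul_comm]

/-- What is known about the columns at the elements `x ^ (2 ^ (t - k) * o)`, `o` odd. -/
structure Lvl (M : Ideal AlgInt) [M.IsMaximal] (B : Set (IrrCharacter G)) [Fintype B]
    (D : Subgroup G) (e : MonoidAlgebra (ResField M) G) (x : G) (ζ : ℂ) (t k : ℕ) where
  deg : ℕ
  deg_pos : 0 < deg
  r : IrrCharacter G → ℕ → ℤ
  value : ∀ (χ : IrrCharacter G) (o : ℕ), Odd o →
    col M D e (x ^ (2 ^ (t - k) * o)) χ =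
      (deg : ℂ) * ∑ i ∈ Finset.range (2 ^ k), (r χ i : ℂ) * ((ζ ^ 2 ^ (t - k)) ^ o) ^ i
  norm : ∀ o : ℕ, Odd o →
    colNorm M D e B (x ^ (2 ^ (t - k) * o)) = (deg : ℂ) ^ 2 * (2 * 2 ^ t : ℕ)
  refl : ∀ (χ : IrrCharacter G) (i : ℕ), 1 ≤ i → i < 2 ^ k →
    r χ (2 ^ k - i) = -(sg t k i * r χ i)
  parity : ∀ χ ∈ B, blockHeight 2 B (χ : G → ℂ) = 0 → ¬ (2 : ℤ) ∣ r χ 0

/-- The inversion of a level. -/
theorem inversion {N : ℕ} (hN : 1 ≤ N) {ω : ℂ} (hω : IsPrimitiveRoot ω (2 * N)) (r : ℕ → ℂ)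
    {l : ℕ} (hl : l < N) :
    ∑ τ ∈ Finset.range N, conj ((ω ^ (2 * τ + 1)) ^ l) *
      (∑ i ∈ Finset.range N, r i * (ω ^ (2 * τ + 1)) ^ i) = (N : ℂ) * r l := by
  simp only [Finset.mul_sum]
  rw [Finset.sum_comm, Finset.sum_eq_single l]
  · rw [Finset.sum_congr rfl fun τ _ => mul_left_comm _ _ _, ← Finset.mul_sum,
      Finset.sum_congr rfl fun τ _ => mul_comm (conj ((ω ^ (2 * τ + 1)) ^ l)) _,
      sum_odd_pow_mul_conj hN hω hl hl, if_pos rfl, mul_comm]
  · intro m hm hml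
    rw [Finset.sum_congr rfl fun τ _ => mul_left_comm _ _ _, ← Finset.mul_sum,
      Finset.sum_congr rfl fun τ _ => mul_comm (conj ((ω ^ (2 * τ + 1)) ^ l)) _,
      sum_odd_pow_mul_conj hN hω (Finset.mem_range.1 hm) hl, if_neg hml, mul_zero]
  · exact fun h => absurd (Finset.mem_range.2 hl) h

/-- The conjugation of the roots of a level induced by `x ↦ x ^ (q - 1)`. -/
theorem omega_sigma (hζ : IsPrimitiveRoot ζ (2 * 2 ^ t)) (hk : k ≤ t) (hq : q = 2 ^ t) {o : ℕ}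
    (ho : Odd o) (i : ℕ) :
    ((ζ ^ 2 ^ (t - k)) ^ (o * (q - 1))) ^ i =
      (sg t k i : ℂ) * conj (((ζ ^ 2 ^ (t - k)) ^ o) ^ i) := by
  have hω := prim_level hζ hk
  rw [← pow_mul (ζ ^ 2 ^ (t - k)) o i, conj_root_pow Nat.one_le_two_pow hω,
    eq_mul_inv_iff_mul_eq₀ (pow_ne_zero _ (hω.ne_zero (by positivity))), ← pow_mul, ← pow_add]
  have h1 : o * (q - 1) * i + o * i = q * (o * i) := by
    obtain ⟨c, hc⟩ : ∃ c, q = c + 1 := ⟨q - 1, by have := Nat.one_le_two_pow (n := t); omega⟩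
    subst hc
    rw [Nat.add_sub_cancel]
    ring
  rw [h1, pow_mul (ζ ^ 2 ^ (t - k))]
  unfold sg
  split_ifs with hkt
  · subst hkt
    rw [hq, root_pow_half Nat.one_le_two_pow hω, pow_mul, Odd.neg_one_pow ho]
    push_cast
    rfl
  · have h2 : (ζ ^ 2 ^ (t - k)) ^ q = 1 := by
      refine (hω.pow_eq_one_iff_dvd q).2 ?_
      rw [hq, ← pow_succ']
      exact pow_dvd_pow 2 (by omega)
    rw [h2, one_pow, Int.cast_one]

namespace Sd

variable {T : Finset (Sec G)} {φ : Sec G → G}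

omit [M.IsMaximal] [CharP (ResField M) 2] in
theorem level_index (h : Sd D x s q) (hq : q = 2 ^ t) (hk : 1 ≤ k) (hkt : k ≤ t) {o : ℕ}
    (ho : o < 2 * 2 ^ k) (hodd : Odd o) : 2 ^ (t - k) * o ∈ cycIdx q := by
  have hg : 2 ^ (t - k) * 2 ^ k = q := by rw [← pow_add, Nat.sub_add_cancel hkt, hq]
  refine mem_cycIdx.2 ⟨?_, ?_, ?_⟩
  · have := Nat.mul_lt_mul_of_pos_left ho (Nat.two_pow_pos (t - k))
    rwa [show 2 ^ (t - k) * (2 * 2 ^ k) = 2 * q by rw [← hg]; ring] at this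
  · obtain ⟨c, rfl⟩ := hodd
    positivity
  · intro heq
    rw [← hg] at heq
    have h2 := Nat.eq_of_mul_eq_mul_left (Nat.two_pow_pos _) heq
    obtain ⟨c, hc⟩ := dvd_pow_self 2 (by omega : k ≠ 0)
    obtain ⟨d, hd⟩ := hodd
    omega

omit [M.IsMaximal] [CharP (ResField M) 2] in
theorem level_sigma (h : Sd D x s q) (hq : q = 2 ^ t) (hk : 1 ≤ k) (hkt : k ≤ t) {o : ℕ}
    (ho : Odd o) :
    ∃ τ, τ < 2 ^ k ∧ x ^ (2 ^ (t - k) * (2 * τ + 1)) = (x ^ (2 ^ (t - k) * o)) ^ (q - 1) ∧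
      2 * τ + 1 = o * (q - 1) % (2 * 2 ^ k) := by
  have h4 := h.four_le
  have hodd : Odd (o * (q - 1)) := ho.mul (by
    obtain ⟨m, hm, -, hm2, -⟩ := h.exists_half
    exact ⟨m - 1, by omega⟩)
  obtain ⟨c, hc⟩ := hodd
  have hlt := Nat.mod_lt (o * (q - 1)) (show 2 * 2 ^ k > 0 by positivity)
  have hmod : o * (q - 1) % (2 * 2 ^ k) % 2 = 1 := by
    rw [Nat.mod_mul_right_mod, hc]
    omega
  refine ⟨o * (q - 1) % (2 * 2 ^ k) / 2, by omega, ?_, by omega⟩
  rw [← pow_mul x (2 ^ (t - k) * o)]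
  refine h.pow_congr ?_
  rw [show 2 * (o * (q - 1) % (2 * 2 ^ k) / 2) + 1 = o * (q - 1) % (2 * 2 ^ k) by omega,
    show 2 * q = 2 ^ (t - k) * (2 * 2 ^ k) by
      rw [hq, mul_left_comm, ← pow_add, Nat.sub_add_cancel hkt],
    ← Nat.mul_mod_mul_left, Nat.mod_mod, mul_assoc]

/-- The data of a level exist. -/
theorem exists_lvl (hM : IsPModular 2 M) (h : Sd D x s q) [Fintype B] {hB : IsPBlock M B}
    (hP : PairOf 2 (ebar hB) D e) (hno : NoExt 2 D e) (hq : q = 2 ^ t)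
    (hζ : IsPrimitiveRoot ζ (2 * 2 ^ t)) (hk : 1 ≤ k) (hkt : k ≤ t) :
    Nonempty (Lvl M B D e x ζ t k) := by
  have hω := prim_level hζ hkt
  set g := 2 ^ (t - k) with hg
  have hidx := h.level_index hq hk hkt (o := 1) (by have := Nat.one_le_two_pow (n := k); omega)
    odd_one
  rw [mul_one] at hidx
  have hux : x ^ g ∈ Subgroup.zpowers x := Subgroup.npow_mem_zpowers x g
  have ho2 := h.two_lt_orderOf hidx
  have hord : orderOf (x ^ g) = 2 * 2 ^ k := by
    rw [h.orderOf_pow_dvd (dvd_mul_of_dvd_right (hq ▸ pow_dvd_pow 2 (Nat.sub_le t k)) 2), hq,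
      show 2 * 2 ^ t = 2 * 2 ^ k * g by
        rw [mul_assoc, ← pow_add, Nat.add_sub_cancel' hkt], Nat.mul_div_cancel _ (Nat.two_pow_pos _)]
  obtain ⟨O⟩ := exists_orb hM hB hP (h.zpowers_le hux) (ζ := ζ ^ g) (by rw [hord]; exact hω)
    (m₀ := 2 * 2 ^ t) fun b hb hbe => hq ▸ h.cyclic_block hM hP hno hux ho2 hb hbe
  choose R hRdeg hR using fun χ : IrrCharacter G =>
    CfsgLib.BlockRank.exists_reduced k (O.poly χ)
  have hprim : ∀ o, Odd o → IsPrimitiveRoot ((ζ ^ g) ^ o) (2 ^ (k + 1)) := fun o ho => by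
    rw [pow_succ']
    refine hω.pow_of_coprime _ ?_
    rw [← pow_succ']
    exact Nat.Coprime.pow_right _ ((Nat.coprime_two_right).2 ho)
  have hval : ∀ (χ : IrrCharacter G) (o : ℕ), Odd o → col M D e (x ^ (g * o)) χ =
      (O.deg : ℂ) * ∑ i ∈ Finset.range (2 ^ k), ((R χ).coeff i : ℂ) * ((ζ ^ g) ^ o) ^ i := by
    intro χ o ho
    rw [pow_mul, O.value χ o ho, ← hR χ _ (hprim o ho),
      Polynomial.aeval_eq_sum_range' (hRdeg χ)]
    simp [zsmul_eq_mul]
  have hrefl : ∀ (χ : IrrCharacter G) (i : ℕ), 1 ≤ i → i < 2 ^ k →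
      (R χ).coeff (2 ^ k - i) = -(sg t k i * (R χ).coeff i) := by
    intro χ i hi hik
    have hdeg : (O.deg : ℂ) ≠ 0 := Nat.cast_ne_zero.2 O.deg_pos.ne'
    have hterm : ∀ τ, ∑ l ∈ Finset.range (2 ^ k), ((R χ).coeff l : ℂ) *
          ((ζ ^ g) ^ (2 * τ + 1)) ^ l =
        ∑ l ∈ Finset.range (2 ^ k), ((R χ).coeff l : ℂ) * (sg t k l : ℂ) *
          conj (((ζ ^ g) ^ (2 * τ + 1)) ^ l) := by
      intro τ
      have hodd : Odd ((2 * τ + 1) * (q - 1)) := (odd_two_mul_add_one τ).mul (by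
        obtain ⟨m, hm, -, hm2, -⟩ := h.exists_half
        exact ⟨m - 1, by omega⟩)
      have h1 := col_fus hP (h.fus_sigma hP (Subgroup.npow_mem_zpowers x (g * (2 * τ + 1)))) χ
      rw [← pow_mul, mul_assoc, hval χ _ hodd, hval χ _ (odd_two_mul_add_one τ)] at h1
      rw [← mul_left_cancel₀ hdeg h1]
      refine Finset.sum_congr rfl fun l _ => ?_
      rw [omega_sigma hζ hkt hq (odd_two_mul_add_one τ) l, mul_assoc]
    have h1 := inversion Nat.one_le_two_pow hω (fun l => ((R χ).coeff l : ℂ)) hik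
    rw [Finset.sum_congr rfl fun τ _ => by rw [hterm τ]] at h1
    simp only [Finset.mul_sum] at h1
    rw [Finset.sum_comm, Finset.sum_eq_single (2 ^ k - i)] at h1
    · rw [Finset.sum_congr rfl (g := fun τ => ((R χ).coeff (2 ^ k - i) : ℂ) *
          (sg t k (2 ^ k - i) : ℂ) * conj (((ζ ^ g) ^ (2 * τ + 1)) ^ (2 ^ k))) fun τ _ => by
        rw [mul_left_comm, ← map_mul, ← pow_add, Nat.add_sub_cancel' hik.le],
        ← Finset.mul_sum, ← map_sum, sum_odd_pow_value Nat.one_le_two_pow hω (by omega),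
        if_neg (by omega), if_pos rfl, map_neg, map_natCast, sg_sub hk hik.le] at h1
      have h2 : (((R χ).coeff i : ℤ) : ℂ) =
          ((-(sg t k i * (R χ).coeff (2 ^ k - i)) : ℤ) : ℂ) := by
        refine mul_left_cancel₀ (Nat.cast_ne_zero.2 (Nat.two_pow_pos k).ne') ?_
        rw [← h1]
        push_cast
        ring
      have h3 : (R χ).coeff i = -(sg t k i * (R χ).coeff (2 ^ k - i)) := by exact_mod_cast h2
      linear_combination (sg t k i) * h3 - (R χ).coeff (2 ^ k - i) * sg_sq t k i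
    · intro l hl hli
      rw [Finset.mem_range] at hl
      rw [Finset.sum_congr rfl (g := fun τ => ((R χ).coeff l : ℂ) *
          (sg t k l : ℂ) * conj (((ζ ^ g) ^ (2 * τ + 1)) ^ (i + l))) fun τ _ => by
        rw [mul_left_comm, ← map_mul, ← pow_add],
        ← Finset.mul_sum, ← map_sum, sum_odd_pow_value Nat.one_le_two_pow hω (by omega),
        if_neg (by omega), if_neg (by omega), map_zero, mul_zero]
    · exact fun hn => absurd (Finset.mem_range.2 (by omega)) hn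
  refine ⟨⟨O.deg, O.deg_pos, fun χ i => (R χ).coeff i, hval, fun o ho => ?_, hrefl,
    fun χ hχ hh hdvd => ?_⟩⟩
  · rw [pow_mul, O.norm o ho]
  -- parity
  rw [CfsgLib.BlockReg.blockHeight_eq] at hh
  refine O.parity χ hχ (le_antisymm (Nat.sub_eq_zero_iff_le.1 hh)
    (CfsgLib.BlockReg.minExp_le hχ)) ?_
  have hcongr : ∀ P : ℤ[X],
      MemLocalIdeal M (aeval (ζ ^ g) P - ((P.eval 1 : ℤ) : ℂ)) := by
    intro P
    induction P using Polynomial.induction_on' with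
    | add P P' hP' hP'' =>
      rw [map_add, Polynomial.eval_add, Int.cast_add, add_sub_add_comm]
      exact CfsgLib.BlockReg.memIdeal_add hM hP' hP''
    | monomial i a =>
      rw [aeval_monomial, Polynomial.eval_monomial, one_pow, mul_one, eq_intCast, ← mul_sub_one]
      refine CfsgLib.BlockReg.memIdeal_mul_left hM (CfsgLib.BlockReg.memRing_intCast hM a) ?_
      rw [← geom_sum_mul]
      refine CfsgLib.BlockReg.memIdeal_mul_left hM (CfsgLib.BlockReg.memRing_algInt hM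
        (IsIntegral.sum _ fun j _ => ((hω.isIntegral (by positivity)).pow j))) ?_
      exact CfsgLib.BlockRank.memLocalIdeal_sub_one hM (k := k) (by
        simpa using hprim 1 odd_one)
  have hR1 : (2 : ℤ) ∣ (R χ).eval 1 := by
    rw [Polynomial.eval_eq_sum_range' (hRdeg χ)]
    simp only [one_pow, mul_one]
    rw [Finset.range_eq_Ico, Finset.sum_eq_sum_Ico_succ_bot (Nat.two_pow_pos k)]
    refine dvd_add hdvd ((ZMod.intCast_zmod_eq_zero_iff_dvd _ 2).1 ?_)
    rw [Int.cast_sum]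
    have hsg : ∀ i, ((sg t k i : ℤ) : ZMod 2) = 1 := fun i => by
      unfold sg
      split_ifs
      · rcases neg_one_pow_eq_or ℤ i with h1 | h1 <;> rw [h1] <;> decide
      · exact Int.cast_one
    refine Finset.sum_involution (fun i _ => 2 ^ k - i) (fun i hi => ?_) (fun i hi hne => ?_)
      (fun i hi => ?_) (fun i hi => ?_) <;> rw [Finset.mem_Ico] at hi
    · rw [hrefl χ i hi.1 hi.2, Int.cast_neg, Int.cast_mul, hsg, one_mul]
      exact add_neg_cancel _
    · intro heq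
      refine hne ?_
      have h1 := hrefl χ i hi.1 hi.2
      rw [heq] at h1
      have hsg1 : sg t k i = 1 := by
        unfold sg
        split_ifs with hkt'
        · subst hkt'
          obtain ⟨m, hm, ⟨c, hc⟩, hm2, -⟩ := h.exists_half
          rw [show i = 2 * c by omega, pow_mul, neg_one_sq, one_pow]
        · rfl
      rw [hsg1, one_mul] at h1
      rw [show (R χ).coeff i = 0 by omega, Int.cast_zero]
    · exact Finset.mem_Ico.2 (by omega)
    · omega
  have h4 := CfsgLib.BlockReg.memIdeal_sub hM (hcongr (R χ)) (hcongr (O.poly χ))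
  have heq := hR χ (ζ ^ g) (by simpa using hprim 1 odd_one)
  rw [heq, sub_sub_sub_cancel_left, ← Int.cast_sub,
    CfsgLib.BlockReg.memIdeal_intCast_iff hM] at h4
  exact (dvd_sub_left hR1).1 h4

end Sd

namespace Lvl

variable [Fintype B] (L : Lvl M B D e x ζ t k)

omit [CharP (ResField M) 2] in
/-- The inversion formula for the coordinates. -/
theorem coord_eq (hζ : IsPrimitiveRoot ζ (2 * 2 ^ t)) (hkt : k ≤ t) (χ : IrrCharacter G) {i : ℕ}
    (hi : i < 2 ^ k) :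
    (L.deg : ℂ) * ((2 ^ k : ℕ) : ℂ) * (L.r χ i : ℂ) = ∑ τ ∈ Finset.range (2 ^ k),
      conj (((ζ ^ 2 ^ (t - k)) ^ (2 * τ + 1)) ^ i) *
        col M D e (x ^ (2 ^ (t - k) * (2 * τ + 1))) χ := by
  rw [mul_assoc, ← inversion Nat.one_le_two_pow (prim_level hζ hkt) (fun l => (L.r χ l : ℂ)) hi,
    Finset.mul_sum]
  refine Finset.sum_congr rfl fun τ _ => ?_
  rw [L.value χ _ (odd_two_mul_add_one τ)]
  ring

omit [CharP (ResField M) 2] in
/-- Linear relations pass to the coordinates. -/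
theorem lin (hζ : IsPrimitiveRoot ζ (2 * 2 ^ t)) (hkt : k ≤ t) (F : IrrCharacter G → ℂ)
    (hF : ∀ τ < 2 ^ k,
      ∑ χ ∈ B.toFinset, F χ * col M D e (x ^ (2 ^ (t - k) * (2 * τ + 1))) χ = 0)
    {i : ℕ} (hi : i < 2 ^ k) : ∑ χ ∈ B.toFinset, F χ * (L.r χ i : ℂ) = 0 := by
  refine (mul_eq_zero.1 (?_ : (L.deg : ℂ) * ((2 ^ k : ℕ) : ℂ) *
    ∑ χ ∈ B.toFinset, F χ * (L.r χ i : ℂ) = 0)).resolve_left
      (mul_ne_zero (Nat.cast_ne_zero.2 L.deg_pos.ne') (Nat.cast_ne_zero.2 (Nat.two_pow_pos k).ne'))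
  rw [Finset.mul_sum, Finset.sum_congr rfl (g := fun χ => ∑ τ ∈ Finset.range (2 ^ k),
    conj (((ζ ^ 2 ^ (t - k)) ^ (2 * τ + 1)) ^ i) *
      (F χ * col M D e (x ^ (2 ^ (t - k) * (2 * τ + 1))) χ)) fun χ _ => by
    rw [mul_left_comm, coord_eq L hζ hkt χ hi, Finset.mul_sum]
    exact Finset.sum_congr rfl fun τ _ => by ring, Finset.sum_comm]
  refine Finset.sum_eq_zero fun τ hτ => ?_
  rw [← Finset.mul_sum, hF τ (Finset.mem_range.1 hτ), mul_zero]

omit [CharP (ResField M) 2] in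
theorem phi_eq (hq : q = 2 ^ t) {o : ℕ} (ho : Odd o) (χ ψ : IrrCharacter G) :
    Phi M B D e x q (2 ^ (t - k) * o) χ ψ =
      (∑ i ∈ Finset.range (2 ^ k), (L.r χ i : ℂ) * ((ζ ^ 2 ^ (t - k)) ^ o) ^ i) *
        conj (∑ i ∈ Finset.range (2 ^ k), (L.r ψ i : ℂ) * ((ζ ^ 2 ^ (t - k)) ^ o) ^ i) := by
  have h2 : (2 * (q : ℂ)) ≠ 0 :=
    mul_ne_zero two_ne_zero (by rw [hq]; exact_mod_cast (Nat.two_pow_pos t).ne')
  rw [Phi, L.value χ o ho, L.value ψ o ho, L.norm o ho, div_eq_iff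
    (mul_ne_zero (pow_ne_zero 2 (Nat.cast_ne_zero.2 L.deg_pos.ne'))
      (by rw [← hq]; push_cast; exact h2)), map_mul, map_natCast, hq]
  push_cast
  ring

omit [CharP (ResField M) 2] in
/-- The contributions of a level add up to the inner product of the coordinates. -/
theorem sum_phi (hq : q = 2 ^ t) (hζ : IsPrimitiveRoot ζ (2 * 2 ^ t)) (hkt : k ≤ t)
    (χ ψ : IrrCharacter G) :
    ∑ τ ∈ Finset.range (2 ^ k), Phi M B D e x q (2 ^ (t - k) * (2 * τ + 1)) χ ψ =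
      ((2 ^ k * ∑ i ∈ Finset.range (2 ^ k), L.r χ i * L.r ψ i : ℤ) : ℂ) := by
  rw [Finset.sum_congr rfl fun τ _ => by
    rw [L.phi_eq hq (odd_two_mul_add_one τ), map_sum, mul_comm, Finset.sum_mul]]
  rw [Finset.sum_comm]
  push_cast
  rw [Finset.mul_sum]
  refine Finset.sum_congr rfl fun i hi => ?_
  rw [Finset.sum_congr rfl fun τ _ => by rw [map_mul, map_intCast, mul_assoc], ← Finset.mul_sum,
    inversion Nat.one_le_two_pow (prim_level hζ hkt) (fun l => (L.r χ l : ℂ))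
      (Finset.mem_range.1 hi)]
  push_cast
  ring

end Lvl

namespace Sd

/-- The Gram matrix of the coordinates of a level. -/
theorem lvl_gram (hM : IsPModular 2 M) (h : Sd D x s q) [Fintype B] {hB : IsPBlock M B}
    (hP : PairOf 2 (ebar hB) D e) (hno : NoExt 2 D e) (hq : q = 2 ^ t)
    (hζ : IsPrimitiveRoot ζ (2 * 2 ^ t)) (hk : 1 ≤ k) (hkt : k ≤ t)
    (L : Lvl M B D e x ζ t k) {i l : ℕ} (hi : i < 2 ^ k) (hl : l < 2 ^ k) :
    ((2 : ℤ) ^ k) * ∑ χ ∈ B.toFinset, L.r χ i * L.r χ l = 2 * (q : ℤ) *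
      ((if i = l then 1 else 0) + sg t k i *
        ((if i + l = 0 then 1 else 0) - if i + l = 2 ^ k then 1 else 0)) := by
  have hω := prim_level hζ hkt
  set ω := ζ ^ 2 ^ (t - k) with hωdef
  set N := 2 ^ k with hNdef
  have hN : 1 ≤ N := Nat.one_le_two_pow
  have hmem : ∀ o, x ^ (2 ^ (t - k) * o) ∈ Subgroup.zpowers x :=
    fun o => Subgroup.npow_mem_zpowers x _
  -- the row of the coordinate against the columns
  have hrow : ∀ τ' < N, (L.deg : ℂ) * (N : ℂ) * ∑ χ ∈ B.toFinset,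
      (L.r χ i : ℂ) * conj (col M D e (x ^ (2 ^ (t - k) * (2 * τ' + 1))) χ) =
      (L.deg : ℂ) ^ 2 * (2 * q : ℂ) * (conj ((ω ^ (2 * τ' + 1)) ^ i) +
        (sg t k i : ℂ) * (ω ^ (2 * τ' + 1)) ^ i) := by
    intro τ' hτ'
    obtain ⟨τ'', hτ'', hpow, hmodeq⟩ :=
      h.level_sigma hq hk hkt (odd_two_mul_add_one τ' : Odd (2 * τ' + 1))
    have hfus : ∀ τ < N, (Fus 2 D e (x ^ (2 ^ (t - k) * (2 * τ + 1)))
        (x ^ (2 ^ (t - k) * (2 * τ' + 1))) ↔ τ = τ' ∨ τ = τ'') := by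
      intro τ hτ
      constructor
      · intro hf
        have hinj : ∀ σ < N, x ^ (2 ^ (t - k) * (2 * τ + 1)) =
            x ^ (2 ^ (t - k) * (2 * σ + 1)) → τ = σ := by
          intro σ hσ heq
          have := h.pow_inj
            (mem_cycIdx.1 (h.level_index hq hk hkt (by omega) (odd_two_mul_add_one τ))).1
            (mem_cycIdx.1 (h.level_index hq hk hkt (by omega) (odd_two_mul_add_one σ))).1 heq
          have := Nat.eq_of_mul_eq_mul_left (Nat.two_pow_pos _) this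
          omega
        rcases h.fus_pow hM hP hno (hmem _) (hmem _) hf.symm with h1 | h1
        · exact Or.inl (hinj τ' hτ' h1)
        · exact Or.inr (hinj τ'' hτ'' (h1.trans hpow.symm))
      · rintro (rfl | rfl)
        · exact fus_refl hP (h.zpowers_le (hmem _))
        · rw [hpow]
          exact (h.fus_sigma hP (hmem _)).symm
    have hne : τ' ≠ τ'' := by
      intro heq
      have hs2 := h.sigma_ne (h.level_index hq hk hkt (o := 2 * τ' + 1) (by omega)
        (odd_two_mul_add_one τ'))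
      refine hs2.2 (h.pow_inj (mem_cycIdx.1 hs2.1).1
        (mem_cycIdx.1 (h.level_index hq hk hkt (by omega) (odd_two_mul_add_one τ'))).1 ?_)
      rw [h.pow_mod_eq, mul_comm, pow_mul, ← hpow, heq]
    rw [Finset.mul_sum, Finset.sum_congr rfl (g := fun χ => ∑ τ ∈ Finset.range N,
      conj ((ω ^ (2 * τ + 1)) ^ i) * (col M D e (x ^ (2 ^ (t - k) * (2 * τ + 1))) χ *
        conj (col M D e (x ^ (2 ^ (t - k) * (2 * τ' + 1))) χ))) fun χ _ => by
      rw [← mul_assoc, L.coord_eq hζ hkt χ hi, Finset.sum_mul]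
      exact Finset.sum_congr rfl fun τ _ => by rw [mul_assoc], Finset.sum_comm]
    simp only [← Finset.mul_sum]
    rw [← Finset.sum_subset (s₁ := {τ', τ''}) (by
      intro τ hτ
      simp only [Finset.mem_insert, Finset.mem_singleton] at hτ
      rcases hτ with rfl | rfl
      exacts [Finset.mem_range.2 hτ', Finset.mem_range.2 hτ'']) fun τ hτ hnot => by
      rw [sum_col_ne hM hB hP (h.zpowers_le (hmem _)) (h.zpowers_le (hmem _)) (fun hf => hnot
        (by simpa using (hfus τ (Finset.mem_range.1 hτ)).1 hf)), mul_zero],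
      Finset.sum_pair hne]
    have hval : ∀ τ < N, τ = τ' ∨ τ = τ'' → ∑ χ ∈ B.toFinset,
        col M D e (x ^ (2 ^ (t - k) * (2 * τ + 1))) χ *
          conj (col M D e (x ^ (2 ^ (t - k) * (2 * τ' + 1))) χ) =
          (L.deg : ℂ) ^ 2 * (2 * q : ℂ) := by
      intro τ hτ hor
      simp only [← col_fus hP ((hfus τ hτ).2 hor)]
      rw [← colNorm, L.norm _ (odd_two_mul_add_one τ'), hq]
      push_cast
      rfl
    rw [hval τ' hτ' (Or.inl rfl), hval τ'' hτ'' (Or.inr rfl), ← add_mul, mul_comm]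
    congr 1
    rw [add_right_inj, hmodeq, ← pow_eq_pow_mod _ hω.pow_eq_one,
      omega_sigma hζ hkt hq (odd_two_mul_add_one τ') i, map_mul, Complex.conj_conj, map_intCast]
  have hdeg : (L.deg : ℂ) ≠ 0 := Nat.cast_ne_zero.2 L.deg_pos.ne'
  have hN0 : (N : ℂ) ≠ 0 := Nat.cast_ne_zero.2 (by omega)
  have key : (L.deg : ℂ) ^ 2 * (N : ℂ) ^ 2 * ((∑ χ ∈ B.toFinset, L.r χ i * L.r χ l : ℤ) : ℂ) =
      (L.deg : ℂ) ^ 2 * (N : ℂ) * ((2 * (q : ℤ) * ((if i = l then 1 else 0) + sg t k i *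
        ((if i + l = 0 then 1 else 0) - if i + l = N then 1 else 0)) : ℤ) : ℂ) := by
    calc _ = ∑ τ' ∈ Finset.range N, (ω ^ (2 * τ' + 1)) ^ l * ((L.deg : ℂ) * (N : ℂ) *
          ∑ χ ∈ B.toFinset, (L.r χ i : ℂ) *
            conj (col M D e (x ^ (2 ^ (t - k) * (2 * τ' + 1))) χ)) := by
          push_cast
          simp only [Finset.mul_sum]
          rw [Finset.sum_comm]
          refine Finset.sum_congr rfl fun χ _ => ?_
          have h2 := congrArg conj (L.coord_eq hζ hkt χ hl)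
          simp only [map_sum, map_mul, map_natCast, map_intCast, Complex.conj_conj] at h2
          calc _ = (L.deg : ℂ) * (N : ℂ) * (L.r χ i : ℂ) *
                ((L.deg : ℂ) * (N : ℂ) * (L.r χ l : ℂ)) := by ring
            _ = _ := by
              rw [h2, Finset.mul_sum]
              exact Finset.sum_congr rfl fun τ _ => by ring
      _ = (L.deg : ℂ) ^ 2 * (2 * q : ℂ) * ((∑ τ' ∈ Finset.range N,
            (ω ^ (2 * τ' + 1)) ^ l * conj ((ω ^ (2 * τ' + 1)) ^ i)) +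
            (sg t k i : ℂ) * ∑ τ' ∈ Finset.range N, (ω ^ (2 * τ' + 1)) ^ (l + i)) := by
          rw [Finset.mul_sum, ← Finset.sum_add_distrib, Finset.mul_sum]
          refine Finset.sum_congr rfl fun τ hτ => ?_
          rw [hrow τ (Finset.mem_range.1 hτ), pow_add]
          ring
      _ = _ := by
          rw [sum_odd_pow_mul_conj hN hω hl hi, sum_odd_pow_value hN hω (by omega : l + i < 2 * N),
            add_comm l i]
          split_ifs <;> first | omega | (push_cast; ring)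
  have h5 : ((L.deg : ℂ) ^ 2 * (N : ℂ)) * (((N : ℤ) * ∑ χ ∈ B.toFinset, L.r χ i * L.r χ l : ℤ) : ℂ)
      = ((L.deg : ℂ) ^ 2 * (N : ℂ)) * ((2 * (q : ℤ) * ((if i = l then 1 else 0) + sg t k i *
        ((if i + l = 0 then 1 else 0) - if i + l = N then 1 else 0)) : ℤ) : ℂ) := by
    rw [← key]
    push_cast
    ring
  have h6 := mul_left_cancel₀ (mul_ne_zero (pow_ne_zero 2 hdeg) hN0) h5
  have h7 : ((N : ℤ)) * ∑ χ ∈ B.toFinset, L.r χ i * L.r χ l = 2 * (q : ℤ) *
      ((if i = l then 1 else 0) + sg t k i *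
        ((if i + l = 0 then 1 else 0) - if i + l = N then 1 else 0)) := by exact_mod_cast h6
  rw [← h7, hNdef]
  push_cast
  rfl

end Sd

end CfsgLib.SdBlocks
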