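import Cfsg.Agent.Lib.DihedralBlocks.Count
import Cfsg.Agent.Lib.SdBlocks.Levels

/-!
# The integral data of a block with central involution and semidihedral defect group
-/

set_option autoImplicit false

open Finset

namespace CfsgLib.SdBlocks

/-- The coordinates vanish except at zero. -/
def Const (k : ℕ) (r : ℕ → ℤ) : Prop := ∀ i, 1 ≤ i → i < 2 ^ k → r i = 0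

/-- The integral data. -/
structure Frame (κ : Type*) [DecidableEq κ] (t : ℕ) where
  S : Finset κ
  H : Finset κ
  sub : H ⊆ S
  card_H : H.card = 4
  two_le : 2 ≤ t
  sgn : κ → ℤ
  sgn_sq : ∀ χ ∈ S, sgn χ * sgn χ = 1
  Z : κ → κ → ℤ
  Z_symm : ∀ χ ψ, Z χ ψ = Z ψ χ
  Z_idem : ∀ χ ∈ S, ∀ ψ ∈ S, ∑ θ ∈ S, Z χ θ * Z θ ψ = 4 * 2 ^ t * Z χ ψ
  Z_ne : ∀ χ ∈ S, ∀ ψ ∈ H, Z χ ψ ≠ 0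
  Z_even : ∀ χ ∈ S, χ ∉ H → ∀ ψ ∈ H, (2 : ℤ) ∣ Z χ ψ
  l : ℕ
  Z_trace : ∑ χ ∈ S, Z χ χ = 4 * 2 ^ t * (l : ℤ)
  card_S : S.card = 2 ^ t + 2 * l
  ws : κ → ℤ
  ws_on : ∀ χ ∈ H, ws χ * ws χ = 1
  ws_off : ∀ χ ∈ S, χ ∉ H → ws χ = 0
  r : ℕ → κ → ℕ → ℤ
  refl : ∀ k, 1 ≤ k → k ≤ t → ∀ χ ∈ S, ∀ i, 1 ≤ i → i < 2 ^ k →
    r k χ (2 ^ k - i) = -(sg t k i * r k χ i)
  odd : ∀ k, 1 ≤ k → k ≤ t → ∀ χ ∈ H, ¬ (2 : ℤ) ∣ r k χ 0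
  gram_top : ∀ i < 2 ^ t, ∀ j < 2 ^ t, ∑ χ ∈ S, r t χ i * r t χ j =
    2 * ((if i = j then 1 else 0) + sg t t i *
      ((if i + j = 0 then 1 else 0) - if i + j = 2 ^ t then 1 else 0))
  gram_one : ∑ χ ∈ S, r 1 χ 0 * r 1 χ 0 = 2 * 2 ^ t
  orth_lvl : ∀ k, 1 ≤ k → k < t → ∀ i < 2 ^ k, ∀ j < 2 ^ t, ∑ χ ∈ S, r k χ i * r t χ j = 0
  orth_ws : ∀ k, 1 ≤ k → k ≤ t → ∀ i < 2 ^ k, ∑ χ ∈ S, ws χ * r k χ i = 0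
  orth_Z : ∀ k, 1 ≤ k → k ≤ t → ∀ i < 2 ^ k, ∀ ψ ∈ S, ∑ χ ∈ S, Z χ ψ * r k χ i = 0
  orth_Z_ws : ∀ ψ ∈ S, ∑ χ ∈ S, Z χ ψ * ws χ = 0
  ident : ∀ χ ∈ S, ∀ ψ ∈ S, Z χ ψ * (1 + sgn χ * sgn ψ) + 2 ^ t * (ws χ * ws ψ) +
    ∑ k ∈ Ico 1 (t + 1), 2 ^ k * ∑ i ∈ range (2 ^ k), r k χ i * r k ψ i =
      if χ = ψ then 4 * 2 ^ t else 0
  test : ∀ m, 1 ≤ m → m < t → ∀ ψ ∈ H, ∀ ψ' ∈ H,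
    (∀ k, m + 1 < k → k ≤ t → Const k (r k ψ) ∧ Const k (r k ψ')) →
    Const t (r t ψ) → Const t (r t ψ') →
    (2 * 2 ^ t : ℤ) ∣ 2 * (2 ^ m * ∑ i ∈ range (2 ^ m), r m ψ i * r m ψ' i) +
      ∑ k ∈ Ico (m + 1) t, 2 ^ k * (∑ i ∈ range (2 ^ k), r k ψ i * r k ψ' i) +
      (if m = 1 then 3 else 1) * 2 ^ t * (r t ψ 0 * r t ψ' 0)
  star : ∀ i, _root_.Odd i → i < 2 ^ (t - 1) → ∃ N : κ → κ → ℤ,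
    (∀ χ ∈ S, ∃ K : ℕ → ℂ, K 1 = 0 ∧ ∀ ψ ∈ H, (∀ k, 1 ≤ k → k ≤ t → Const k (r k ψ)) →
      ((4 * 2 ^ t * N χ ψ : ℤ) : ℂ) = ((2 * Z χ ψ * (1 - sgn χ * sgn ψ) -
        2 * 2 ^ t * (r t χ i * r t ψ 0) : ℤ) : ℂ) + ∑ k ∈ Ico 1 t, K k * (r k ψ 0 : ℂ)) ∧
    (∀ ψ ∈ H, (∀ k, 1 ≤ k → k ≤ t → Const k (r k ψ)) →
      (∀ k, 2 ≤ k → k ≤ t → r k ψ 0 * r k ψ 0 = 1) →
      4 * 2 ^ t * ∑ χ ∈ S, N χ ψ * N χ ψ = 8 * Z ψ ψ + 4 * 2 ^ t - 8) ∧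
    ∀ ψ ∈ H, (∀ k, 1 ≤ k → k ≤ t → Const k (r k ψ)) → ∀ j, 1 ≤ j → j < 2 ^ (t - 1) →
      ∑ χ ∈ S, N χ ψ * r t χ j = if j = i then - r t ψ 0 else 0

end CfsgLib.SdBlocks
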