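import Cfsg.Agent.Lib.SdBlocks.FrameSigns

/-!
# The regular matrix on the characters of height zero
-/

set_option autoImplicit false
set_option maxHeartbeats 800000

open Finset

namespace CfsgLib.SdBlocks

namespace Frame

variable {κ : Type*} [DecidableEq κ] {t : ℕ} (F : Frame κ t)

theorem sign_top {ψ : κ} (hψ : ψ ∈ F.H) : F.r t ψ 0 = 1 ∨ F.r t ψ 0 = -1 :=
  eq_one_or_neg (F.top_const hψ).2

theorem sum_high {ψ ψ' : κ} (hψ : ψ ∈ F.H) (hψ' : ψ' ∈ F.H) :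
    ∑ k ∈ Ico 2 t, 2 ^ k * ∑ i ∈ range (2 ^ k), F.r k ψ i * F.r k ψ' i =
      ((2 : ℤ) ^ t - 4) * (F.r (t - 1) ψ 0 * F.r (t - 1) ψ' 0) := by
  have ht := F.two_le
  rw [show (4 : ℤ) = 2 ^ 2 by norm_num, ← sum_two_pow ht, sum_mul]
  refine sum_congr rfl fun k hk => ?_
  rw [mem_Ico] at hk
  rw [F.sum_const (F.const_ge_two hψ hk.1 hk.2.le)]
  congr 1
  exact F.prod_high hψ hψ' (t - 3) 2 (by omega) le_rfl k hk.1 hk.2

theorem diag_high {ψ : κ} (hψ : ψ ∈ F.H) (ht : 3 ≤ t) :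
    F.r (t - 1) ψ 0 * F.r (t - 1) ψ 0 = 1 := by
  rcases F.sign_high hψ (show 2 ≤ t - 1 by omega) (by omega) with h | h <;> rw [h] <;> norm_num

theorem sum_high_self {ψ : κ} (hψ : ψ ∈ F.H) :
    ∑ k ∈ Ico 2 t, 2 ^ k * ∑ i ∈ range (2 ^ k), F.r k ψ i * F.r k ψ i = (2 : ℤ) ^ t - 4 := by
  rw [F.sum_high hψ hψ]
  rcases Nat.lt_or_ge t 3 with h | h
  · have : t = 2 := by have := F.two_le; omega
    subst this
    norm_num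
  · rw [F.diag_high hψ h, mul_one]

theorem eight_le_q (ht : 3 ≤ t) : (8 : ℤ) ≤ 2 ^ t := by
  calc (8 : ℤ) = 2 ^ 3 := by norm_num
    _ ≤ 2 ^ t := pow_le_pow_right₀ (by norm_num) ht

theorem const_one {ψ : κ} (hψ : ψ ∈ F.H) : Const 1 (F.r 1 ψ) := fun i hi hi' => by
  rw [show i = 2 ^ (1 - 1) by simp; omega]
  exact F.coord_mid le_rfl (by have := F.two_le; omega) (F.sub hψ)

theorem diag_one {ψ : κ} (hψ : ψ ∈ F.H) :
    2 * F.Z ψ ψ + 2 * (F.r 1 ψ 0 * F.r 1 ψ 0) = 2 ^ t + 4 := by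
  have ht := F.two_le
  have h := F.ident_diag hψ
  rw [sum_Ico_succ_top (by omega : 1 ≤ t), sum_eq_sum_Ico_succ_bot (by omega : 1 < t),
    F.sum_const (F.top_const hψ).1, (F.top_const hψ).2, F.sum_high_self hψ,
    F.sum_const (F.const_one hψ)] at h
  linarith

theorem one_sq_cases {ψ : κ} (hψ : ψ ∈ F.H) : F.r 1 ψ 0 * F.r 1 ψ 0 = 1 ∨
    2 * (F.r 1 ψ 0 * F.r 1 ψ 0) = 2 ^ t + 2 := by
  have ht := F.two_le
  have hq := F.four_le_q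
  have h1 := F.test 1 le_rfl (by omega) ψ hψ ψ hψ
    (fun k hk hkt => ⟨F.const_ge_two hψ (by omega) hkt, F.const_ge_two hψ (by omega) hkt⟩)
    (F.top_const hψ).1 (F.top_const hψ).1
  rw [if_pos rfl, F.sum_high_self hψ, (F.top_const hψ).2, F.sum_const (F.const_one hψ)] at h1
  have hb := F.diag_one hψ
  have := F.one_le_Z hψ
  have := F.sq_zero_pos le_rfl (by omega : 1 ≤ t) hψ
  obtain ⟨z, hz⟩ := h1
  have h2 : 2 * (F.r 1 ψ 0 * F.r 1 ψ 0 - 1) = 2 ^ t * (z - 2) := by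
    apply mul_left_cancel₀ (two_ne_zero' ℤ)
    linear_combination hz
  have h3 : 0 ≤ z - 2 := by nlinarith
  have h4 : z - 2 ≤ 1 := by nlinarith
  interval_cases h5 : z - 2
  · left; omega
  · right; omega

theorem one_sign {ψ : κ} (hψ : ψ ∈ F.H) : F.r 1 ψ 0 * F.r 1 ψ 0 = 1 := by
  have ht := F.two_le
  have hq := F.four_le_q
  refine (F.one_sq_cases hψ).resolve_right fun hbad => ?_
  rcases Nat.lt_or_ge t 3 with h | h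
  · have : t = 2 := by omega
    subst this
    have hb : -1 ≤ F.r 1 ψ 0 ∧ F.r 1 ψ 0 ≤ 1 := ⟨by nlinarith, by nlinarith⟩
    nlinarith
  have hq8 := eight_le_q (t := t) h
  obtain ⟨ψ₃, hψ₃, h3⟩ : ∃ ψ₃ ∈ F.H, F.r 1 ψ₃ 0 * F.r 1 ψ₃ 0 = 1 := by
    by_contra hcon
    push Not at hcon
    have h1 := sum_le_sum_of_subset_of_nonneg (f := fun χ => 2 * (F.r 1 χ 0 * F.r 1 χ 0)) F.sub
      fun χ _ _ => mul_nonneg (by norm_num) (mul_self_nonneg _)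
    rw [sum_congr rfl (g := fun _ => (2 : ℤ) ^ t + 2) fun χ hχ =>
      (F.one_sq_cases hχ).resolve_left (hcon χ hχ), Finset.sum_const, F.card_H, ← mul_sum,
      F.gram_one, nsmul_eq_mul] at h1
    push_cast at h1
    omega
  have h1 := F.test 1 le_rfl (by omega) ψ hψ ψ₃ hψ₃
    (fun k hk hkt => ⟨F.const_ge_two hψ (by omega) hkt, F.const_ge_two hψ₃ (by omega) hkt⟩)
    (F.top_const hψ).1 (F.top_const hψ₃).1
  rw [if_pos rfl, F.sum_high hψ hψ₃, F.sum_const (F.const_one hψ)] at h1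
  set P := F.r (t - 1) ψ 0 * F.r (t - 1) ψ₃ 0 with hP
  set φ := F.r t ψ 0 * F.r t ψ₃ 0 with hφ
  set w := F.r 1 ψ 0 * F.r 1 ψ₃ 0 with hw
  have hw2 : 2 * (w * w) = 2 ^ t + 2 := by
    rw [hw, ← hbad]
    linear_combination (2 * (F.r 1 ψ 0 * F.r 1 ψ 0)) * h3
  have hP1 : P = 1 ∨ P = -1 := by
    rcases F.sign_high hψ (show 2 ≤ t - 1 by omega) (by omega) with a | a <;>
      rcases F.sign_high hψ₃ (show 2 ≤ t - 1 by omega) (by omega) with b | b <;>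
      rw [hP, a, b] <;> norm_num
  obtain ⟨c, hc⟩ : ∃ c, P + 3 * φ = 2 * c := by
    have hφ1 : φ = 1 ∨ φ = -1 := by
      rcases F.sign_top hψ with b | b <;>
        rcases F.sign_top hψ₃ with d | d <;> rw [hφ, b, d] <;> norm_num
    exact ⟨(P + 3 * φ) / 2, by omega⟩
  obtain ⟨z, hz⟩ := h1
  have h2 : 2 * (w - P) = 2 ^ t * (z - c) := by
    apply mul_left_cancel₀ (two_ne_zero' ℤ)
    linear_combination hz - (2 : ℤ) ^ t * hc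
  have hsq : (2 * w) * (2 * w) = 2 * 2 ^ t + 4 := by linear_combination 2 * hw2
  rcases lt_trichotomy (z - c) 0 with h5 | h5 | h5
  · have h6 : (2 : ℤ) ^ t * (z - c) ≤ -2 ^ t := by nlinarith
    have h7 : 2 ^ t - 2 ≤ -(2 * w) := by omega
    have h8 := mul_self_le_mul_self (by omega) h7
    nlinarith
  · rw [h5, mul_zero] at h2
    have : w = P := by omega
    rcases hP1 with a | a <;> rw [this, a] at hw2 <;> omega
  · have h6 : (2 : ℤ) ^ t ≤ 2 ^ t * (z - c) := by nlinarith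
    have h7 : 2 ^ t - 2 ≤ 2 * w := by omega
    have h8 := mul_self_le_mul_self (by omega) h7
    nlinarith

/-- All levels are constant on `H`. -/
theorem all_const {ψ : κ} (hψ : ψ ∈ F.H) : ∀ k, 1 ≤ k → k ≤ t → Const k (F.r k ψ) := by
  intro k hk hkt
  rcases eq_or_lt_of_le hk with rfl | h
  exacts [F.const_one hψ, F.const_ge_two hψ h hkt]

/-- The sign vector of the level one. -/
def e₃ (ψ : κ) : ℤ := F.r 1 ψ 0

/-- The sign vector of the top level. -/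
def c₀ (ψ : κ) : ℤ := F.r t ψ 0

/-- The fourth sign vector. -/
def e₄ (ψ : κ) : ℤ := F.c₀ ψ * F.ws ψ * F.e₃ ψ

theorem sq_c₀ {ψ : κ} (hψ : ψ ∈ F.H) : F.c₀ ψ * F.c₀ ψ = 1 := (F.top_const hψ).2

theorem sq_e₃ {ψ : κ} (hψ : ψ ∈ F.H) : F.e₃ ψ * F.e₃ ψ = 1 := F.one_sign hψ

theorem sq_e₄ {ψ : κ} (hψ : ψ ∈ F.H) : F.e₄ ψ * F.e₄ ψ = 1 := by
  rw [e₄]
  linear_combination (F.ws ψ * F.ws ψ * (F.e₃ ψ * F.e₃ ψ)) * F.sq_c₀ hψ +
    (F.e₃ ψ * F.e₃ ψ) * F.ws_on ψ hψ + F.sq_e₃ hψ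

/-- The levels below the top have the products of the level one. -/
theorem lvl_prod {ψ ψ' : κ} (hψ : ψ ∈ F.H) (hψ' : ψ' ∈ F.H) {k : ℕ} (hk : 1 ≤ k) (hkt : k < t) :
    F.r k ψ 0 * F.r k ψ' 0 = F.e₃ ψ * F.e₃ ψ' := by
  rcases eq_or_lt_of_le hk with rfl | hk2
  · rfl
  have ht : 3 ≤ t := by omega
  have hq8 := eight_le_q (t := t) ht
  rw [F.prod_high hψ hψ' (t - 3) 2 (by omega) le_rfl k hk2 hkt]
  have h1 := F.test 1 le_rfl (by omega) ψ hψ ψ' hψ'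
    (fun k hk hkt => ⟨F.const_ge_two hψ (by omega) hkt, F.const_ge_two hψ' (by omega) hkt⟩)
    (F.top_const hψ).1 (F.top_const hψ').1
  rw [if_pos rfl, F.sum_high hψ hψ', F.sum_const (F.const_one hψ)] at h1
  set P := F.r (t - 1) ψ 0 * F.r (t - 1) ψ' 0 with hP
  set φ := F.r t ψ 0 * F.r t ψ' 0 with hφ
  have hP1 : P = 1 ∨ P = -1 := by
    rcases F.sign_high hψ (show 2 ≤ t - 1 by omega) (by omega) with a | a <;>
      rcases F.sign_high hψ' (show 2 ≤ t - 1 by omega) (by omega) with b | b <;>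
      rw [hP, a, b] <;> norm_num
  have hw : F.e₃ ψ * F.e₃ ψ' = 1 ∨ F.e₃ ψ * F.e₃ ψ' = -1 := eq_one_or_neg (by
    linear_combination (F.e₃ ψ' * F.e₃ ψ') * F.sq_e₃ hψ + F.sq_e₃ hψ')
  obtain ⟨z, hz⟩ := h1
  obtain ⟨c, hc⟩ : ∃ c, P + 3 * φ = 2 * c := by
    have hφ1 : φ = 1 ∨ φ = -1 := by
      rcases F.sign_top hψ with b | b <;>
        rcases F.sign_top hψ' with d | d <;> rw [hφ, b, d] <;> norm_num
    exact ⟨(P + 3 * φ) / 2, by omega⟩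
  have h2 : 2 * (F.e₃ ψ * F.e₃ ψ' - P) = 2 ^ t * (z - c) := by
    apply mul_left_cancel₀ (two_ne_zero' ℤ)
    simp only [e₃]
    linear_combination hz - (2 : ℤ) ^ t * hc
  have h0 := Int.eq_zero_of_abs_lt_dvd ⟨_, h2⟩ (by
    rcases hP1 with a | a <;> rcases hw with b | b <;> rw [a, b, abs_lt] <;>
      constructor <;> norm_num <;> omega)
  omega

theorem c₀_off {χ : κ} (hχ : χ ∈ F.S) (hχH : χ ∉ F.H) : F.c₀ χ = 0 := by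
  have h1 := F.gram_top 0 (Nat.two_pow_pos t) 0 (Nat.two_pow_pos t)
  have hne : ¬ (0 = 2 ^ t) := (Nat.two_pow_pos t).ne
  simp only [add_zero, if_true, if_neg hne] at h1
  have hsg : sg t t 0 = 1 := by simp [sg]
  rw [hsg] at h1
  have h2 := sum_sdiff (f := fun χ => F.c₀ χ * F.c₀ χ) F.sub
  rw [sum_congr rfl (g := fun _ => (1 : ℤ)) (s₁ := F.H) fun ψ hψ => F.sq_c₀ hψ,
    Finset.sum_const, F.card_H] at h2
  refine mul_self_eq_zero.1 ((sum_eq_zero_iff_of_nonneg fun ψ _ => mul_self_nonneg (F.c₀ ψ)).1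
    ?_ χ (mem_sdiff.2 ⟨hχ, hχH⟩))
  simp only [c₀] at h2 ⊢
  norm_num at h1 h2
  omega

theorem sum_H_c₀ (f : κ → ℤ) : ∑ ψ ∈ F.H, F.c₀ ψ * f ψ = ∑ ψ ∈ F.S, F.c₀ ψ * f ψ :=
  sum_subset F.sub fun ψ hψ hψH => by rw [F.c₀_off hψ hψH, zero_mul]

theorem sum_H_ws (f : κ → ℤ) : ∑ ψ ∈ F.H, F.ws ψ * f ψ = ∑ ψ ∈ F.S, F.ws ψ * f ψ :=
  sum_subset F.sub fun ψ hψ hψH => by rw [F.ws_off ψ hψ hψH, zero_mul]

theorem orth_c₀_ws : ∑ ψ ∈ F.H, F.c₀ ψ * F.ws ψ = 0 := by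
  rw [F.sum_H_c₀, ← F.orth_ws t (by have := F.two_le; omega) le_rfl 0 (Nat.two_pow_pos t)]
  exact sum_congr rfl fun ψ _ => mul_comm _ _

theorem orth_c₀_e₃ : ∑ ψ ∈ F.H, F.c₀ ψ * F.e₃ ψ = 0 := by
  rw [F.sum_H_c₀, ← F.orth_lvl 1 le_rfl (by have := F.two_le; omega) 0 (Nat.two_pow_pos 1) 0
    (Nat.two_pow_pos t)]
  exact sum_congr rfl fun ψ _ => mul_comm _ _

theorem orth_ws_e₃ : ∑ ψ ∈ F.H, F.ws ψ * F.e₃ ψ = 0 := by
  rw [F.sum_H_ws]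
  exact F.orth_ws 1 le_rfl (by have := F.two_le; omega) 0 (Nat.two_pow_pos 1)

theorem orth_c₀_e₄ : ∑ ψ ∈ F.H, F.c₀ ψ * F.e₄ ψ = 0 := by
  rw [← F.orth_ws_e₃]
  exact sum_congr rfl fun ψ hψ => by
    rw [e₄]; linear_combination (F.ws ψ * F.e₃ ψ) * F.sq_c₀ hψ

theorem orth_ws_e₄ : ∑ ψ ∈ F.H, F.ws ψ * F.e₄ ψ = 0 := by
  rw [← F.orth_c₀_e₃]
  exact sum_congr rfl fun ψ hψ => by
    rw [e₄]; linear_combination (F.c₀ ψ * F.e₃ ψ) * F.ws_on ψ hψ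

theorem orth_e₃_e₄ : ∑ ψ ∈ F.H, F.e₃ ψ * F.e₄ ψ = 0 := by
  rw [← F.orth_c₀_ws]
  exact sum_congr rfl fun ψ hψ => by
    rw [e₄]; linear_combination (F.c₀ ψ * F.ws ψ) * F.sq_e₃ hψ

theorem sum_sq_one {f : κ → ℤ} (hf : ∀ ψ ∈ F.H, f ψ * f ψ = 1) :
    ∑ ψ ∈ F.H, f ψ * f ψ = 4 := by
  rw [sum_congr rfl hf, Finset.sum_const, F.card_H]
  rfl

/-- The four sign vectors are complete. -/
theorem compl {ψ ψ' : κ} (hψ : ψ ∈ F.H) (hψ' : ψ' ∈ F.H) :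
    F.c₀ ψ * F.c₀ ψ' + F.ws ψ * F.ws ψ' + F.e₃ ψ * F.e₃ ψ' + F.e₄ ψ * F.e₄ ψ' =
      if ψ = ψ' then 4 else 0 := by
  set K : κ → ℤ := fun φ =>
    F.c₀ ψ * F.c₀ φ + F.ws ψ * F.ws φ + F.e₃ ψ * F.e₃ φ + F.e₄ ψ * F.e₄ φ with hK
  have hψ4 : K ψ = 4 := by
    simp only [hK, F.sq_c₀ hψ, F.ws_on ψ hψ, F.sq_e₃ hψ, F.sq_e₄ hψ]
    norm_num
  split_ifs with heq
  · subst heq; exact hψ4
  have htot : ∑ φ ∈ F.H, K φ * K φ = 16 := by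
    rw [sum_congr rfl (g := fun φ => F.c₀ ψ * F.c₀ ψ * (F.c₀ φ * F.c₀ φ) +
      F.ws ψ * F.ws ψ * (F.ws φ * F.ws φ) + F.e₃ ψ * F.e₃ ψ * (F.e₃ φ * F.e₃ φ) +
      F.e₄ ψ * F.e₄ ψ * (F.e₄ φ * F.e₄ φ) + 2 * F.c₀ ψ * F.ws ψ * (F.c₀ φ * F.ws φ) +
      2 * F.c₀ ψ * F.e₃ ψ * (F.c₀ φ * F.e₃ φ) + 2 * F.c₀ ψ * F.e₄ ψ * (F.c₀ φ * F.e₄ φ) +
      2 * F.ws ψ * F.e₃ ψ * (F.ws φ * F.e₃ φ) + 2 * F.ws ψ * F.e₄ ψ * (F.ws φ * F.e₄ φ) +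
      2 * F.e₃ ψ * F.e₄ ψ * (F.e₃ φ * F.e₄ φ)) fun φ _ => by simp only [hK]; ring]
    simp only [sum_add_distrib, ← mul_sum, F.orth_c₀_ws, F.orth_c₀_e₃, F.orth_c₀_e₄,
      F.orth_ws_e₃, F.orth_ws_e₄, F.orth_e₃_e₄, F.sum_sq_one (fun φ => F.sq_c₀),
      F.sum_sq_one F.ws_on, F.sum_sq_one (fun φ => F.sq_e₃), F.sum_sq_one (fun φ => F.sq_e₄)]
    rw [F.sq_c₀ hψ, F.ws_on ψ hψ, F.sq_e₃ hψ, F.sq_e₄ hψ]
    norm_num
  rw [← add_sum_erase _ _ hψ, hψ4] at htot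
  have h0 := (sum_eq_zero_iff_of_nonneg fun φ _ => mul_self_nonneg (K φ)).1
    (by omega : ∑ φ ∈ F.H.erase ψ, K φ * K φ = 0) ψ' (mem_erase.2 ⟨Ne.symm heq, hψ'⟩)
  exact mul_self_eq_zero.1 h0

/-- The regular matrix and the signs on `H`. -/
theorem Z_H {ψ ψ' : κ} (hψ : ψ ∈ F.H) (hψ' : ψ' ∈ F.H) :
    F.sgn ψ = F.sgn ψ' ∧
      F.Z ψ ψ' = F.e₃ ψ * F.e₃ ψ' + 2 ^ (t - 1) * (F.e₄ ψ * F.e₄ ψ') := by
  have ht := F.two_le
  have hq := F.q_eq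
  have h := F.ident ψ (F.sub hψ) ψ' (F.sub hψ')
  rw [sum_Ico_succ_top (by omega : 1 ≤ t),
    sum_congr rfl (g := fun k => (2 : ℤ) ^ k * (F.e₃ ψ * F.e₃ ψ')) fun k hk => by
      rw [mem_Ico] at hk
      rw [F.sum_const (F.all_const hψ k hk.1 hk.2.le), F.lvl_prod hψ hψ' hk.1 hk.2],
    ← sum_mul, sum_two_pow (by omega : 1 ≤ t), F.sum_const (F.top_const hψ).1, pow_one] at h
  have hc := F.compl hψ hψ'
  have key : F.Z ψ ψ' * (1 + F.sgn ψ * F.sgn ψ') =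
      2 * (F.e₃ ψ * F.e₃ ψ') + 2 ^ t * (F.e₄ ψ * F.e₄ ψ') := by
    simp only [c₀] at hc
    split_ifs at h hc with heq <;> linear_combination h - (2 : ℤ) ^ t * hc
  have hne : 2 * (F.e₃ ψ * F.e₃ ψ') + 2 ^ t * (F.e₄ ψ * F.e₄ ψ') ≠ (0 : ℤ) := by
    have h4 := F.four_le_q
    rcases eq_one_or_neg (F.sq_e₃ hψ) with a | a <;> rcases eq_one_or_neg (F.sq_e₃ hψ') with b | b <;>
      rcases eq_one_or_neg (F.sq_e₄ hψ) with c | c <;>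
      rcases eq_one_or_neg (F.sq_e₄ hψ') with d | d <;> rw [a, b, c, d] <;> omega
  have hs : F.sgn ψ = F.sgn ψ' := by
    rcases eq_one_or_neg (F.sgn_sq ψ (F.sub hψ)) with a | a <;>
      rcases eq_one_or_neg (F.sgn_sq ψ' (F.sub hψ')) with b | b <;> rw [a, b] at key ⊢ <;>
      exact absurd (by linarith [key]) hne
  refine ⟨hs, mul_left_cancel₀ (two_ne_zero' ℤ) ?_⟩
  rw [hs, F.sgn_sq ψ' (F.sub hψ')] at key
  linear_combination key + (F.e₄ ψ * F.e₄ ψ') * hq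

/-- A function orthogonal to two of the sign vectors is a combination of the other two. -/
theorem expand {f : κ → ℤ} (h0 : ∑ ψ ∈ F.H, F.c₀ ψ * f ψ = 0)
    (hw : ∑ ψ ∈ F.H, F.ws ψ * f ψ = 0) {ψ : κ} (hψ : ψ ∈ F.H) :
    4 * f ψ = (∑ φ ∈ F.H, F.e₃ φ * f φ) * F.e₃ ψ + (∑ φ ∈ F.H, F.e₄ φ * f φ) * F.e₄ ψ := by
  have h1 : ∑ φ ∈ F.H, (F.c₀ ψ * F.c₀ φ + F.ws ψ * F.ws φ + F.e₃ ψ * F.e₃ φ +
      F.e₄ ψ * F.e₄ φ) * f φ = 4 * f ψ := by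
    rw [sum_congr rfl fun φ hφ => by rw [F.compl hψ hφ]]
    simp [ite_mul, hψ]
  rw [← h1]
  simp only [add_mul, sum_add_distrib, mul_assoc, ← mul_sum, h0, hw]
  ring

end Frame

end CfsgLib.SdBlocks
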