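import Cfsg.Agent.Lib.SdBlocks.FrameOff

/-!
# The regular matrix of a block with central involution and semidihedral defect group
-/

set_option autoImplicit false
set_option maxHeartbeats 1600000

open Finset

namespace CfsgLib.SdBlocks

theorem two_dvd_mul_self_sub (n : ℤ) : (2 : ℤ) ∣ n * n - n := by
  obtain ⟨c, hc⟩ := Int.even_mul_pred_self n
  exact ⟨c, by linear_combination hc⟩

theorem le_mul_self_of_sign {e n : ℤ} (he : e * e = 1) : e * n ≤ n * n ∧ -(e * n) ≤ n * n := by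
  rcases lt_trichotomy n 0 with h | h | h <;> rcases eq_one_or_neg he with a | a <;> subst a <;>
    constructor <;> nlinarith

namespace Frame

variable {κ : Type*} [DecidableEq κ] {t : ℕ} (F : Frame κ t) {a w : κ → ℤ}

theorem top_row {χ : κ} (hc : F.Coord a w) (hχ : χ ∈ F.S) (hH : χ ∉ F.H) (hw : w χ ≠ 0) :
    ∀ ψ ∈ F.H, F.sgn χ * F.sgn ψ = -1 := by
  intro ψ hψ
  have hs : F.sgn χ * F.sgn ψ = 1 ∨ F.sgn χ * F.sgn ψ = -1 := by
    rcases eq_one_or_neg (F.sgn_sq χ hχ) with b | b <;>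
      rcases eq_one_or_neg (F.sgn_sq ψ (F.sub hψ)) with c | c <;> rw [b, c] <;> norm_num
  exact hs.resolve_left fun h => hw (hc.w_sgn χ hχ ψ hψ h hH)

theorem gram_coord {i j : ℕ} (hi1 : 1 ≤ i) (hi : i < 2 ^ (t - 1)) (hj : j < 2 ^ (t - 1)) :
    ∑ χ ∈ F.S, F.r t χ i * F.r t χ j = if i = j then 2 else 0 := by
  have h2 : 2 ^ t = 2 * 2 ^ (t - 1) := by
    rw [← pow_succ', Nat.sub_add_cancel (by have := F.two_le; omega)]
  rw [F.gram_top i (by omega) j (by omega), if_neg (by omega : ¬ i + j = 0),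
    if_neg (by omega : ¬ i + j = 2 ^ t)]
  split_ifs <;> ring

theorem sum_w_off (hc : F.Coord a w) : ∑ χ ∈ F.S \ F.H, w χ * w χ = 4 := by
  have h1 := sum_sdiff (f := fun χ => w χ * w χ) F.sub
  rw [hc.gram.2.1, sum_congr rfl (s₁ := F.H) (g := fun ψ => F.e₄ ψ * F.e₄ ψ) fun ψ hψ => by
    rw [hc.w_H ψ hψ], F.sum_sq_one (fun ψ => F.sq_e₄)] at h1
  linarith

/-- The second coordinate does not have four entries of absolute value one off `H`. -/
theorem not_four (hc : F.Coord a w) (h1 : ∀ χ ∈ F.S \ F.H, w χ * w χ ≤ 1) : False := by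
  have ht := F.two_le
  have hq := F.q_eq
  have hoff := F.sum_w_off hc
  set W4 := (F.S \ F.H).filter fun χ => w χ ≠ 0 with hW4
  have hmem : ∀ χ ∈ W4, χ ∈ F.S ∧ χ ∉ F.H ∧ w χ * w χ = 1 := fun χ hχ => by
    obtain ⟨hd, hne⟩ := mem_filter.1 hχ
    have := h1 χ hd
    have := mul_self_pos.2 hne
    exact ⟨(mem_sdiff.1 hd).1, (mem_sdiff.1 hd).2, by omega⟩
  have hcard : W4.card = 4 := by
    rw [← sum_subset (s₁ := W4) (filter_subset _ _) fun χ hχ hn => by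
      have : w χ = 0 := by_contra fun h => hn (mem_filter.2 ⟨hχ, h⟩)
      rw [this, mul_zero], sum_congr rfl fun χ hχ => (hmem χ hχ).2.2, Finset.sum_const,
      nsmul_eq_mul, mul_one] at hoff
    exact_mod_cast hoff
  have hW4S : W4 ⊆ F.S := fun χ hχ => (hmem χ hχ).1
  -- the rows of the twisted matrices are supported on the four characters
  have hsupp : ∀ i, _root_.Odd i → i < 2 ^ (t - 1) → ∃ N : κ → κ → ℤ,
      (∀ χ ∈ F.S, χ ∉ W4 → F.r t χ i = 0 ∧ ∀ ψ ∈ F.H, N χ ψ = 0) ∧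
      (t = 2 → ∀ χ ∈ F.S, ∀ ψ ∈ F.H, 8 * N χ ψ =
        F.Z χ ψ * (1 - F.sgn χ * F.sgn ψ) - 4 * (F.r t χ i * F.c₀ ψ)) ∧
      (∀ ψ ∈ F.H, ∑ χ ∈ F.S, N χ ψ * N χ ψ = 2) ∧
      ∀ ψ ∈ F.H, ∀ j, 1 ≤ j → j < 2 ^ (t - 1) →
        ∑ χ ∈ F.S, N χ ψ * F.r t χ j = if j = i then - F.c₀ ψ else 0 := by
    intro i hi hih
    obtain ⟨N, h4, h0, h2, hn, ho⟩ := F.exists_star_facts hi hih
    refine ⟨N, ?_, h2, hn, ho⟩
    have hge : ∀ χ ∈ W4, 2 ≤ ∑ ψ ∈ F.H, N χ ψ * N χ ψ := by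
      intro χ hχ
      obtain ⟨hS, hH, hw⟩ := hmem χ hχ
      have hw0 : w χ ≠ 0 := fun h => by rw [h] at hw; norm_num at hw
      have h := h4 χ hS (-1) (F.top_row hc hS hH hw0)
      rw [hc.sum_e₄ hS] at h
      have h' : ∑ ψ ∈ F.H, F.e₄ ψ * N χ ψ = 2 * w χ :=
        mul_left_cancel₀ (a := (2 * 2 ^ t : ℤ)) (by positivity) (h.trans (by
          linear_combination -4 * w χ * hq))
      have hA := sum_le_sum (s := F.H) fun ψ hψ => (le_mul_self_of_sign (n := N χ ψ) (F.sq_e₄ hψ)).1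
      have hB := sum_le_sum (s := F.H) fun ψ hψ => (le_mul_self_of_sign (n := N χ ψ) (F.sq_e₄ hψ)).2
      rw [h'] at hA
      rw [sum_neg_distrib, h'] at hB
      rcases eq_one_or_neg hw with e | e <;> rw [e] at hA hB <;> omega
    have htot : ∑ χ ∈ F.S, ∑ ψ ∈ F.H, N χ ψ * N χ ψ = 8 := by
      rw [Finset.sum_comm, sum_congr rfl hn, Finset.sum_const, F.card_H]
      rfl
    rw [← sum_sdiff hW4S] at htot
    have h8 : (8 : ℤ) ≤ ∑ χ ∈ W4, ∑ ψ ∈ F.H, N χ ψ * N χ ψ := by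
      refine le_trans ?_ (sum_le_sum hge)
      rw [Finset.sum_const, hcard]
      rfl
    have hnn : ∀ χ ∈ F.S \ W4, 0 ≤ ∑ ψ ∈ F.H, N χ ψ * N χ ψ := fun χ _ =>
      sum_nonneg fun ψ _ => mul_self_nonneg _
    have hz := (sum_eq_zero_iff_of_nonneg hnn).1 (le_antisymm (by omega) (sum_nonneg hnn))
    intro χ hχ hW
    have hN : ∀ ψ ∈ F.H, N χ ψ = 0 := fun ψ hψ => mul_self_eq_zero.1
      ((sum_eq_zero_iff_of_nonneg fun φ _ => mul_self_nonneg (N χ φ)).1
        (hz χ (mem_sdiff.2 ⟨hχ, hW⟩)) ψ hψ)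
    refine ⟨?_, hN⟩
    obtain ⟨σ, hσ⟩ := F.exists_sigma (χ := χ)
    have h := h0 χ hχ σ hσ
    rw [sum_eq_zero fun ψ hψ => by rw [hN ψ hψ, mul_zero]] at h
    omega
  have hP : ∀ i, 1 ≤ i → i < 2 ^ (t - 1) → ∀ χ ∈ F.S,
      F.r t χ i = 1 ∨ F.r t χ i = 0 ∨ F.r t χ i = -1 := by
    intro i hi hih χ hχ
    have hle := single_le_sum (f := fun θ => F.r t θ i * F.r t θ i) (fun θ _ => mul_self_nonneg _) hχ
    rw [F.gram_coord hi hih hih, if_pos rfl] at hle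
    have : -1 ≤ F.r t χ i ∧ F.r t χ i ≤ 1 := ⟨by nlinarith, by nlinarith⟩
    omega
  have h1h : 1 < 2 ^ (t - 1) := by
    calc 1 < 2 ^ 1 := by norm_num
      _ ≤ _ := Nat.pow_le_pow_right two_pos (by omega)
  obtain ⟨N, hN0, hN2, hNn, hNo⟩ := hsupp 1 odd_one h1h
  obtain ⟨ψ, hψ⟩ := card_pos.1 (F.card_H.symm ▸ (by norm_num : 0 < 4))
  rcases Nat.lt_or_ge t 3 with ht3 | ht3
  · -- four elements only in the cyclic quotient
    obtain ⟨χ, hχ, hr⟩ : ∃ χ ∈ W4, F.r t χ 1 = 0 := by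
      by_contra hcon
      push Not at hcon
      have h2 := sum_le_sum_of_subset_of_nonneg (f := fun θ => F.r t θ 1 * F.r t θ 1) hW4S
        fun θ _ _ => mul_self_nonneg _
      rw [F.gram_coord le_rfl h1h h1h, if_pos rfl, sum_congr rfl (g := fun _ => (1 : ℤ))
        (s₁ := W4) fun θ hθ => by
          rcases hP 1 le_rfl h1h θ (hW4S hθ) with e | e | e
          · rw [e]; norm_num
          · exact absurd e (hcon θ hθ)
          · rw [e]; norm_num, Finset.sum_const, hcard] at h2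
      norm_num at h2
    obtain ⟨hS, hH, hw⟩ := hmem χ hχ
    have hw0 : w χ ≠ 0 := fun h => by rw [h] at hw; norm_num at hw
    have ht2 : t = 2 := by omega
    have eh : (2 : ℤ) ^ (t - 1) = 2 := by rw [ht2]; norm_num
    have eq' : (2 : ℤ) ^ t = 4 := by rw [ht2]; norm_num
    have hZ : ∀ φ ∈ F.H, 4 * N χ φ = a χ * F.e₃ φ + 2 * (w χ * F.e₄ φ) := fun φ hφ => by
      have h := hN2 ht2 χ hS φ hφ
      rw [F.top_row hc hS hH hw0 φ hφ, hr, hc.form χ hS φ hφ, eh] at h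
      norm_num at h
      linarith
    have ha : a χ * a χ ≤ 12 := by
      have h2 := sum_sdiff (f := fun θ => a θ * a θ) F.sub
      rw [hc.gram.1, sum_congr rfl (s₁ := F.H) (g := fun φ => F.e₃ φ * F.e₃ φ) fun φ hφ => by
        rw [hc.a_H φ hφ], F.sum_sq_one (fun φ => F.sq_e₃), eq'] at h2
      have h3 := single_le_sum (f := fun θ => a θ * a θ) (fun θ _ => mul_self_nonneg _)
        (mem_sdiff.2 ⟨hS, hH⟩)
      norm_num at h2
      linarith
    have hb : -3 ≤ a χ ∧ a χ ≤ 3 := ⟨by nlinarith, by nlinarith⟩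
    obtain ⟨c, hc2⟩ := hc.a_even χ hS hH
    -- the regular matrix has a zero
    have hnz : ∀ φ ∈ F.H, a χ * F.e₃ φ + 2 * (w χ * F.e₄ φ) ≠ 0 := fun φ hφ h => by
      refine F.Z_ne χ hS φ hφ ?_
      rw [hc.form χ hS φ hφ, eh]
      norm_num
      linarith
    have hsame : ∀ φ ∈ F.H, F.e₃ φ * F.e₄ φ = c * w χ := by
      intro φ hφ
      have h := hnz φ hφ
      have h4 := hZ φ hφ
      rw [hc2] at h h4
      have hc3 : c = -1 ∨ c = 0 ∨ c = 1 := by omega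
      rcases hc3 with e | e | e <;> rcases eq_one_or_neg (F.sq_e₃ hφ) with e1 | e1 <;>
        rcases eq_one_or_neg (F.sq_e₄ hφ) with e2 | e2 <;> rcases eq_one_or_neg hw with e3 | e3 <;>
        rw [e, e1, e2, e3] at h h4 ⊢ <;> omega
    have h := F.orth_e₃_e₄
    rw [sum_congr rfl hsame, Finset.sum_const, F.card_H, nsmul_eq_mul] at h
    have hc0 : c ≠ 0 := fun e => by
      have h4 := hZ ψ hψ
      rw [hc2, e] at h4
      rcases eq_one_or_neg (F.sq_e₄ hψ) with e2 | e2 <;> rcases eq_one_or_neg hw with e3 | e3 <;>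
        rw [e2, e3] at h4 <;> omega
    exact mul_ne_zero (by norm_num) (mul_ne_zero hc0 hw0) h
  · -- at least eight
    have h3h : 3 < 2 ^ (t - 1) := by
      calc 3 < 2 ^ 2 := by norm_num
        _ ≤ _ := Nat.pow_le_pow_right two_pos (by omega)
    obtain ⟨N', hN'0, -, -, -⟩ := hsupp 3 ⟨1, rfl⟩ h3h
    have e11 : ∑ χ ∈ W4, F.r t χ 1 * F.r t χ 1 = 2 := by
      rw [sum_subset hW4S fun χ hχ hW => by rw [(hN0 χ hχ hW).1, mul_zero],
        F.gram_coord le_rfl h1h h1h, if_pos rfl]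
    have e33 : ∑ χ ∈ W4, F.r t χ 3 * F.r t χ 3 = 2 := by
      rw [sum_subset hW4S fun χ hχ hW => by rw [(hN'0 χ hχ hW).1, mul_zero],
        F.gram_coord (by norm_num) h3h h3h, if_pos rfl]
    have e13 : ∑ χ ∈ W4, F.r t χ 1 * F.r t χ 3 = 0 := by
      rw [sum_subset hW4S fun χ hχ hW => by rw [(hN0 χ hχ hW).1, zero_mul],
        F.gram_coord le_rfl h1h h3h, if_neg (by norm_num)]
    have eNN : ∑ χ ∈ W4, N χ ψ * N χ ψ = 2 := by
      rw [sum_subset hW4S fun χ hχ hW => by rw [(hN0 χ hχ hW).2 ψ hψ, mul_zero], hNn ψ hψ]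
    have eN1 : ∑ χ ∈ W4, N χ ψ * F.r t χ 1 = - F.c₀ ψ := by
      rw [sum_subset hW4S fun χ hχ hW => by rw [(hN0 χ hχ hW).1, mul_zero],
        hNo ψ hψ 1 le_rfl h1h, if_pos rfl]
    have eN3 : ∑ χ ∈ W4, N χ ψ * F.r t χ 3 = 0 := by
      rw [sum_subset hW4S fun χ hχ hW => by rw [(hN'0 χ hχ hW).1, mul_zero],
        hNo ψ hψ 3 (by norm_num) h3h, if_neg (by norm_num)]
    have hcases : (∀ χ ∈ W4, F.r t χ 1 * F.r t χ 1 = F.r t χ 3 * F.r t χ 3) ∨
        ∀ χ ∈ W4, F.r t χ 1 * F.r t χ 1 + F.r t χ 3 * F.r t χ 3 = 1 := by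
      set m := ∑ χ ∈ W4, (F.r t χ 1 * F.r t χ 3) * (F.r t χ 1 * F.r t χ 3) with hm
      have hv : ∀ χ ∈ W4, ∀ i, i = 1 ∨ i = 3 →
          F.r t χ i * F.r t χ i * (F.r t χ i * F.r t χ i) = F.r t χ i * F.r t χ i := by
        intro χ hχ i hi
        rcases hP i (by omega) (by omega) χ (hW4S hχ) with e | e | e <;> rw [e] <;> norm_num
      have hd : ∑ χ ∈ W4, (F.r t χ 1 * F.r t χ 1 - F.r t χ 3 * F.r t χ 3) *
          (F.r t χ 1 * F.r t χ 1 - F.r t χ 3 * F.r t χ 3) = 4 - 2 * m := by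
        rw [sum_congr rfl (g := fun χ => F.r t χ 1 * F.r t χ 1 + F.r t χ 3 * F.r t χ 3 -
          2 * ((F.r t χ 1 * F.r t χ 3) * (F.r t χ 1 * F.r t χ 3))) fun χ hχ => by
          linear_combination hv χ hχ 1 (Or.inl rfl) + hv χ hχ 3 (Or.inr rfl),
          sum_sub_distrib, sum_add_distrib, e11, e33, ← mul_sum]
        ring
      have hm0 : 0 ≤ m := sum_nonneg fun _ _ => mul_self_nonneg _
      have hd0 : 0 ≤ (4 : ℤ) - 2 * m := hd ▸ sum_nonneg fun _ _ => mul_self_nonneg _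
      obtain ⟨c, hcm⟩ : (2 : ℤ) ∣ m := by
        have h2 : (2 : ℤ) ∣ ∑ χ ∈ W4, ((F.r t χ 1 * F.r t χ 3) * (F.r t χ 1 * F.r t χ 3) -
            F.r t χ 1 * F.r t χ 3) := dvd_sum fun χ _ => two_dvd_mul_self_sub _
        rwa [sum_sub_distrib, e13, sub_zero, ← hm] at h2
      rcases (show m = 0 ∨ m = 2 by omega) with e | e
      · right
        intro χ hχ
        have hz := (sum_eq_zero_iff_of_nonneg fun θ _ => mul_self_nonneg
          (F.r t θ 1 * F.r t θ 3)).1 e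
        have hp : ∀ θ ∈ W4, 0 ≤ 1 - (F.r t θ 1 * F.r t θ 1 + F.r t θ 3 * F.r t θ 3) := fun θ hθ => by
          have h5 := hz θ hθ
          rcases hP 1 le_rfl h1h θ (hW4S hθ) with a1 | a1 | a1 <;>
            rcases hP 3 (by norm_num) h3h θ (hW4S hθ) with a3 | a3 | a3 <;>
            rw [a1, a3] at h5 ⊢ <;> first | omega | (norm_num at h5; done) | norm_num
        have := (sum_eq_zero_iff_of_nonneg hp).1 (by
          rw [sum_sub_distrib, sum_add_distrib, e11, e33, Finset.sum_const, hcard]; rfl) χ hχ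
        omega
      · left
        rw [e] at hd
        intro χ hχ
        have := (sum_eq_zero_iff_of_nonneg fun θ _ => mul_self_nonneg
          (F.r t θ 1 * F.r t θ 1 - F.r t θ 3 * F.r t θ 3)).1 (by rw [hd]; ring) χ hχ
        exact sub_eq_zero.1 (mul_self_eq_zero.1 this)
    rcases hcases with heq | hone
    · have h2 : (2 : ℤ) ∣ ∑ χ ∈ W4, (N χ ψ * F.r t χ 1 - N χ ψ * F.r t χ 3) := dvd_sum fun χ hχ => by
        rw [← mul_sub]
        refine Dvd.dvd.mul_left ?_ _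
        have h5 := heq χ hχ
        rcases hP 1 le_rfl h1h χ (hW4S hχ) with a1 | a1 | a1 <;>
          rcases hP 3 (by norm_num) h3h χ (hW4S hχ) with a3 | a3 | a3 <;>
          rw [a1, a3] at h5 ⊢ <;> first | omega | (norm_num at h5; done) | norm_num
      rw [sum_sub_distrib, eN1, eN3] at h2
      rcases F.sign_top hψ with e | e <;> simp only [c₀, e] at h2 <;> norm_num at h2
    · have h2 : (2 : ℤ) ∣ ∑ χ ∈ W4, (N χ ψ * N χ ψ - N χ ψ * F.r t χ 1 - N χ ψ * F.r t χ 3) :=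
        dvd_sum fun χ hχ => by
          have h5 := hone χ hχ
          have h6 := two_dvd_mul_self_sub (N χ ψ)
          rcases hP 1 le_rfl h1h χ (hW4S hχ) with a1 | a1 | a1 <;>
            rcases hP 3 (by norm_num) h3h χ (hW4S hχ) with a3 | a3 | a3 <;>
            rw [a1, a3] at h5 ⊢ <;> first | omega | (norm_num at h5; done) | (norm_num; omega)
      rw [sum_sub_distrib, sum_sub_distrib, eNN, eN1, eN3] at h2
      rcases F.sign_top hψ with e | e <;> simp only [c₀, e] at h2 <;> norm_num at h2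

/-- The second coordinate off `H`. -/
theorem exists_star_point (hc : F.Coord a w) : ∃ st ∈ F.S \ F.H, (w st = 2 ∨ w st = -2) ∧
    ∀ χ ∈ F.S \ F.H, χ ≠ st → w χ = 0 := by
  obtain ⟨st, hst, h2⟩ : ∃ st ∈ F.S \ F.H, 1 < w st * w st := by
    by_contra hcon
    push Not at hcon
    exact F.not_four hc hcon
  have hoff := F.sum_w_off hc
  rw [← add_sum_erase _ _ hst] at hoff
  have hnn : ∀ χ ∈ (F.S \ F.H).erase st, 0 ≤ w χ * w χ := fun χ _ => mul_self_nonneg _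
  have h0 := sum_nonneg hnn
  have hb : -2 ≤ w st ∧ w st ≤ 2 := ⟨by nlinarith, by nlinarith⟩
  have hval : w st = 2 ∨ w st = -2 := by
    rcases (show w st = -2 ∨ w st = -1 ∨ w st = 0 ∨ w st = 1 ∨ w st = 2 by omega) with
      e | e | e | e | e <;> rw [e] at h2 ⊢ <;> omega
  refine ⟨st, hst, hval, fun χ hχ hne => ?_⟩
  refine mul_self_eq_zero.1 ((sum_eq_zero_iff_of_nonneg hnn).1 ?_ χ (mem_erase.2 ⟨hne, hχ⟩))
  rcases hval with e | e <;> rw [e] at hoff <;> linarith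

/-- **The regular matrix.** -/
theorem main : F.l = 2 ∧ ∃ a w : κ → ℤ,
    (∀ χ ∈ F.S, ∀ ψ ∈ F.S, F.Z χ ψ = a χ * a ψ + 2 ^ (t - 1) * (w χ * w ψ)) ∧
    (∑ χ ∈ F.S, a χ * a χ = 4 * 2 ^ t) ∧ (∑ χ ∈ F.S, w χ * w χ = 8) ∧
    (∑ χ ∈ F.S, a χ * w χ = 0) ∧ ∀ χ ∈ F.S, (2 : ℤ) ∣ a χ - w χ := by
  have ht := F.two_le
  have hq := F.q_eq
  obtain ⟨a, w, hc⟩ := F.exists_coord
  obtain ⟨st, hst, hst2, hst0⟩ := F.exists_star_point hc
  obtain ⟨hstS, hstH⟩ := mem_sdiff.1 hst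
  obtain ⟨ga, gw, gaw⟩ := hc.gram
  set m := 2 ^ (t - 1) with hm
  have hm2 : 2 ≤ m := by
    calc 2 = 2 ^ 1 := rfl
      _ ≤ m := Nat.pow_le_pow_right two_pos (by omega)
  have hqN : 2 ^ t = 2 * m := by rw [hm, ← pow_succ', Nat.sub_add_cancel (by omega)]
  -- the coordinates vanish at the special character
  have hc0 : ∀ i ∈ Ico 1 m, F.r t st i = 0 := by
    intro i hi
    rw [mem_Ico] at hi
    have h0 := (hc.orth_coord (j := i) (by omega)).2
    rw [← sum_sdiff F.sub, sum_eq_zero (s := F.H) (fun ψ hψ => by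
      rw [(F.top_const hψ).1 i hi.1 (by omega), mul_zero]), add_zero,
      sum_eq_single st (fun χ hχ hne => by rw [hst0 χ hχ hne, zero_mul])
        (fun h => absurd hst h)] at h0
    exact (mul_eq_zero.1 h0).resolve_left (by rcases hst2 with e | e <;> rw [e] <;> norm_num)
  set S' := F.S.filter fun χ => a χ ≠ 0 with hS'
  have hS'sub : S' ⊆ F.S := filter_subset _ _
  have hdrop : ∀ χ ∈ F.S, χ ∉ S' → χ = st := by
    intro χ hχ hn
    have ha : a χ = 0 := by_contra fun h => hn (mem_filter.2 ⟨hχ, h⟩)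
    by_contra hne
    obtain ⟨ψ, hψ⟩ := card_pos.1 (F.card_H.symm ▸ (by norm_num : 0 < 4))
    have hH : χ ∉ F.H := fun hH => by
      have := F.sq_e₃ hH
      rw [← hc.a_H χ hH, ha] at this
      norm_num at this
    refine F.Z_ne χ hχ ψ hψ ?_
    rw [hc.form χ hχ ψ hψ, ha, hst0 χ (mem_sdiff.2 ⟨hχ, hH⟩) hne]
    ring
  have hH' : F.H ⊆ S' := fun ψ hψ => mem_filter.2 ⟨F.sub hψ, fun h => by
    have := F.sq_e₃ hψ
    rw [← hc.a_H ψ hψ, h] at this
    norm_num at this⟩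
  have hgram : ∀ i ∈ Ico 1 m, ∀ k ∈ Ico 1 m,
      ∑ χ ∈ S', F.r t χ i * F.r t χ k = if i = k then 2 else 0 := by
    intro i hi k hk
    rw [sum_subset hS'sub fun χ hχ hn => by rw [hdrop χ hχ hn, hc0 i hi, zero_mul],
      F.gram_coord (mem_Ico.1 hi).1 (mem_Ico.1 hi).2 (mem_Ico.1 hk).2]
  have horth : ∀ i ∈ Ico 1 m, ∑ χ ∈ S', a χ * F.r t χ i = 0 := by
    intro i hi
    rw [sum_subset hS'sub fun χ hχ hn => by rw [hdrop χ hχ hn, hc0 i hi, mul_zero]]
    exact (hc.orth_coord (by have := (mem_Ico.1 hi).2; omega)).1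
  have hv : ∀ χ ∈ S', a χ ≠ 0 := fun χ hχ => (mem_filter.1 hχ).2
  have hrow := DihBlocks.row_sq_le S' (Ico 1 m) (fun χ i => F.r t χ i) a hgram horth hv
  obtain ⟨hcard, -⟩ := DihBlocks.count_rows S' F.H hH' F.card_H (m := m) (by omega)
    (fun χ i => F.r t χ i) a (fun i hi => by rw [hgram i hi i hi, if_pos rfl]) horth hrow
    (fun χ hχ i hi => (F.top_const hχ).1 i (mem_Ico.1 hi).1 (by have := (mem_Ico.1 hi).2; omega))
    (by
      rw [sum_subset hS'sub fun χ hχ hn => by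
        rw [by_contra fun h => hn (mem_filter.2 ⟨hχ, h⟩), mul_zero], ga]
      have : ((2 ^ t : ℕ) : ℤ) = 2 * (m : ℤ) := by exact_mod_cast hqN
      push_cast at this
      linarith) hv
    (fun χ hχ hdvd => by
      rw [hc.a_H χ hχ] at hdvd
      rcases eq_one_or_neg (F.sq_e₃ hχ) with e | e <;> rw [e] at hdvd <;> norm_num at hdvd)
    (fun χ hχ hH => hc.a_even χ (hS'sub hχ) hH)
  have hcS := F.card_S
  have hl : F.l = 2 ∧ st ∉ S' := by
    by_cases hs : st ∈ S'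
    · have : S' = F.S := Subset.antisymm hS'sub fun χ hχ =>
        by_contra fun hn => hn (hdrop χ hχ hn ▸ hs)
      rw [this] at hcard
      omega
    · have : F.S = insert st S' := Subset.antisymm
        (fun χ hχ => mem_insert.2 ((em (χ ∈ S')).symm.imp_left (hdrop χ hχ)))
        (insert_subset hstS hS'sub)
      rw [this, card_insert_of_notMem hs, hcard] at hcS
      exact ⟨by omega, hs⟩
  refine ⟨hl.1, a, w, ?_, ga, gw, gaw, fun χ hχ => ?_⟩
  · set h : ℤ := 2 ^ (t - 1) with hh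
    set R : κ → κ → ℤ := fun χ ψ => F.Z χ ψ - (a χ * a ψ + h * (w χ * w ψ)) with hR
    have hrowR : ∀ χ ∈ F.S, ∑ ψ ∈ F.S, R χ ψ * R χ ψ = 4 * 2 ^ t * R χ χ := by
      intro χ hχ
      have z2 := F.Z_idem χ hχ χ hχ
      rw [sum_congr rfl fun θ _ => by rw [F.Z_symm θ χ]] at z2
      rw [sum_congr rfl (g := fun ψ => F.Z χ ψ * F.Z χ ψ - 2 * a χ * (F.Z χ ψ * a ψ) -
        2 * h * w χ * (F.Z χ ψ * w ψ) + a χ * a χ * (a ψ * a ψ) +
        h * h * (w χ * w χ) * (w ψ * w ψ) + 2 * h * a χ * w χ * (a ψ * w ψ)) fun ψ _ => by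
        simp only [hR]; ring]
      simp only [sum_add_distrib, sum_sub_distrib, ← mul_sum, z2, hc.row_a hχ, hc.row_w hχ, ga,
        gw, gaw, hR]
      linear_combination (-4 * h * (w χ * w χ)) * hq
    have htr : ∑ χ ∈ F.S, R χ χ = 0 := by
      simp only [hR, sum_sub_distrib, sum_add_distrib, ← mul_sum, F.Z_trace, ga, gw, hl.1]
      push_cast
      linear_combination 4 * hq
    have hzero : ∑ χ ∈ F.S, ∑ ψ ∈ F.S, R χ ψ * R χ ψ = 0 := by
      rw [sum_congr rfl hrowR, ← mul_sum, htr, mul_zero]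
    intro χ hχ ψ hψ
    have h1 := (sum_eq_zero_iff_of_nonneg fun θ _ => sum_nonneg fun φ _ => mul_self_nonneg _).1
      hzero χ hχ
    exact sub_eq_zero.1 (mul_self_eq_zero.1
      ((sum_eq_zero_iff_of_nonneg fun φ _ => mul_self_nonneg _).1 h1 ψ hψ))
  · by_cases hH : χ ∈ F.H
    · rw [hc.a_H χ hH, hc.w_H χ hH]
      rcases eq_one_or_neg (F.sq_e₃ hH) with e | e <;>
        rcases eq_one_or_neg (F.sq_e₄ hH) with e' | e' <;> rw [e, e'] <;> norm_num
    · refine dvd_sub (hc.a_even χ hχ hH) ?_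
      by_cases he : χ = st
      · subst he
        rcases hst2 with e | e <;> rw [e] <;> norm_num
      · rw [hst0 χ (mem_sdiff.2 ⟨hχ, hH⟩) he]
        exact dvd_zero _

end Frame

end CfsgLib.SdBlocks
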