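import Cfsg.Agent.Lib.SdBlocks.FrameH

/-!
# The regular matrix off the characters of height zero
-/

set_option autoImplicit false
set_option maxHeartbeats 1600000

open Finset

namespace CfsgLib.SdBlocks

namespace Frame

variable {κ : Type*} [DecidableEq κ] {t : ℕ} (F : Frame κ t)

/-- The two coordinate functions of the regular matrix. -/
structure Coord (a w : κ → ℤ) : Prop where
  form : ∀ χ ∈ F.S, ∀ ψ ∈ F.H, F.Z χ ψ = a χ * F.e₃ ψ + 2 ^ (t - 1) * (w χ * F.e₄ ψ)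
  a_H : ∀ ψ ∈ F.H, a ψ = F.e₃ ψ
  w_H : ∀ ψ ∈ F.H, w ψ = F.e₄ ψ
  a_even : ∀ χ ∈ F.S, χ ∉ F.H → (2 : ℤ) ∣ a χ
  w_sgn : ∀ χ ∈ F.S, ∀ ψ ∈ F.H, F.sgn χ * F.sgn ψ = 1 → χ ∉ F.H → w χ = 0

theorem orth_c₀_row {χ : κ} (hχ : χ ∈ F.S) : ∑ ψ ∈ F.H, F.c₀ ψ * F.Z χ ψ = 0 := by
  rw [F.sum_H_c₀, ← F.orth_Z t (by have := F.two_le; omega) le_rfl 0 (Nat.two_pow_pos t) χ hχ]
  exact sum_congr rfl fun ψ _ => by rw [F.Z_symm χ ψ, c₀, mul_comm]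

theorem orth_ws_row {χ : κ} (hχ : χ ∈ F.S) : ∑ ψ ∈ F.H, F.ws ψ * F.Z χ ψ = 0 := by
  rw [F.sum_H_ws, ← F.orth_Z_ws χ hχ]
  exact sum_congr rfl fun ψ _ => by rw [F.Z_symm χ ψ, mul_comm]

/-- The sum over `H` of a level against a vector orthogonal to the level one. -/
theorem sum_lvl {f : κ → ℤ} (hf : ∑ ψ ∈ F.H, F.e₃ ψ * f ψ = 0) {k : ℕ} (hk : 1 ≤ k) (hkt : k < t) :
    ∑ ψ ∈ F.H, f ψ * F.r k ψ 0 = 0 := by
  obtain ⟨ψ₀, hψ₀⟩ := card_pos.1 (F.card_H.symm ▸ (by norm_num : 0 < 4))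
  have h0 : F.r k ψ₀ 0 ≠ 0 := fun h0 => F.odd k hk hkt.le ψ₀ hψ₀ (h0 ▸ dvd_zero _)
  refine (mul_eq_zero.1 (?_ : F.r k ψ₀ 0 * _ = 0)).resolve_left h0
  rw [mul_sum, sum_congr rfl (g := fun ψ => F.e₃ ψ₀ * (F.e₃ ψ * f ψ)) fun ψ hψ => by
    linear_combination f ψ * F.lvl_prod hψ₀ hψ hk hkt, ← mul_sum, hf, mul_zero]

theorem exists_star_facts {i : ℕ} (hi : Odd i) (hih : i < 2 ^ (t - 1)) :
    ∃ N : κ → κ → ℤ,
      (∀ χ ∈ F.S, ∀ σ, (∀ ψ ∈ F.H, F.sgn χ * F.sgn ψ = σ) →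
        2 * 2 ^ t * ∑ ψ ∈ F.H, F.e₄ ψ * N χ ψ = (1 - σ) * ∑ ψ ∈ F.H, F.e₄ ψ * F.Z χ ψ) ∧
      (∀ χ ∈ F.S, ∀ σ, (∀ ψ ∈ F.H, F.sgn χ * F.sgn ψ = σ) →
        ∑ ψ ∈ F.H, F.c₀ ψ * N χ ψ = -2 * F.r t χ i) ∧
      (t = 2 → ∀ χ ∈ F.S, ∀ ψ ∈ F.H, 8 * N χ ψ =
        F.Z χ ψ * (1 - F.sgn χ * F.sgn ψ) - 4 * (F.r t χ i * F.c₀ ψ)) ∧
      (∀ ψ ∈ F.H, ∑ χ ∈ F.S, N χ ψ * N χ ψ = 2) ∧
      ∀ ψ ∈ F.H, ∀ j, 1 ≤ j → j < 2 ^ (t - 1) →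
        ∑ χ ∈ F.S, N χ ψ * F.r t χ j = if j = i then - F.c₀ ψ else 0 := by
  obtain ⟨N, hform, hnorm, horth⟩ := F.star i hi hih
  have hsum : ∀ f : κ → ℤ, ∑ ψ ∈ F.H, F.e₃ ψ * f ψ = 0 → ∀ χ ∈ F.S, ∀ σ,
      (∀ ψ ∈ F.H, F.sgn χ * F.sgn ψ = σ) →
      4 * 2 ^ t * ∑ ψ ∈ F.H, f ψ * N χ ψ = 2 * (1 - σ) * ∑ ψ ∈ F.H, f ψ * F.Z χ ψ -
        2 * 2 ^ t * F.r t χ i * ∑ ψ ∈ F.H, F.c₀ ψ * f ψ := by
    intro f hf χ hχ σ hσ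
    obtain ⟨K, -, hK⟩ := hform χ hχ
    have h2 : ∀ ψ ∈ F.H, ((f ψ * (4 * 2 ^ t * N χ ψ) : ℤ) : ℂ) =
        ((f ψ * (2 * F.Z χ ψ * (1 - σ) - 2 * 2 ^ t * (F.r t χ i * F.c₀ ψ)) : ℤ) : ℂ) +
          ∑ k ∈ Ico 1 t, K k * ((f ψ * F.r k ψ 0 : ℤ) : ℂ) := fun ψ hψ => by
      rw [Int.cast_mul, hK ψ hψ (F.all_const hψ), hσ ψ hψ, mul_add, mul_sum]
      refine congrArg₂ (· + ·) (by simp only [c₀]; push_cast; ring) (sum_congr rfl fun k _ => ?_)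
      push_cast; ring
    have hzero : ∑ ψ ∈ F.H, ∑ k ∈ Ico 1 t, K k * ((f ψ * F.r k ψ 0 : ℤ) : ℂ) = 0 := by
      rw [Finset.sum_comm]
      refine sum_eq_zero fun k hk => ?_
      rw [← mul_sum, ← Int.cast_sum, F.sum_lvl hf (mem_Ico.1 hk).1 (mem_Ico.1 hk).2,
        Int.cast_zero, mul_zero]
    have h3 := sum_congr rfl h2
    rw [sum_add_distrib, hzero, add_zero, ← Int.cast_sum, ← Int.cast_sum, Int.cast_inj] at h3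
    calc _ = ∑ ψ ∈ F.H, f ψ * (4 * 2 ^ t * N χ ψ) := by
          rw [mul_sum]; exact sum_congr rfl fun ψ _ => by ring
      _ = _ := by
          rw [h3, mul_sum, mul_sum, ← sum_sub_distrib]
          exact sum_congr rfl fun ψ _ => by ring
  refine ⟨N, fun χ hχ σ hσ => ?_, fun χ hχ σ hσ => ?_, fun ht χ hχ ψ hψ => ?_, fun ψ hψ => ?_,
    fun ψ hψ j hj hjh => horth ψ hψ (F.all_const hψ) j hj hjh⟩
  · have h3 := hsum _ F.orth_e₃_e₄ χ hχ σ hσ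
    rw [F.orth_c₀_e₄, mul_zero, sub_zero] at h3
    linarith
  · have h3 := hsum F.c₀ (by
      rw [← F.orth_c₀_e₃]; exact sum_congr rfl fun ψ _ => mul_comm _ _) χ hχ σ hσ
    rw [F.orth_c₀_row hχ, mul_zero, zero_sub, F.sum_sq_one (fun ψ => F.sq_c₀)] at h3
    exact mul_left_cancel₀ (a := (4 * 2 ^ t : ℤ)) (by positivity) (h3.trans (by ring))
  · obtain ⟨K, hK1, hK⟩ := hform χ hχ
    subst ht
    have h := hK ψ hψ (F.all_const hψ)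
    rw [show Ico 1 2 = {1} from rfl, sum_singleton, hK1, zero_mul, add_zero, Int.cast_inj] at h
    simp only [c₀]
    linarith
  · have hh := hnorm ψ hψ (F.all_const hψ) fun k hk hkt => by
      rcases eq_or_lt_of_le hkt with rfl | hlt
      · exact (F.top_const hψ).2
      · exact (F.high_const hψ 2 le_rfl (by omega) k hk hlt).2
    rw [(F.Z_H hψ hψ).2, F.sq_e₃ hψ, F.sq_e₄ hψ] at hh
    exact mul_left_cancel₀ (a := (4 * 2 ^ t : ℤ)) (by positivity)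
      (hh.trans (by linear_combination -4 * F.q_eq))

theorem exists_sigma {χ : κ} : ∃ σ, ∀ ψ ∈ F.H, F.sgn χ * F.sgn ψ = σ := by
  obtain ⟨ψ₀, hψ₀⟩ := card_pos.1 (F.card_H.symm ▸ (by norm_num : 0 < 4))
  exact ⟨F.sgn χ * F.sgn ψ₀, fun ψ hψ => by rw [(F.Z_H hψ hψ₀).1]⟩

/-- Off `H` the second coordinate lives at the opposite sign. -/
theorem sum_e₄_row {χ : κ} (hχ : χ ∈ F.S) (hχH : χ ∉ F.H) {σ : ℤ}
    (hσ : ∀ ψ ∈ F.H, F.sgn χ * F.sgn ψ = σ) :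
    (1 + σ) * ∑ ψ ∈ F.H, F.e₄ ψ * F.Z χ ψ = 0 := by
  have ht := F.two_le
  have key : ∀ ψ ∈ F.H, F.Z χ ψ * (1 + σ) +
      ∑ k ∈ Ico 1 t, 2 ^ k * (F.r k χ 0 * F.r k ψ 0) = 0 := fun ψ hψ => by
    have h := F.ident χ hχ ψ (F.sub hψ)
    rw [if_neg (fun h' : χ = ψ => hχH (h'.symm ▸ hψ)), hσ ψ hψ, F.ws_off χ hχ hχH,
      sum_Ico_succ_top (by omega : 1 ≤ t),
      sum_eq_single 0 (fun i hi h0 => by
        rw [(F.top_const hψ).1 i (by omega) (mem_range.1 hi), mul_zero])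
        (fun hn => absurd (mem_range.2 (Nat.two_pow_pos t)) hn),
      show F.r t χ 0 = F.c₀ χ from rfl, F.c₀_off hχ hχH] at h
    simp only [zero_mul, mul_zero, add_zero] at h
    rw [sum_congr rfl fun k hk => by
      rw [sum_eq_single 0 (fun i hi h0 => by
        rw [F.all_const hψ k (mem_Ico.1 hk).1 (mem_Ico.1 hk).2.le i (by omega) (mem_range.1 hi),
          mul_zero]) (fun hn => absurd (mem_range.2 (Nat.two_pow_pos k)) hn)]] at h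
    exact h
  have h := sum_eq_zero (s := F.H) (f := fun ψ => F.e₄ ψ * (F.Z χ ψ * (1 + σ) +
      ∑ k ∈ Ico 1 t, 2 ^ k * (F.r k χ 0 * F.r k ψ 0))) fun ψ hψ => by rw [key ψ hψ, mul_zero]
  simp only [mul_add, mul_sum, sum_add_distrib] at h
  rw [Finset.sum_comm, sum_eq_zero (s := Ico 1 t) (f := fun k =>
    ∑ ψ ∈ F.H, F.e₄ ψ * (2 ^ k * (F.r k χ 0 * F.r k ψ 0))) fun k hk => by
    rw [sum_congr rfl (g := fun ψ => 2 ^ k * F.r k χ 0 * (F.e₄ ψ * F.r k ψ 0))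
      (fun ψ _ => by ring), ← mul_sum, F.sum_lvl F.orth_e₃_e₄ (mem_Ico.1 hk).1 (mem_Ico.1 hk).2,
      mul_zero], add_zero] at h
  rw [mul_sum, ← h, ← sum_add_distrib]
  exact sum_congr rfl fun ψ _ => by ring

theorem exists_coord : ∃ a w, F.Coord a w := by
  have ht := F.two_le
  have hq := F.q_eq
  have hh2 : (2 : ℤ) ∣ 2 ^ (t - 1) := dvd_pow_self 2 (by omega)
  suffices ∀ χ, ∃ a w : ℤ, χ ∈ F.S →
      (∀ ψ ∈ F.H, F.Z χ ψ = a * F.e₃ ψ + 2 ^ (t - 1) * (w * F.e₄ ψ)) ∧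
      (χ ∈ F.H → a = F.e₃ χ ∧ w = F.e₄ χ) ∧
      (χ ∉ F.H → (2 : ℤ) ∣ a ∧ ∀ ψ ∈ F.H, F.sgn χ * F.sgn ψ = 1 → w = 0) by
    choose a w haw using this
    exact ⟨a, w, fun χ hχ => (haw χ hχ).1, fun ψ hψ => ((haw ψ (F.sub hψ)).2.1 hψ).1,
      fun ψ hψ => ((haw ψ (F.sub hψ)).2.1 hψ).2, fun χ hχ hH => ((haw χ hχ).2.2 hH).1,
      fun χ hχ ψ hψ hs hH => ((haw χ hχ).2.2 hH).2 ψ hψ hs⟩
  intro χ
  by_cases hχ : χ ∈ F.S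
  swap
  · exact ⟨0, 0, fun h => absurd h hχ⟩
  by_cases hH : χ ∈ F.H
  · refine ⟨F.e₃ χ, F.e₄ χ, fun _ => ⟨fun ψ hψ => ?_, fun _ => ⟨rfl, rfl⟩, fun h => absurd hH h⟩⟩
    exact (F.Z_H hH hψ).2
  obtain ⟨σ, hσ⟩ := F.exists_sigma (χ := χ)
  obtain ⟨ψ₀, hψ₀⟩ := card_pos.1 (F.card_H.symm ▸ (by norm_num : 0 < 4))
  have hσ1 : σ = 1 ∨ σ = -1 := by
    rw [← hσ ψ₀ hψ₀]
    rcases eq_one_or_neg (F.sgn_sq χ hχ) with a | a <;>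
      rcases eq_one_or_neg (F.sgn_sq ψ₀ (F.sub hψ₀)) with b | b <;> rw [a, b] <;> norm_num
  set W := ∑ ψ ∈ F.H, F.e₄ ψ * F.Z χ ψ with hW
  set A := ∑ ψ ∈ F.H, F.e₃ ψ * F.Z χ ψ with hA
  obtain ⟨w, hw⟩ : (2 * 2 ^ t : ℤ) ∣ W := by
    rcases hσ1 with rfl | rfl
    · exact ⟨0, by have := F.sum_e₄_row hχ hH hσ; rw [hW]; linarith⟩
    obtain ⟨N, hN4, hN0, -, -, -⟩ := F.exists_star_facts (i := 1) odd_one (by
      calc 1 < 2 ^ 1 := by norm_num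
        _ ≤ 2 ^ (t - 1) := Nat.pow_le_pow_right two_pos (by omega))
    have h4 := hN4 χ hχ (-1) hσ
    have h0 := hN0 χ hχ (-1) hσ
    have hpar : (2 : ℤ) ∣ ∑ ψ ∈ F.H, F.e₄ ψ * N χ ψ := by
      have : (2 : ℤ) ∣ ∑ ψ ∈ F.H, (F.e₄ ψ * N χ ψ - F.c₀ ψ * N χ ψ) := dvd_sum fun ψ hψ => by
        rw [← sub_mul]
        refine Dvd.dvd.mul_right ?_ _
        rcases eq_one_or_neg (F.sq_e₄ hψ) with a | a <;> rcases F.sign_top hψ with b | b <;>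
          simp only [c₀, a, b] <;> norm_num
      rw [sum_sub_distrib, h0] at this
      omega
    obtain ⟨n, hn⟩ := hpar
    exact ⟨n, by rw [hn] at h4; linarith⟩
  have hexp : ∀ ψ ∈ F.H, 4 * F.Z χ ψ = A * F.e₃ ψ + W * F.e₄ ψ := fun ψ hψ =>
    F.expand (F.orth_c₀_row hχ) (F.orth_ws_row hχ) hψ
  obtain ⟨a, ha⟩ : (4 : ℤ) ∣ A := by
    refine ⟨F.e₃ ψ₀ * (F.Z χ ψ₀ - 2 ^ (t - 1) * (w * F.e₄ ψ₀)), ?_⟩
    have h1 := hexp ψ₀ hψ₀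
    rw [hw, hq] at h1
    linear_combination (-(F.e₃ ψ₀)) * h1 - A * F.sq_e₃ hψ₀
  have hform : ∀ ψ ∈ F.H, F.Z χ ψ = a * F.e₃ ψ + 2 ^ (t - 1) * (w * F.e₄ ψ) := fun ψ hψ => by
    have h1 := hexp ψ hψ
    rw [hw, ha, hq] at h1
    linarith
  refine ⟨a, w, fun _ => ⟨hform, fun h => absurd h hH, fun _ => ⟨?_, fun ψ hψ hs => ?_⟩⟩⟩
  · have h1 := F.Z_even χ hχ hH ψ₀ hψ₀
    rw [hform ψ₀ hψ₀, dvd_add_left (hh2.mul_right _)] at h1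
    rcases eq_one_or_neg (F.sq_e₃ hψ₀) with e | e <;> rw [e] at h1 <;> simpa using h1
  · obtain rfl : σ = 1 := (hσ ψ hψ).symm.trans hs
    have := F.sum_e₄_row hχ hH hσ
    have h0 : W = 0 := by rw [hW]; linarith
    rw [h0] at hw
    exact (mul_eq_zero.1 hw.symm).resolve_left (by positivity)

namespace Coord

variable {F} {a w : κ → ℤ}

theorem sum_e₃ (hc : F.Coord a w) {χ : κ} (hχ : χ ∈ F.S) :
    ∑ ψ ∈ F.H, F.e₃ ψ * F.Z χ ψ = 4 * a χ := by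
  rw [sum_congr rfl (g := fun ψ => a χ * (F.e₃ ψ * F.e₃ ψ) +
    2 ^ (t - 1) * w χ * (F.e₃ ψ * F.e₄ ψ)) fun ψ hψ => by rw [hc.form χ hχ ψ hψ]; ring,
    sum_add_distrib, ← mul_sum, ← mul_sum, F.sum_sq_one (fun ψ => F.sq_e₃), F.orth_e₃_e₄]
  ring

theorem sum_e₄ (hc : F.Coord a w) {χ : κ} (hχ : χ ∈ F.S) :
    ∑ ψ ∈ F.H, F.e₄ ψ * F.Z χ ψ = 4 * 2 ^ (t - 1) * w χ := by
  rw [sum_congr rfl (g := fun ψ => a χ * (F.e₃ ψ * F.e₄ ψ) +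
    2 ^ (t - 1) * w χ * (F.e₄ ψ * F.e₄ ψ)) fun ψ hψ => by rw [hc.form χ hχ ψ hψ]; ring,
    sum_add_distrib, ← mul_sum, ← mul_sum, F.sum_sq_one (fun ψ => F.sq_e₄), F.orth_e₃_e₄]
  ring

theorem row_a (hc : F.Coord a w) {χ : κ} (hχ : χ ∈ F.S) :
    ∑ θ ∈ F.S, F.Z χ θ * a θ = 4 * 2 ^ t * a χ := by
  refine mul_left_cancel₀ (four_ne_zero (α := ℤ)) ?_
  rw [mul_sum, sum_congr rfl (g := fun θ => ∑ ψ ∈ F.H, F.e₃ ψ * (F.Z χ θ * F.Z θ ψ)) fun θ hθ => by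
    rw [mul_left_comm, ← hc.sum_e₃ hθ, mul_sum]
    exact sum_congr rfl fun ψ _ => by ring, Finset.sum_comm,
    sum_congr rfl (g := fun ψ => 4 * 2 ^ t * (F.e₃ ψ * F.Z χ ψ)) fun ψ hψ => by
      rw [← mul_sum, F.Z_idem χ hχ ψ (F.sub hψ)]; ring,
    ← mul_sum, hc.sum_e₃ hχ]
  ring

theorem row_w (hc : F.Coord a w) {χ : κ} (hχ : χ ∈ F.S) :
    ∑ θ ∈ F.S, F.Z χ θ * w θ = 4 * 2 ^ t * w χ := by
  refine mul_left_cancel₀ (mul_ne_zero (four_ne_zero (α := ℤ)) (pow_ne_zero (t - 1) two_ne_zero)) ?_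
  rw [mul_sum, sum_congr rfl (g := fun θ => ∑ ψ ∈ F.H, F.e₄ ψ * (F.Z χ θ * F.Z θ ψ)) fun θ hθ => by
    rw [mul_left_comm, ← hc.sum_e₄ hθ, mul_sum]
    exact sum_congr rfl fun ψ _ => by ring, Finset.sum_comm,
    sum_congr rfl (g := fun ψ => 4 * 2 ^ t * (F.e₄ ψ * F.Z χ ψ)) fun ψ hψ => by
      rw [← mul_sum, F.Z_idem χ hχ ψ (F.sub hψ)]; ring,
    ← mul_sum, hc.sum_e₄ hχ]
  ring

theorem gram (hc : F.Coord a w) : (∑ χ ∈ F.S, a χ * a χ = 4 * 2 ^ t) ∧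
    (∑ χ ∈ F.S, w χ * w χ = 8) ∧ ∑ χ ∈ F.S, a χ * w χ = 0 := by
  have hq := F.q_eq
  refine ⟨mul_left_cancel₀ (four_ne_zero (α := ℤ)) ?_, mul_left_cancel₀
    (mul_ne_zero (four_ne_zero (α := ℤ)) (pow_ne_zero (t - 1) two_ne_zero)) ?_,
    mul_left_cancel₀ (four_ne_zero (α := ℤ)) ?_⟩
  · rw [mul_sum, sum_congr rfl (g := fun χ => ∑ ψ ∈ F.H, F.e₃ ψ * (F.Z ψ χ * a χ)) fun χ hχ => by
      rw [← mul_assoc, ← hc.sum_e₃ hχ, sum_mul]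
      exact sum_congr rfl fun ψ _ => by rw [F.Z_symm ψ χ]; ring, Finset.sum_comm,
      sum_congr rfl (g := fun ψ => 4 * 2 ^ t * (F.e₃ ψ * F.e₃ ψ)) fun ψ hψ => by
        rw [← mul_sum, hc.row_a (F.sub hψ), hc.a_H ψ hψ]; ring,
      ← mul_sum, F.sum_sq_one (fun ψ => F.sq_e₃)]
    ring
  · rw [mul_sum, sum_congr rfl (g := fun χ => ∑ ψ ∈ F.H, F.e₄ ψ * (F.Z ψ χ * w χ)) fun χ hχ => by
      rw [← mul_assoc, ← hc.sum_e₄ hχ, sum_mul]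
      exact sum_congr rfl fun ψ _ => by rw [F.Z_symm ψ χ]; ring, Finset.sum_comm,
      sum_congr rfl (g := fun ψ => 4 * 2 ^ t * (F.e₄ ψ * F.e₄ ψ)) fun ψ hψ => by
        rw [← mul_sum, hc.row_w (F.sub hψ), hc.w_H ψ hψ]; ring,
      ← mul_sum, F.sum_sq_one (fun ψ => F.sq_e₄)]
    linear_combination 16 * hq
  · rw [mul_sum, sum_congr rfl (g := fun χ => ∑ ψ ∈ F.H, F.e₃ ψ * (F.Z ψ χ * w χ)) fun χ hχ => by
      rw [← mul_assoc, ← hc.sum_e₃ hχ, sum_mul]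
      exact sum_congr rfl fun ψ _ => by rw [F.Z_symm ψ χ]; ring, Finset.sum_comm,
      sum_congr rfl (g := fun ψ => 4 * 2 ^ t * (F.e₃ ψ * F.e₄ ψ)) fun ψ hψ => by
        rw [← mul_sum, hc.row_w (F.sub hψ), hc.w_H ψ hψ]; ring,
      ← mul_sum, F.orth_e₃_e₄]
    ring

theorem orth_coord (hc : F.Coord a w) {j : ℕ} (hj : j < 2 ^ t) :
    (∑ χ ∈ F.S, a χ * F.r t χ j = 0) ∧ ∑ χ ∈ F.S, w χ * F.r t χ j = 0 := by
  have ht := F.two_le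
  refine ⟨mul_left_cancel₀ (four_ne_zero (α := ℤ)) ?_, mul_left_cancel₀
    (mul_ne_zero (four_ne_zero (α := ℤ)) (pow_ne_zero (t - 1) two_ne_zero)) ?_⟩
  · rw [mul_zero, mul_sum, sum_congr rfl
      (g := fun χ => ∑ ψ ∈ F.H, F.e₃ ψ * (F.Z χ ψ * F.r t χ j)) fun χ hχ => by
      rw [← mul_assoc, ← hc.sum_e₃ hχ, sum_mul]
      exact sum_congr rfl fun ψ _ => by ring, Finset.sum_comm]
    exact sum_eq_zero fun ψ hψ => by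
      rw [← mul_sum, F.orth_Z t (by omega) le_rfl j hj ψ (F.sub hψ), mul_zero]
  · rw [mul_zero, mul_sum, sum_congr rfl
      (g := fun χ => ∑ ψ ∈ F.H, F.e₄ ψ * (F.Z χ ψ * F.r t χ j)) fun χ hχ => by
      rw [← mul_assoc, ← hc.sum_e₄ hχ, sum_mul]
      exact sum_congr rfl fun ψ _ => by ring, Finset.sum_comm]
    exact sum_eq_zero fun ψ hψ => by
      rw [← mul_sum, F.orth_Z t (by omega) le_rfl j hj ψ (F.sub hψ), mul_zero]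

end Coord

end Frame

end CfsgLib.SdBlocks
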