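import Cfsg.Agent.Lib.SdBlocks.Frame

/-!
# The sign vectors on the characters of height zero
-/

set_option autoImplicit false
set_option maxHeartbeats 800000

open Finset

namespace CfsgLib.SdBlocks

theorem sum_two_pow {a b : ℕ} (hab : a ≤ b) : ∑ k ∈ Ico a b, (2 : ℤ) ^ k = 2 ^ b - 2 ^ a := by
  induction b, hab using Nat.le_induction with
  | base => simp
  | succ b hab ih => rw [sum_Ico_succ_top hab, ih]; ring

theorem eq_one_or_neg {v : ℤ} (h : v * v = 1) : v = 1 ∨ v = -1 := mul_self_eq_one_iff.1 h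

theorem eq_of_dvd_small {a b N : ℤ} (h : N ∣ a - b) (h1 : -N < a - b) (h2 : a - b < N) : a = b := by
  have := Int.eq_zero_of_abs_lt_dvd h (abs_lt.2 ⟨h1, h2⟩)
  omega

namespace Frame

variable {κ : Type*} [DecidableEq κ] {t : ℕ} (F : Frame κ t)

include F in
theorem q_eq : (2 : ℤ) ^ t = 2 * 2 ^ (t - 1) := by
  rw [← pow_succ', Nat.sub_add_cancel (by have := F.two_le; omega)]

include F in
theorem four_le_q : (4 : ℤ) ≤ 2 ^ t := by
  calc (4 : ℤ) = 2 ^ 2 := by norm_num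
    _ ≤ 2 ^ t := pow_le_pow_right₀ (by norm_num) F.two_le

include F in
theorem two_le_h : (2 : ℤ) ≤ 2 ^ (t - 1) := by
  have := F.four_le_q
  have := F.q_eq
  omega

theorem coord_mid {k : ℕ} (hk : 1 ≤ k) (hkt : k ≤ t) {χ : κ} (hχ : χ ∈ F.S) :
    F.r k χ (2 ^ (k - 1)) = 0 := by
  have h2 : 2 ^ k = 2 * 2 ^ (k - 1) := by rw [← pow_succ', Nat.sub_add_cancel hk]
  have h1 := F.refl k hk hkt χ hχ (2 ^ (k - 1)) Nat.one_le_two_pow (by
    have := Nat.one_le_two_pow (n := k - 1); omega)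
  rw [show 2 ^ k - 2 ^ (k - 1) = 2 ^ (k - 1) by omega] at h1
  have hsg : sg t k (2 ^ (k - 1)) = 1 := by
    unfold sg
    split_ifs with hkt'
    · have := F.two_le
      subst hkt'
      rw [Even.neg_one_pow ((even_two).pow_of_ne_zero (by omega : k - 1 ≠ 0))]
    · rfl
  rw [hsg] at h1
  omega

theorem sq_zero_pos {k : ℕ} (hk : 1 ≤ k) (hkt : k ≤ t) {χ : κ} (hχ : χ ∈ F.H) :
    1 ≤ F.r k χ 0 * F.r k χ 0 := by
  have h0 : F.r k χ 0 ≠ 0 := fun h0 => F.odd k hk hkt χ hχ (h0 ▸ dvd_zero _)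
  have := mul_self_pos.2 h0
  omega

theorem one_le_sum {k : ℕ} (hk : 1 ≤ k) (hkt : k ≤ t) {χ : κ} (hχ : χ ∈ F.H) :
    1 ≤ ∑ i ∈ range (2 ^ k), F.r k χ i * F.r k χ i :=
  (F.sq_zero_pos hk hkt hχ).trans
    (single_le_sum (f := fun i => F.r k χ i * F.r k χ i) (fun i _ => mul_self_nonneg _)
      (mem_range.2 (Nat.two_pow_pos k)))

theorem three_le_sum {k : ℕ} (hk : 1 ≤ k) (hkt : k ≤ t) {χ : κ} (hχ : χ ∈ F.H) {i : ℕ}
    (hi : 1 ≤ i) (hik : i < 2 ^ k) (hne : F.r k χ i ≠ 0) :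
    3 ≤ ∑ j ∈ range (2 ^ k), F.r k χ j * F.r k χ j := by
  have hne' : F.r k χ (2 ^ k - i) ≠ 0 := by
    rw [F.refl k hk hkt χ (F.sub hχ) i hi hik, neg_ne_zero]
    exact mul_ne_zero (fun h0 => by have := sg_sq t k i; rw [h0] at this; simp at this) hne
  have hii : i ≠ 2 ^ k - i := by
    intro heq
    refine hne ?_
    have h2 : 2 ^ k = 2 * 2 ^ (k - 1) := by rw [← pow_succ', Nat.sub_add_cancel hk]
    rw [show i = 2 ^ (k - 1) by omega]
    exact F.coord_mid hk hkt (F.sub hχ)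
  have hsub : ({0, i, 2 ^ k - i} : Finset ℕ) ⊆ range (2 ^ k) := by
    intro j hj
    simp only [mem_insert, mem_singleton] at hj
    rw [mem_range]
    omega
  refine le_trans ?_ (sum_le_sum_of_subset_of_nonneg hsub fun j _ _ => mul_self_nonneg _)
  rw [sum_insert (by simp; omega), sum_pair hii]
  have := F.sq_zero_pos hk hkt hχ
  have := mul_self_pos.2 hne
  have := mul_self_pos.2 hne'
  omega

theorem const_of_sum {k : ℕ} (hk : 1 ≤ k) (hkt : k ≤ t) {χ : κ} (hχ : χ ∈ F.H)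
    (hs : ∑ j ∈ range (2 ^ k), F.r k χ j * F.r k χ j < 3) : Const k (F.r k χ) := fun i hi hik => by
  by_contra hne
  have := F.three_le_sum hk hkt hχ hi hik hne
  omega

theorem sum_const {k : ℕ} {ψ ψ' : κ} (h : Const k (F.r k ψ)) :
    ∑ i ∈ range (2 ^ k), F.r k ψ i * F.r k ψ' i = F.r k ψ 0 * F.r k ψ' 0 :=
  sum_eq_single 0 (fun i hi h0 => by rw [h i (by omega) (mem_range.1 hi), zero_mul])
    fun hn => absurd (mem_range.2 (Nat.two_pow_pos k)) hn

theorem one_le_Z {ψ : κ} (hψ : ψ ∈ F.H) : 1 ≤ F.Z ψ ψ := by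
  have h1 := F.Z_idem ψ (F.sub hψ) ψ (F.sub hψ)
  rw [sum_congr rfl fun θ _ => by rw [F.Z_symm θ ψ]] at h1
  have h2 := single_le_sum (f := fun θ => F.Z ψ θ * F.Z ψ θ) (fun θ _ => mul_self_nonneg _)
    (F.sub hψ)
  have h3 := mul_self_pos.2 (F.Z_ne ψ (F.sub hψ) ψ hψ)
  by_contra hcon
  have h4 : (4 * 2 ^ t : ℤ) * F.Z ψ ψ ≤ 0 := by
    have := F.four_le_q
    exact mul_nonpos_of_nonneg_of_nonpos (by positivity) (by omega)
  omega

theorem ident_diag {ψ : κ} (hψ : ψ ∈ F.H) :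
    2 * F.Z ψ ψ + 2 ^ t + ∑ k ∈ Ico 1 (t + 1),
      2 ^ k * ∑ i ∈ range (2 ^ k), F.r k ψ i * F.r k ψ i = 4 * 2 ^ t := by
  have h := F.ident ψ (F.sub hψ) ψ (F.sub hψ)
  rw [F.sgn_sq ψ (F.sub hψ), F.ws_on ψ hψ, if_pos rfl] at h
  linarith

theorem top_const {ψ : κ} (hψ : ψ ∈ F.H) :
    Const t (F.r t ψ) ∧ F.r t ψ 0 * F.r t ψ 0 = 1 := by
  have ht := F.two_le
  have hq := F.four_le_q
  have h1 := F.ident_diag hψ
  rw [sum_Ico_succ_top (by omega : 1 ≤ t)] at h1
  have h2 : (2 : ℤ) ^ t - 2 ≤ ∑ k ∈ Ico 1 t,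
      2 ^ k * ∑ i ∈ range (2 ^ k), F.r k ψ i * F.r k ψ i := by
    rw [show (2 : ℤ) ^ t - 2 = ∑ k ∈ Ico 1 t, (2 : ℤ) ^ k by rw [sum_two_pow (by omega)]; norm_num]
    refine sum_le_sum fun k hk => ?_
    rw [mem_Ico] at hk
    exact le_mul_of_one_le_right (by positivity) (F.one_le_sum hk.1 hk.2.le hψ)
  have hZ := F.one_le_Z hψ
  have hlt : ∑ i ∈ range (2 ^ t), F.r t ψ i * F.r t ψ i < 3 := by
    by_contra hcon
    have : (2 : ℤ) ^ t * 3 ≤ 2 ^ t * ∑ i ∈ range (2 ^ t), F.r t ψ i * F.r t ψ i :=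
      mul_le_mul_of_nonneg_left (by omega) (by positivity)
    omega
  have hc := F.const_of_sum (by omega) le_rfl hψ hlt
  refine ⟨hc, ?_⟩
  rw [F.sum_const hc] at hlt
  have h3 := F.sq_zero_pos (by omega : 1 ≤ t) le_rfl hψ
  have hb : -1 ≤ F.r t ψ 0 ∧ F.r t ψ 0 ≤ 1 := ⟨by nlinarith, by nlinarith⟩
  rcases (show F.r t ψ 0 = -1 ∨ F.r t ψ 0 = 0 ∨ F.r t ψ 0 = 1 by omega) with h | h | h <;>
    rw [h] at h3 ⊢ <;> omega

/-- The levels two and higher are constant. -/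
theorem high_const {ψ : κ} (hψ : ψ ∈ F.H) : ∀ m, 2 ≤ m → m < t →
    ∀ k, m ≤ k → k < t → Const k (F.r k ψ) ∧ F.r k ψ 0 * F.r k ψ 0 = 1 := by
  have ht := F.two_le
  have hq := F.four_le_q
  obtain ⟨htc, ht1⟩ := F.top_const hψ
  set n : ℕ → ℤ := fun k => ∑ i ∈ range (2 ^ k), F.r k ψ i * F.r k ψ i with hn
  have hexc : ∑ k ∈ Ico 1 t, 2 ^ k * (n k - 1) ≤ (2 : ℤ) ^ t := by
    have h1 := F.ident_diag hψ
    rw [sum_Ico_succ_top (by omega : 1 ≤ t), F.sum_const htc, ht1] at h1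
    simp only [hn, mul_sub, mul_one, sum_sub_distrib, sum_two_pow (by omega : 1 ≤ t)]
    have := F.one_le_Z hψ
    norm_num at h1 ⊢
    omega
  have hnn : ∀ k ∈ Ico 1 t, 0 ≤ 2 ^ k * (n k - 1) := fun k hk => by
    rw [mem_Ico] at hk
    exact mul_nonneg (by positivity) (by have := F.one_le_sum hk.1 hk.2.le hψ; simp only [hn]; omega)
  suffices ∀ j m, m + j = t → 2 ≤ m → ∀ k, m ≤ k → k < t → n k = 1 by
    intro m hm hmt k hmk hkt
    have h1 := this (t - m) m (by omega) hm k hmk hkt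
    have hc := F.const_of_sum (by omega) hkt.le hψ (by simp only [hn] at h1; omega)
    refine ⟨hc, ?_⟩
    simp only [hn] at h1
    rwa [F.sum_const hc] at h1
  intro j
  induction j with
  | zero => intro m hm _ k hk hkt; omega
  | succ j ih =>
    intro m hm hm2 k hmk hkt
    rcases eq_or_lt_of_le hmk with rfl | hlt
    swap
    · exact ih (m + 1) (by omega) (by omega) k hlt hkt
    have hhigh : ∀ k, m < k → k ≤ t → Const k (F.r k ψ) ∧ (k < t → n k = 1) := by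
      intro k hk hkt'
      rcases eq_or_lt_of_le hkt' with rfl | hlt'
      · exact ⟨htc, fun h => absurd h (lt_irrefl _)⟩
      have h1 := ih (m + 1) (by omega) (by omega) k hk hlt'
      exact ⟨F.const_of_sum (by omega) hkt' hψ (by simp only [hn] at h1; omega), fun _ => h1⟩
    have hsum : ∑ k ∈ Ico (m + 1) t, 2 ^ k * n k = (2 : ℤ) ^ t - 2 ^ (m + 1) := by
      rw [← sum_two_pow (by omega : m + 1 ≤ t)]
      refine sum_congr rfl fun k hk => ?_
      rw [mem_Ico] at hk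
      rw [(hhigh k (by omega) hk.2.le).2 hk.2, mul_one]
    have h1 := F.test m (by omega) hkt ψ hψ ψ hψ
      (fun k hk hkt' => ⟨(hhigh k (by omega) hkt').1, (hhigh k (by omega) hkt').1⟩) htc htc
    rw [if_neg (by omega : m ≠ 1), ht1] at h1
    simp only [hn] at hsum
    rw [hsum] at h1
    obtain ⟨z, hz⟩ : (2 : ℤ) ^ t ∣ 2 ^ m * (n m - 1) := by
      obtain ⟨z, hz⟩ := h1
      refine ⟨z - 1, mul_left_cancel₀ (two_ne_zero' ℤ) ?_⟩
      rw [pow_succ] at hz
      simp only [hn]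
      linear_combination hz
    have hmem : m ∈ Ico 1 t := mem_Ico.2 ⟨by omega, hkt⟩
    have hle := (single_le_sum hnn hmem).trans hexc
    have h0 := hnn m hmem
    have hz0 : 0 ≤ z := by nlinarith
    have hz1 : z ≤ 1 := by nlinarith
    interval_cases z
    · rcases mul_eq_zero.1 (hz.trans (mul_zero _)) with h | h
      · exact absurd h (pow_ne_zero _ two_ne_zero)
      · omega
    exfalso
    rw [mul_one] at hz
    have hmem' : m - 1 ∈ Ico 1 t := mem_Ico.2 ⟨by omega, by omega⟩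
    have hpair := sum_le_sum_of_subset_of_nonneg
      (s := {m - 1, m}) (t := Ico 1 t) (by
        intro a ha
        simp only [mem_insert, mem_singleton] at ha
        rw [mem_Ico]
        omega) (fun a ha _ => hnn a ha)
    rw [sum_pair (by omega : m - 1 ≠ m), hz] at hpair
    have hprev : n (m - 1) = 1 := by
      have := hnn _ hmem'
      have h3 : 2 ^ (m - 1) * (n (m - 1) - 1) = (0 : ℤ) := by omega
      rcases mul_eq_zero.1 h3 with h | h
      · exact absurd h (pow_ne_zero _ two_ne_zero)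
      · omega
    have h2 := F.test (m - 1) (by omega) (by omega) ψ hψ ψ hψ
      (fun k hk hkt' => ⟨(hhigh k (by omega) hkt').1, (hhigh k (by omega) hkt').1⟩) htc htc
    rw [show m - 1 + 1 = m by omega, sum_eq_sum_Ico_succ_bot hkt, hsum, ht1] at h2
    simp only [hn] at hprev hz
    rw [hprev, mul_one] at h2
    have hpm : (2 : ℤ) * 2 ^ (m - 1) = 2 ^ m := by rw [← pow_succ', Nat.sub_add_cancel (by omega)]
    obtain ⟨w, hw⟩ := h2
    have hcase : (if m - 1 = 1 then (3 : ℤ) else 1) = 3 ∨ (if m - 1 = 1 then (3 : ℤ) else 1) = 1 := by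
      split_ifs
      exacts [Or.inl rfl, Or.inr rfl]
    rw [pow_succ] at hw
    rcases hcase with hc | hc <;> rw [hc] at hw
    · have h5 : (2 : ℤ) ^ t * 5 = 2 * 2 ^ t * w := by linear_combination hw - hpm - hz
      have h6 : (5 : ℤ) = 2 * w :=
        mul_left_cancel₀ (pow_ne_zero t two_ne_zero) (h5.trans (by ring))
      omega
    · have h5 : (2 : ℤ) ^ t * 3 = 2 * 2 ^ t * w := by linear_combination hw - hpm - hz
      have h6 : (3 : ℤ) = 2 * w :=
        mul_left_cancel₀ (pow_ne_zero t two_ne_zero) (h5.trans (by ring))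
      omega

/-- Constancy of all levels above one. -/
theorem const_ge_two {ψ : κ} (hψ : ψ ∈ F.H) {k : ℕ} (hk : 2 ≤ k) (hkt : k ≤ t) :
    Const k (F.r k ψ) := by
  rcases eq_or_lt_of_le hkt with rfl | hlt
  · exact (F.top_const hψ).1
  · exact (F.high_const hψ 2 le_rfl (by omega) k hk hlt).1

theorem sign_high {ψ : κ} (hψ : ψ ∈ F.H) {k : ℕ} (hk : 2 ≤ k) (hkt : k < t) :
    F.r k ψ 0 = 1 ∨ F.r k ψ 0 = -1 :=
  eq_one_or_neg (F.high_const hψ 2 le_rfl (by omega) k hk hkt).2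

/-- The products of the signs agree on the levels two and higher. -/
theorem prod_high {ψ ψ' : κ} (hψ : ψ ∈ F.H) (hψ' : ψ' ∈ F.H) : ∀ j m, m + j + 1 = t → 2 ≤ m →
    ∀ k, m ≤ k → k < t →
      F.r k ψ 0 * F.r k ψ' 0 = F.r (t - 1) ψ 0 * F.r (t - 1) ψ' 0 := by
  intro j
  induction j with
  | zero => intro m hm _ k hk hkt; rw [show k = t - 1 by omega]
  | succ j ih =>
    intro m hm hm2 k hmk hkt
    rcases eq_or_lt_of_le hmk with rfl | hlt
    swap
    · exact ih (m + 1) (by omega) (by omega) k hlt hkt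
    set P := F.r (t - 1) ψ 0 * F.r (t - 1) ψ' 0 with hP
    have h1 := F.test m (by omega) hkt ψ hψ ψ' hψ'
      (fun k hk hkt' => ⟨F.const_ge_two hψ (by omega) hkt', F.const_ge_two hψ' (by omega) hkt'⟩)
      (F.top_const hψ).1 (F.top_const hψ').1
    rw [if_neg (by omega : m ≠ 1), F.sum_const (F.const_ge_two hψ hm2 hkt.le),
      sum_congr rfl (g := fun k => (2 : ℤ) ^ k * P) fun k hk => by
        rw [mem_Ico] at hk
        rw [F.sum_const (F.const_ge_two hψ (by omega) hk.2.le),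
          ih (m + 1) (by omega) (by omega) k hk.1 hk.2],
      ← sum_mul, sum_two_pow (by omega : m + 1 ≤ t)] at h1
    have hP1 : P = 1 ∨ P = -1 := by
      have a := F.sign_high hψ (show 2 ≤ t - 1 by omega) (by omega)
      have b := F.sign_high hψ' (show 2 ≤ t - 1 by omega) (by omega)
      rcases a with a | a <;> rcases b with b | b <;> rw [hP, a, b] <;> norm_num
    have hphi : F.r t ψ 0 * F.r t ψ' 0 = 1 ∨ F.r t ψ 0 * F.r t ψ' 0 = -1 := by
      rcases eq_one_or_neg (F.top_const hψ).2 with a | a <;>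
        rcases eq_one_or_neg (F.top_const hψ').2 with b | b <;> rw [a, b] <;> norm_num
    set Pm := F.r m ψ 0 * F.r m ψ' 0 with hPm
    set φ := F.r t ψ 0 * F.r t ψ' 0 with hφ
    have hPm1 : Pm = 1 ∨ Pm = -1 := by
      have a := F.sign_high hψ hm2 hkt
      have b := F.sign_high hψ' hm2 hkt
      rcases a with a | a <;> rcases b with b | b <;> rw [hPm, a, b] <;> norm_num
    obtain ⟨z, hz⟩ : (2 : ℤ) ^ t ∣ 2 ^ m * (Pm - P) := by
      obtain ⟨z, hz⟩ := h1
      obtain ⟨c, hc⟩ : ∃ c, P + φ = 2 * c := by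
        rcases hP1 with a | a <;> rcases hphi with b | b <;> rw [a, b]
        exacts [⟨1, rfl⟩, ⟨0, rfl⟩, ⟨0, rfl⟩, ⟨-1, rfl⟩]
      refine ⟨z - c, mul_left_cancel₀ (two_ne_zero' ℤ) ?_⟩
      rw [pow_succ] at hz
      linear_combination hz - (2 : ℤ) ^ t * hc
    have hpow : (4 : ℤ) * 2 ^ m ≤ 2 ^ t := by
      rw [show (4 : ℤ) * 2 ^ m = 2 ^ (m + 2) by ring]
      exact pow_le_pow_right₀ (by norm_num) (by omega)
    have h2m : (0 : ℤ) < 2 ^ m := by positivity
    rcases hPm1 with a | a <;> rcases hP1 with b | b <;> rw [a, b] at hz ⊢ <;> exfalso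
    all_goals
      have h0 := Int.eq_zero_of_abs_lt_dvd ⟨z, hz⟩
        (by rw [abs_lt]; constructor <;> norm_num <;> omega)
      norm_num at h0

end Frame

end CfsgLib.SdBlocks
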