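import Cfsg.Agent.Lib.QuatBlocks.Group
import Cfsg.Agent.Lib.DihedralBlocks.Local
import Cfsg.Agent.Lib.Blk83.PairFusion
import Cfsg.Prelude.Def_CaseTheorems

/-!
# Semidihedral subgroups and the fusion of their elements in a block
-/

set_option autoImplicit false
set_option maxHeartbeats 1600000
set_option synthInstance.maxHeartbeats 400000

open Cfsg CfsgLib.Blocks CfsgLib.Blocks.Pairs CfsgLib.DihBlocks CfsgLib.QuatBlocks
open scoped Classical

namespace CfsgLib.SdBlocks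

universe u

variable {G : Type u} [Group G]

/-- `D` is semidihedral of order `4 * q` with cyclic part generated by `x`. -/
structure Sd (D : Subgroup G) (x s : G) (q : ℕ) : Prop where
  mem_x : x ∈ D
  mem_s : s ∈ D
  four_le : 4 ≤ q
  isPow : ∃ t, q = 2 ^ t
  order : orderOf x = 2 * q
  s_sq : s * s = 1
  conj : s * x * s⁻¹ = x ^ (q - 1)
  cases : ∀ d ∈ D, (∃ i : ℕ, d = x ^ i) ∨ ∃ i : ℕ, d = s * x ^ i
  s_out : s ∉ Subgroup.zpowers x
  card : Nat.card D = 4 * q

/-- A quasidihedral group of order `2 ^ n` gives the data. -/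
theorem exists_sd [Finite G] {D : Subgroup G} {n : ℕ} (hn : 4 ≤ n) (hcard : Nat.card D = 2 ^ n)
    (hsd : IsQuasiDihedral D) : ∃ x s : G, Sd D x s (2 ^ (n - 2)) := by
  obtain ⟨m, hm, hcm, x, s, hx, hs, hc⟩ := hsd
  obtain rfl : n = m + 1 := Nat.pow_right_injective le_rfl (hcard.symm.trans hcm)
  have hq : 2 ^ (m - 1) * 2 = 2 ^ m := by rw [← pow_succ]; congr 1; omega
  have hsx : s ∉ Subgroup.zpowers x := by
    intro hmem
    obtain ⟨k, hk⟩ := Subgroup.mem_zpowers_iff.1 hmem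
    have h1 : s * x * s⁻¹ = x := by rw [← hk]; group
    rw [h1] at hc
    nth_rewrite 1 [← pow_one x] at hc
    rw [pow_eq_pow_iff_modEq, hx] at hc
    have h4 : 4 ≤ 2 ^ (m - 1) := by
      calc 4 = 2 ^ 2 := rfl
        _ ≤ 2 ^ (m - 1) := Nat.pow_le_pow_right two_pos (by omega)
    have := Nat.ModEq.eq_of_lt_of_lt hc (by omega) (by omega)
    omega
  have hidx : (Subgroup.zpowers x).index = 2 := by
    have h1 := Subgroup.card_mul_index (Subgroup.zpowers x)
    rw [Nat.card_zpowers, hx, hcm, pow_succ] at h1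
    exact mul_left_cancel₀ (pow_ne_zero m two_ne_zero) h1
  refine ⟨(x : G), (s : G), x.2, s.2, ?_, ⟨_, rfl⟩, ?_, ?_, ?_, fun d hd => ?_, ?_, ?_⟩
  · calc 4 = 2 ^ 2 := rfl
      _ ≤ _ := Nat.pow_le_pow_right two_pos (by omega)
  · rw [Subgroup.orderOf_coe, hx, show m + 1 - 2 = m - 1 by omega]; omega
  · rw [← Subgroup.coe_mul, ← OneMemClass.coe_one D, ← sq]
    exact congrArg Subtype.val (hs ▸ pow_orderOf_eq_one s)
  · rw [show m + 1 - 2 = m - 1 by omega]
    exact congrArg Subtype.val hc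
  · by_cases hdx : (⟨d, hd⟩ : D) ∈ Subgroup.zpowers x
    · rw [← mem_powers_iff_mem_zpowers] at hdx
      obtain ⟨i, hi⟩ := hdx
      exact Or.inl ⟨i, (congrArg Subtype.val hi).symm⟩
    · have h1 : s * ⟨d, hd⟩ ∈ Subgroup.zpowers x :=
        (Subgroup.mul_mem_iff_of_index_two hidx).2 (iff_of_false hsx hdx)
      rw [← mem_powers_iff_mem_zpowers] at h1
      obtain ⟨i, hi⟩ := h1
      refine Or.inr ⟨i, ?_⟩
      have h2 : ((x : G)) ^ i = (s : G) * d := congrArg Subtype.val hi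
      have h3 : (s : G) * s = 1 := by
        rw [← Subgroup.coe_mul, ← OneMemClass.coe_one D, ← sq]
        exact congrArg Subtype.val (hs ▸ pow_orderOf_eq_one s)
      rw [h2, ← mul_assoc, h3, one_mul]
  · intro hmem
    obtain ⟨k, hk⟩ := Subgroup.mem_zpowers_iff.1 hmem
    exact hsx (Subgroup.mem_zpowers_iff.2 ⟨k, Subtype.ext (by simpa using hk)⟩)
  · rw [hcard, show m + 1 - 2 = m - 1 by omega, pow_succ]; omega

namespace Sd

variable {D : Subgroup G} {x s : G} {q : ℕ}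

theorem zpowers_le (h : Sd D x s q) : Subgroup.zpowers x ≤ D := Subgroup.zpowers_le.2 h.mem_x

theorem pow_mem_D (h : Sd D x s q) (i : ℕ) : x ^ i ∈ D := pow_mem h.mem_x i

theorem y_mem (h : Sd D x s q) : s * x ∈ D := mul_mem h.mem_s h.mem_x

/-- The half of `q`. -/
theorem exists_half (h : Sd D x s q) : ∃ m, q = 2 * m ∧ Even m ∧ 2 ≤ m ∧ q / 2 = m := by
  obtain ⟨t, ht⟩ := h.isPow
  have := h.four_le
  rcases t with _ | _ | t
  · omega
  · omega
  · refine ⟨2 ^ (t + 1), by rw [ht, pow_succ'], ⟨2 ^ t, by rw [pow_succ]; ring⟩, ?_, ?_⟩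
    · calc 2 = 2 ^ 1 := rfl
        _ ≤ _ := Nat.pow_le_pow_right two_pos (by omega)
    · rw [ht, pow_succ', Nat.mul_div_cancel_left _ two_pos]

theorem pow_two_q (h : Sd D x s q) : x ^ (2 * q) = 1 := h.order ▸ pow_orderOf_eq_one x

theorem pow_congr (h : Sd D x s q) {a b : ℕ} (hab : a % (2 * q) = b % (2 * q)) : x ^ a = x ^ b := by
  rw [← pow_mod_orderOf x a, ← pow_mod_orderOf x b, h.order, hab]

theorem pow_mod_eq (h : Sd D x s q) (a : ℕ) : x ^ (a % (2 * q)) = x ^ a :=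
  h.pow_congr (Nat.mod_mod a _)

theorem pow_inj (h : Sd D x s q) [Finite G] {a b : ℕ} (ha : a < 2 * q) (hb : b < 2 * q)
    (hab : x ^ a = x ^ b) : a = b := by
  rw [pow_eq_pow_iff_modEq, h.order] at hab
  exact Nat.ModEq.eq_of_lt_of_lt hab ha hb

theorem exists_pow (h : Sd D x s q) [Finite G] {u : G} (hu : u ∈ Subgroup.zpowers x) :
    ∃ j, j < 2 * q ∧ u = x ^ j := by
  rw [← mem_powers_iff_mem_zpowers, mem_powers_iff_mem_range_orderOf] at hu
  obtain ⟨k, hk, rfl⟩ := Finset.mem_image.1 hu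
  exact ⟨k, h.order ▸ Finset.mem_range.1 hk, rfl⟩

theorem conj_pow_eq (h : Sd D x s q) (i : ℕ) : s * x ^ i * s⁻¹ = x ^ ((q - 1) * i) := by
  rw [← conj_pow, h.conj, pow_mul]

theorem sigma_sigma (h : Sd D x s q) (i : ℕ) : ((q - 1) * ((q - 1) * i)) % (2 * q) = i % (2 * q) := by
  obtain ⟨m, hm, -, hm2, -⟩ := h.exists_half
  have hz : (((q - 1) * ((q - 1) * i) : ℕ) : ℤ) = (i : ℤ) + (2 * q : ℕ) * ((((m : ℤ) - 1) * i)) := by
    have h1 : 1 ≤ q := by omega
    push_cast [Nat.cast_sub h1]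
    have : (q : ℤ) = 2 * (m : ℤ) := by exact_mod_cast hm
    rw [this]
    ring
  have h2 := congrArg (fun z : ℤ => z % ((2 * q : ℕ) : ℤ)) hz
  simp only [Int.add_mul_emod_self_left] at h2
  exact_mod_cast h2

theorem pow_sigma_sigma (h : Sd D x s q) (i : ℕ) : x ^ ((q - 1) * ((q - 1) * i)) = x ^ i :=
  h.pow_congr (h.sigma_sigma i)

theorem out_pow (h : Sd D x s q) (i : ℕ) : s * x ^ i * (s * x ^ i) = x ^ (q * i) := by
  have h1 : 1 ≤ q := by have := h.four_le; omega
  calc s * x ^ i * (s * x ^ i) = s * x ^ i * s⁻¹ * (s * s) * x ^ i := by group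
    _ = x ^ ((q - 1) * i + i) := by rw [h.conj_pow_eq, h.s_sq, mul_one, pow_add]
    _ = x ^ (q * i) := by
      congr 1
      obtain ⟨c, rfl⟩ : ∃ c, q = c + 1 := ⟨q - 1, by omega⟩
      simp [Nat.add_mul]

theorem z_sq (h : Sd D x s q) : x ^ q * x ^ q = 1 := by rw [← pow_add, ← two_mul, h.pow_two_q]

theorem z_inv (h : Sd D x s q) : (x ^ q)⁻¹ = x ^ q := inv_eq_of_mul_eq_one_right h.z_sq

theorem y_sq (h : Sd D x s q) : s * x * (s * x) = x ^ q := by
  simpa using h.out_pow 1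

theorem out_mem (h : Sd D x s q) (i : ℕ) : s * x ^ i ∈ D := mul_mem h.mem_s (h.pow_mem_D i)

theorem out_notMem (h : Sd D x s q) (i : ℕ) : s * x ^ i ∉ Subgroup.zpowers x := fun hmem =>
  h.s_out ((Subgroup.mul_mem_cancel_right _ (Subgroup.npow_mem_zpowers x i)).1 hmem)

theorem y_out (h : Sd D x s q) : s * x ∉ Subgroup.zpowers x := by
  simpa using h.out_notMem 1

theorem exists_out (h : Sd D x s q) {d : G} (hd : d ∈ D) (hdx : d ∉ Subgroup.zpowers x) :
    ∃ i : ℕ, d = s * x ^ i := by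
  rcases h.cases d hd with ⟨i, rfl⟩ | hh
  · exact absurd (Subgroup.npow_mem_zpowers x i) hdx
  · exact hh

theorem sq_out (h : Sd D x s q) (i : ℕ) :
    (Even i → s * x ^ i * (s * x ^ i) = 1) ∧ (Odd i → s * x ^ i * (s * x ^ i) = x ^ q) := by
  rw [h.out_pow]
  refine ⟨?_, ?_⟩ <;> rintro ⟨c, rfl⟩
  · rw [show q * (c + c) = 2 * q * c by ring, pow_mul, h.pow_two_q, one_pow]
  · rw [show q * (2 * c + 1) = 2 * q * c + q by ring, pow_add, pow_mul, h.pow_two_q, one_pow,
      one_mul]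

/-- An element of the cyclic part is conjugated by the others to its `(q - 1)`-th power. -/
theorem conj_out (h : Sd D x s q) {d u : G} (hd : d ∈ D) (hdx : d ∉ Subgroup.zpowers x)
    (hu : u ∈ Subgroup.zpowers x) : d * u * d⁻¹ = u ^ (q - 1) := by
  obtain ⟨i, rfl⟩ := h.exists_out hd hdx
  obtain ⟨k, rfl⟩ := Subgroup.mem_zpowers_iff.1 hu
  calc s * x ^ i * x ^ k * (s * x ^ i)⁻¹ = (s * x * s⁻¹) ^ k := by rw [conj_zpow]; group
    _ = _ := by
      rw [h.conj, ← zpow_natCast x (q - 1), ← zpow_natCast (x ^ k) (q - 1), ← zpow_mul, ← zpow_mul,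
        mul_comm]

theorem conj_eq (h : Sd D x s q) {d u : G} (hd : d ∈ D) (hu : u ∈ Subgroup.zpowers x) :
    d * u * d⁻¹ = u ∨ d * u * d⁻¹ = u ^ (q - 1) := by
  by_cases hdx : d ∈ Subgroup.zpowers x
  · refine Or.inl ?_
    obtain ⟨a, rfl⟩ := Subgroup.mem_zpowers_iff.1 hdx
    obtain ⟨k, rfl⟩ := Subgroup.mem_zpowers_iff.1 hu
    group
  · exact Or.inr (h.conj_out hd hdx hu)

theorem z_comm (h : Sd D x s q) {d : G} (hd : d ∈ D) : d * x ^ q = x ^ q * d := by
  obtain ⟨m, hm, -, hm2, -⟩ := h.exists_half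
  rcases h.conj_eq hd (Subgroup.npow_mem_zpowers x q) with h1 | h1
  · exact mul_inv_eq_iff_eq_mul.1 h1
  · refine mul_inv_eq_iff_eq_mul.1 (h1.trans ?_)
    rw [← pow_mul]
    refine h.pow_congr ?_
    rw [show q * (q - 1) = 2 * q * (m - 1) + q by
      obtain ⟨c, rfl⟩ : ∃ c, m = c + 1 := ⟨m - 1, by omega⟩
      subst hm
      rw [show 2 * (c + 1) - 1 = 2 * c + 1 by omega, Nat.add_sub_cancel]
      ring, Nat.mul_add_mod]

theorem isPGroup (h : Sd D x s q) [Finite G] : IsPGroup 2 (Subgroup.zpowers x) := by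
  obtain ⟨t, ht⟩ := h.isPow
  exact IsPGroup.of_card (n := t + 1) (by rw [Nat.card_zpowers, h.order, ht, pow_succ'])

variable [Finite G]

theorem orderOf_pow_dvd (h : Sd D x s q) {i : ℕ} (hi : i ∣ 2 * q) :
    orderOf (x ^ i) = 2 * q / i := by
  have h2 := h.four_le
  rcases Nat.eq_zero_or_pos i with rfl | h0
  · rw [zero_dvd_iff] at hi; omega
  · rw [orderOf_pow_of_dvd (by omega) (h.order ▸ hi), h.order]

theorem orderOf_z (h : Sd D x s q) : orderOf (x ^ q) = 2 := by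
  rw [h.orderOf_pow_dvd (Dvd.intro_left 2 rfl), Nat.mul_div_cancel _ (by
    have := h.four_le; omega)]

theorem z_ne_one (h : Sd D x s q) : x ^ q ≠ 1 := fun h0 => by
  have := h.orderOf_z
  rw [h0, orderOf_one] at this
  omega

theorem orderOf_u4 (h : Sd D x s q) : orderOf (x ^ (q / 2)) = 4 := by
  obtain ⟨m, hm, -, hm2, hdiv⟩ := h.exists_half
  rw [hdiv, h.orderOf_pow_dvd ⟨4, by omega⟩, hm]
  exact Nat.div_eq_of_eq_mul_left (by omega) (by ring)

theorem u4_sq (h : Sd D x s q) : x ^ (q / 2) * x ^ (q / 2) = x ^ q := by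
  obtain ⟨m, hm, -, hm2, hdiv⟩ := h.exists_half
  rw [← pow_add, hdiv]
  congr 1
  omega

theorem orderOf_out (h : Sd D x s q) (i : ℕ) :
    (Even i → orderOf (s * x ^ i) = 2) ∧ (Odd i → orderOf (s * x ^ i) = 4) := by
  have hne : s * x ^ i ≠ 1 := fun h0 => h.out_notMem i (h0 ▸ one_mem _)
  obtain ⟨he, ho⟩ := h.sq_out i
  refine ⟨fun hi => ?_, fun hi => ?_⟩
  · exact orderOf_eq_prime ((sq _).trans (he hi)) hne
  · haveI : Fact (Nat.Prime 2) := ⟨Nat.prime_two⟩
    have h1 : orderOf (s * x ^ i) = 2 ^ (1 + 1) := by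
      refine orderOf_eq_prime_pow ?_ ?_
      · rw [pow_one, sq, ho hi]
        exact h.z_ne_one
      · rw [show 2 ^ (1 + 1) = 2 * 2 from rfl, pow_mul, sq (s * x ^ i), ho hi, sq, h.z_sq]
    simpa using h1

theorem orderOf_s (h : Sd D x s q) : orderOf s = 2 := by
  simpa using (h.orderOf_out 0).1 ⟨0, rfl⟩

theorem orderOf_y (h : Sd D x s q) : orderOf (s * x) = 4 := by
  simpa using (h.orderOf_out 1).2 odd_one

theorem mem_zpowers_of_order (h : Sd D x s q) {d : G} (hd : d ∈ D) (h2 : orderOf d ≠ 2)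
    (h4 : orderOf d ≠ 4) : d ∈ Subgroup.zpowers x := by
  by_contra hout
  obtain ⟨i, rfl⟩ := h.exists_out hd hout
  rcases Nat.even_or_odd i with hi | hi
  exacts [h2 ((h.orderOf_out i).1 hi), h4 ((h.orderOf_out i).2 hi)]

theorem eq_u4 (h : Sd D x s q) {u : G} (hu : u ∈ Subgroup.zpowers x) (ho : orderOf u = 4) :
    u = x ^ (q / 2) ∨ u = (x ^ (q / 2)) ^ 3 := by
  have h1 := QuatBlocks.Quat.zpowers_eq_of_orderOf hu (Subgroup.npow_mem_zpowers x (q / 2))
    (ho.trans h.orderOf_u4.symm)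
  have h2 : u ∈ Subgroup.zpowers (x ^ (q / 2)) := h1 ▸ Subgroup.mem_zpowers u
  rw [← mem_powers_iff_mem_zpowers, mem_powers_iff_mem_range_orderOf] at h2
  obtain ⟨k, hk, rfl⟩ := Finset.mem_image.1 h2
  rw [Finset.mem_range, h.orderOf_u4] at hk
  interval_cases k
  · simp at ho
  · exact Or.inl (pow_one _)
  · rw [sq, h.u4_sq, h.orderOf_z] at ho
    omega
  · exact Or.inr rfl

theorem u4_sigma (h : Sd D x s q) : (x ^ (q / 2)) ^ (q - 1) = (x ^ (q / 2)) ^ 3 := by
  obtain ⟨m, hm, ⟨c, hc⟩, hm2, -⟩ := h.exists_half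
  rw [pow_eq_pow_iff_modEq, h.orderOf_u4, Nat.ModEq]
  omega

theorem eq_z (h : Sd D x s q) {u : G} (hu : u ∈ Subgroup.zpowers x) (ho : orderOf u = 2) :
    u = x ^ q := by
  have h1 := QuatBlocks.Quat.zpowers_eq_of_orderOf hu (Subgroup.npow_mem_zpowers x q)
    (ho.trans h.orderOf_z.symm)
  have h2 : u ∈ Subgroup.zpowers (x ^ q) := h1 ▸ Subgroup.mem_zpowers u
  rw [← mem_powers_iff_mem_zpowers, mem_powers_iff_mem_range_orderOf] at h2
  obtain ⟨k, hk, rfl⟩ := Finset.mem_image.1 h2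
  rw [Finset.mem_range, h.orderOf_z] at hk
  interval_cases k
  · simp at ho
  · exact pow_one _

theorem normalizer_zpowers (h : Sd D x s q) {u : G} (hu : u ∈ Subgroup.zpowers x) :
    D ≤ Subgroup.normalizer (Subgroup.zpowers u : Set G) := by
  intro d hd
  refine mem_normalizer_of_conjSub_eq ?_
  rw [CfsgLib.BlockRank.conjSub_zpowers]
  exact QuatBlocks.Quat.zpowers_eq_of_orderOf (x := x)
    (by rcases h.conj_eq hd hu with h2 | h2 <;> rw [h2]; exacts [hu, pow_mem hu _]) hu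
    (MulEquiv.orderOf_eq (MulAut.conj d) u)

omit [Finite G] in
/-- The conjugates in `D` of an element outside the cyclic part. -/
theorem exists_conj_out (h : Sd D x s q) (i : ℕ) :
    ∃ k : ℕ, x ^ k * (s * x ^ i) * (x ^ k)⁻¹ = s * x ^ (i % 2) := by
  obtain ⟨m, hm, ⟨c, hc⟩, hm2, -⟩ := h.exists_half
  obtain ⟨a, ha⟩ : ∃ a, i + a * 2 * 1 = 2 * q * (i + 1) + i % 2 := ⟨q * (i + 1) - i / 2, by
    have h1 : i ≤ q * (i + 1) := by nlinarith
    have h2 := Nat.div_add_mod i 2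
    rw [mul_assoc 2 q]
    omega⟩
  refine ⟨(m - 1) * a, ?_⟩
  set k := (m - 1) * a with hk
  rw [mul_inv_eq_iff_eq_mul, mul_assoc, ← pow_add]
  have h1 : x ^ k * s = s * x ^ ((q - 1) * k) := by
    have h2 := h.conj_pow_eq ((q - 1) * k)
    rw [h.pow_sigma_sigma] at h2
    rw [← h2, inv_mul_cancel_right]
  rw [← mul_assoc, h1, mul_assoc, ← pow_add]
  congr 1
  refine h.pow_congr ?_
  have hz : (((q - 1) * k + i : ℕ) : ℤ) =
      ((i % 2 + k : ℕ) : ℤ) + (2 * q : ℕ) * ((((c : ℤ) - 1) * a) + (i + 1)) := by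
    have h1 : 1 ≤ q := by omega
    have h1' : 1 ≤ m := by omega
    rw [hk]
    have ha' : (i : ℤ) + (a : ℤ) * 2 * 1 = 2 * (q : ℤ) * ((i : ℤ) + 1) + ((i % 2 : ℕ) : ℤ) := by
      exact_mod_cast ha
    push_cast [Nat.cast_sub h1, Nat.cast_sub h1'] at ha' ⊢
    have hq' : (q : ℤ) = 2 * (m : ℤ) := by exact_mod_cast hm
    have hm' : (m : ℤ) = 2 * (c : ℤ) := by rw [hc]; push_cast; ring
    rw [hq', hm'] at ha' ⊢
    linear_combination ha'
  have h2 := congrArg (fun z : ℤ => z % ((2 * q : ℕ) : ℤ)) hz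
  simp only [Int.add_mul_emod_self_left] at h2
  exact_mod_cast h2

/-- The centralizer in `D` of an element outside the cyclic part. -/
theorem commute_out (h : Sd D x s q) {v d : G} (hv : v ∈ D) (hvx : v ∉ Subgroup.zpowers x)
    (hd : d ∈ D) (hdv : d * v = v * d) : d = 1 ∨ d = x ^ q ∨ d = v⁻¹ ∨ d = x ^ q * v⁻¹ := by
  obtain ⟨m, hm, ⟨c, hc⟩, hm2, -⟩ := h.exists_half
  have key : ∀ w ∈ Subgroup.zpowers x, w * v = v * w → w = 1 ∨ w = x ^ q := by
    intro w hw hwv
    obtain ⟨k, hk, rfl⟩ := h.exists_pow hw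
    have h1 := h.conj_out hv hvx (Subgroup.npow_mem_zpowers x k)
    rw [← hwv, mul_inv_cancel_right, ← pow_mul] at h1
    rw [pow_eq_pow_iff_modEq, h.order, Nat.modEq_iff_dvd] at h1
    obtain ⟨z, hz⟩ := h1
    have hdvd : (q : ℤ) ∣ ((m : ℤ) - 1) * k := by
      refine ⟨z, ?_⟩
      push_cast [Nat.cast_sub (show 1 ≤ q by omega)] at hz
      have hq' : (q : ℤ) = 2 * (m : ℤ) := by exact_mod_cast hm
      rw [hq'] at hz ⊢
      linarith
    have hcop : IsCoprime (q : ℤ) ((m : ℤ) - 1) := by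
      obtain ⟨t, ht⟩ := h.isPow
      rw [ht, Nat.cast_pow]
      refine (Int.prime_two.coprime_iff_not_dvd.2 ?_).pow_left
      rw [hc]
      push_cast
      omega
    obtain ⟨j, hj⟩ := Int.natCast_dvd_natCast.1 (hcop.dvd_of_dvd_mul_left hdvd)
    have h2 : j < 2 := by nlinarith
    interval_cases j
    · exact Or.inl (by rw [hj, mul_zero, pow_zero])
    · exact Or.inr (by rw [hj, mul_one])
  by_cases hdx : d ∈ Subgroup.zpowers x
  · rcases key d hdx hdv with h1 | h1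
    exacts [Or.inl h1, Or.inr (Or.inl h1)]
  · obtain ⟨i, hi⟩ := h.exists_out hd hdx
    obtain ⟨j, hj⟩ := h.exists_out hv hvx
    have hdv' : d * v ∈ Subgroup.zpowers x := by
      rw [hi, hj, show s * x ^ i * (s * x ^ j) = s * x ^ i * s⁻¹ * (s * s) * x ^ j by group,
        h.conj_pow_eq, h.s_sq, mul_one]
      exact mul_mem (Subgroup.npow_mem_zpowers x _) (Subgroup.npow_mem_zpowers x j)
    rcases key _ hdv' (by nth_rewrite 1 [hdv]; rw [mul_assoc]) with h1 | h1
    · exact Or.inr (Or.inr (Or.inl (eq_inv_of_mul_eq_one_left h1)))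
    · exact Or.inr (Or.inr (Or.inr (eq_mul_inv_of_mul_eq h1)))

/-- An element of odd order fixing the central involution and normalising a subgroup of `D`
centralises it, unless it moves an element of order four out of the cyclic part. -/
theorem mem_centralizer_of_regular (h : Sd D x s q) {Q : Subgroup G} (hQ : Q ≤ D) {y : G}
    (hy : y ∈ Subgroup.normalizer (Q : Set G)) (hreg : IsPRegular 2 y)
    (hz : y * x ^ q * y⁻¹ = x ^ q)
    (h4 : ∀ a ∈ Q, a ∈ Subgroup.zpowers x → orderOf a = 4 → y * a * y⁻¹ ∈ Subgroup.zpowers x) :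
    y ∈ Subgroup.centralizer (Q : Set G) := by
  have hmem : ∀ a ∈ Q, y * a * y⁻¹ ∈ Q := fun a ha => (Subgroup.mem_normalizer_iff.1 hy a).1 ha
  have hord : ∀ a : G, orderOf (y * a * y⁻¹) = orderOf a := fun a =>
    MulEquiv.orderOf_eq (MulAut.conj y) a
  have hin : ∀ a ∈ Q, a ∈ Subgroup.zpowers x → y * a * y⁻¹ = a := by
    intro a ha hax
    by_cases ho2 : orderOf a = 2
    · rw [h.eq_z hax ho2, hz]
    have himg : y * a * y⁻¹ ∈ Subgroup.zpowers x := by
      by_cases ho4 : orderOf a = 4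
      · exact h4 a ha hax ho4
      · exact h.mem_zpowers_of_order (hQ (hmem a ha)) (by rwa [hord]) (by rwa [hord])
    refine DihBlocks.Dih.commute_of_regular_normalizer
      (h.isPGroup.to_le (Subgroup.zpowers_le.2 hax)) (mem_normalizer_of_conjSub_eq ?_) hreg
    rw [CfsgLib.BlockRank.conjSub_zpowers]
    exact QuatBlocks.Quat.zpowers_eq_of_orderOf himg hax (hord a)
  rw [Subgroup.mem_centralizer_iff]
  intro a ha
  suffices heq : y * a * y⁻¹ = a by
    calc a * y = y * a * y⁻¹ * y := by rw [heq]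
      _ = y * a := by group
  by_cases hax : a ∈ Subgroup.zpowers x
  · exact hin a ha hax
  · have hbx : y * a * y⁻¹ ∉ Subgroup.zpowers x := by
      intro hbx
      have h1 := hin _ (hmem a ha) hbx
      have h2 : y * a * y⁻¹ = a := by
        calc y * a * y⁻¹ = y⁻¹ * (y * (y * a * y⁻¹) * y⁻¹) * y := by group
          _ = y⁻¹ * (y * a * y⁻¹) * y := by rw [h1]
          _ = a := by group
      exact hax (h2 ▸ hbx)
    set c := a⁻¹ * (y * a * y⁻¹) with hc
    have hcQ : c ∈ Q := Q.mul_mem (Q.inv_mem ha) (hmem a ha)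
    have hcx : c ∈ Subgroup.zpowers x := by
      obtain ⟨i, hi⟩ := h.exists_out (hQ ha) hax
      obtain ⟨j, hj⟩ := h.exists_out (hQ (hmem a ha)) hbx
      rw [hc, hj, hi, mul_inv_rev, mul_assoc, inv_mul_cancel_left]
      exact mul_mem (inv_mem (Subgroup.npow_mem_zpowers x i)) (Subgroup.npow_mem_zpowers x j)
    have hcfix := hin c hcQ hcx
    have hpow : ∀ m : ℕ, y ^ m * a * (y ^ m)⁻¹ = a * c ^ m := by
      intro m
      induction m with
      | zero => simp
      | succ m ih =>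
        calc y ^ (m + 1) * a * (y ^ (m + 1))⁻¹ = y * (y ^ m * a * (y ^ m)⁻¹) * y⁻¹ := by
              rw [pow_succ']; group
          _ = y * a * y⁻¹ * (y * c * y⁻¹) ^ m := by rw [ih, conj_pow]; group
          _ = a * c ^ (m + 1) := by
              rw [hcfix, show y * a * y⁻¹ = a * c by rw [hc]; group, pow_succ', mul_assoc]
    have h1 := hpow (orderOf y)
    rw [pow_orderOf_eq_one, one_mul, inv_one, mul_one, left_eq_mul] at h1
    obtain ⟨t, ht⟩ := h.isPGroup ⟨c, hcx⟩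
    have h2 : orderOf c ∣ 2 ^ t := orderOf_dvd_of_pow_eq_one (congrArg Subtype.val ht)
    have h3 : orderOf c = 1 := Nat.eq_one_of_dvd_coprimes
      ((Nat.prime_two.coprime_iff_not_dvd.mpr hreg).symm.pow_right t)
      (orderOf_dvd_of_pow_eq_one h1) h2
    rw [orderOf_eq_one_iff, hc, inv_mul_eq_one] at h3
    exact h3.symm

omit [Finite G] in
/-- The data inside a subgroup containing `D`. -/
theorem down (h : Sd D x s q) {L : Subgroup G} (hDL : D ≤ L) :
    Sd (D.subgroupOf L) (⟨x, hDL h.mem_x⟩ : L) ⟨s, hDL h.mem_s⟩ q where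
  mem_x := h.mem_x
  mem_s := h.mem_s
  four_le := h.four_le
  isPow := h.isPow
  order := by rw [Subgroup.orderOf_mk, h.order]
  s_sq := Subtype.ext h.s_sq
  conj := Subtype.ext (by simpa using h.conj)
  cases := fun d hd => by
    rcases h.cases d hd with ⟨i, hi⟩ | ⟨i, hi⟩
    · exact Or.inl ⟨i, Subtype.ext (by simpa using hi)⟩
    · exact Or.inr ⟨i, Subtype.ext (by simpa using hi)⟩
  s_out := fun hmem => by
    obtain ⟨k, hk⟩ := Subgroup.mem_zpowers_iff.1 hmem
    exact h.s_out (Subgroup.mem_zpowers_iff.2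
      ⟨k, by simpa using congrArg Subtype.val hk⟩)
  card := by rw [Nat.card_congr (Subgroup.subgroupOfEquivOfLe hDL).toEquiv, h.card]

end Sd

namespace Sd

variable [Fintype G] {D : Subgroup G} {x s : G} {q : ℕ} {M : Ideal AlgInt} [M.IsMaximal]
  [CharP (ResField M) 2] {E e f : MonoidAlgebra (ResField M) G}

/-- The stabilizer of a pair on a cyclic subgroup of `D` acts as `D` does. -/
theorem stab_cyclic (hM : IsPModular 2 M) (h : Sd D x s q) (hP : PairOf 2 E D e)
    (hno : NoExt 2 D e) {u : G} (hu : u ∈ Subgroup.zpowers x)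
    (hle : SLE 2 (Subgroup.zpowers u) f D e) {t : G}
    (ht : t ∈ pairStab (Subgroup.zpowers u) f) :
    t * u * t⁻¹ = u ∨ t * u * t⁻¹ = u ^ (q - 1) := by
  have htu : t * u * t⁻¹ ∈ Subgroup.zpowers x := Subgroup.zpowers_le.2 hu
    ((Subgroup.mem_normalizer_iff.1 ht.1 u).1 (Subgroup.mem_zpowers u))
  have hord : ∀ w : G, orderOf (w * u * w⁻¹) = orderOf u := fun w =>
    MulEquiv.orderOf_eq (MulAut.conj w) u
  by_cases ho2 : orderOf u = 2
  · exact Or.inl ((h.eq_z htu ((hord t).trans ho2)).trans (h.eq_z hu ho2).symm)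
  by_cases ho4 : orderOf u = 4
  · have h3 : ((x ^ (q / 2)) ^ 3) ^ (q - 1) = x ^ (q / 2) := by
      rw [← pow_mul, mul_comm, pow_mul, h.u4_sigma, ← pow_mul,
        show 3 * 3 = orderOf (x ^ (q / 2)) * 2 + 1 by rw [h.orderOf_u4], pow_add, pow_mul,
        pow_orderOf_eq_one, one_pow, one_mul, pow_one]
    rcases h.eq_u4 htu ((hord t).trans ho4) with h1 | h1 <;>
      rcases h.eq_u4 hu ho4 with h2 | h2 <;> rw [h1, h2]
    · exact Or.inl rfl
    · exact Or.inr h3.symm
    · exact Or.inr h.u4_sigma.symm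
    · exact Or.inl rfl
  set Z := Subgroup.zpowers u with hZ
  have hQp := hle.pair_left hP.pair
  have hTN : pairStab Z f ≤ Subgroup.normalizer (Z : Set G) := fun w hw => hw.1
  have hfix : ConjFixed (pairStab Z f) f := conjFixed_iff.mpr fun w hw => hw.2
  have hDN : D ⊓ Subgroup.normalizer (Z : Set G) = D :=
    inf_eq_left.2 (h.normalizer_zpowers hu)
  have hDT : D ≤ pairStab Z f := hDN ▸ inf_normalizer_le_pairStab hP.pair hle
  obtain ⟨D₀, hD₀⟩ := exists_maxIn_of_isBlockIdem hM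
    (isBlockIdem_of_stable hQp (le_pairStab hQp) hTN (centralizer_le_pairStab hQp) hfix)
  obtain ⟨w, hw, hmw⟩ := exists_conj_maxIn hP hno hle hTN (centralizer_le_pairStab hQp) hfix hD₀
  have hwuD : w * u * w⁻¹ ∈ D := hw.le (Subgroup.mem_map_of_mem _ (Subgroup.mem_zpowers u))
  have hwZ : conjSub w Z = Z := by
    rw [CfsgLib.BlockRank.conjSub_zpowers]
    exact QuatBlocks.Quat.zpowers_eq_of_orderOf
      (h.mem_zpowers_of_order hwuD (by rwa [hord]) (by rwa [hord])) hu (hord w)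
  rw [conjSub_pairStab, hwZ] at hmw
  rw [hwZ] at hw
  rw [SLE.unique hP.pair hw hle, inf_eq_left.2 hDT] at hmw
  obtain ⟨-, R, hR⟩ := isFullyAutomized_of_maxIn hM hP.pair hle (by rwa [hDN])
  have hZp : IsPGroup 2 Z := h.isPGroup.to_le (Subgroup.zpowers_le.2 hu)
  haveI : Finite (MulAut Z) := CfsgLib.Fusion.finite_mulAut
  have htop : (R : Subgroup ((pairFusion 2 D e hP.pair).autGroup Z)) = ⊤ :=
    (R.3 (Q := ⊤) (((Dih.isPGroup_mulAut (C := Z) hZp).to_subgroup _).to_subgroup _) le_top).symm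
  have hmem : Z.normalizerMonoidHom ⟨t, ht.1⟩ ∈ (pairFusion 2 D e hP.pair).autGroup Z := by
    rw [autGroup_pairFusion hP.pair hle, CfsgLib.Fusion.mem_autInducedBy_iff]
    exact ⟨t, ht, fun _ => rfl⟩
  have h2 : (⟨_, hmem⟩ : (pairFusion 2 D e hP.pair).autGroup Z) ∈
      (R : Subgroup ((pairFusion 2 D e hP.pair).autGroup Z)) := htop ▸ Subgroup.mem_top _
  rw [hR, Subgroup.mem_subgroupOf, CfsgLib.Fusion.mem_autInducedBy_iff] at h2
  obtain ⟨d, hd, hdu⟩ := h2
  have h3 : t * u * t⁻¹ = d * u * d⁻¹ := hdu ⟨u, Subgroup.mem_zpowers u⟩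
  rw [h3]
  exact h.conj_eq hd hu

/-- Elements of the cyclic part are fused as in `D`. -/
theorem fus_pow (hM : IsPModular 2 M) (h : Sd D x s q) (hP : PairOf 2 E D e)
    (hno : NoExt 2 D e) {u v : G} (hu : u ∈ Subgroup.zpowers x) (hv : v ∈ Subgroup.zpowers x)
    (hf : Fus 2 D e u v) : v = u ∨ v = u ^ (q - 1) := by
  have hord := hf.orderOf_eq
  obtain ⟨g, f, h1, rfl, h2⟩ := hf
  have heq : Subgroup.zpowers (g * u * g⁻¹) = Subgroup.zpowers u :=
    QuatBlocks.Quat.zpowers_eq_of_orderOf hv hu hord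
  rw [heq] at h2
  have h3 : conjA g f = f := SLE.unique hP.pair h2 h1
  exact stab_cyclic hM h hP hno hu h1
    ⟨mem_normalizer_of_conjSub_eq (by rw [CfsgLib.BlockRank.conjSub_zpowers, heq]), h3⟩

/-- An element of `D` is fused to its `(q - 1)`-th power, when in the cyclic part. -/
theorem fus_sigma (h : Sd D x s q) (hP : PairOf 2 E D e) {u : G}
    (hu : u ∈ Subgroup.zpowers x) : Fus 2 D e u (u ^ (q - 1)) := by
  have := fus_conj_of_mem hP.pair (h.zpowers_le hu) h.mem_s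
  rwa [h.conj_out h.mem_s h.s_out hu] at this

/-- The elements outside the cyclic part are fused to `s` or to `s * x`. -/
theorem fus_out (h : Sd D x s q) (hP : PairOf 2 E D e) (i : ℕ) :
    (Even i → Fus 2 D e (s * x ^ i) s) ∧ (Odd i → Fus 2 D e (s * x ^ i) (s * x)) := by
  obtain ⟨k, hk⟩ := h.exists_conj_out i
  have hf := fus_conj_of_mem hP.pair (h.out_mem i) (h.pow_mem_D k)
  rw [hk] at hf
  refine ⟨fun hi => ?_, fun hi => ?_⟩
  · rwa [Nat.even_iff.1 hi, pow_zero, mul_one] at hf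
  · rwa [Nat.odd_iff.1 hi, pow_one] at hf

/-- An element of order four of the cyclic part fused out of it gives the fusion to `s * x`. -/
theorem fus_four (h : Sd D x s q) (hP : PairOf 2 E D e) {u v : G}
    (hu : u ∈ Subgroup.zpowers x) (ho : orderOf u = 4) (hv : v ∉ Subgroup.zpowers x)
    (hf : Fus 2 D e u v) : Fus 2 D e (x ^ (q / 2)) (s * x) := by
  have hord := hf.orderOf_eq
  obtain ⟨i, rfl⟩ := h.exists_out hf.mem_right hv
  have hodd : Odd i := by
    rcases Nat.even_or_odd i with hi | hi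
    · rw [(h.orderOf_out i).1 hi, ho] at hord
      omega
    · exact hi
  have h1 : Fus 2 D e (x ^ (q / 2)) u := by
    rcases h.eq_u4 hu ho with rfl | rfl
    · have := fus_conj_of_mem hP.pair (h.pow_mem_D (q / 2)) (one_mem D)
      simpa using this
    · rw [← h.u4_sigma]
      exact h.fus_sigma hP (Subgroup.npow_mem_zpowers x _)
  exact (h1.trans hP.pair hf).trans hP.pair ((h.fus_out hP i).2 hodd)

omit [CharP (ResField M) 2] in
/-- A central involution is fused only to itself. -/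
theorem fus_central (hz : ∀ c : G, c * x ^ q = x ^ q * c) {v : G}
    (hf : Fus 2 D e (x ^ q) v) : v = x ^ q := by
  obtain ⟨g, f, -, rfl, -⟩ := hf
  rw [hz g, mul_inv_cancel_right]

/-- Without the fusion of the elements of order four, a block with central involution in the
centre is nilpotent. -/
theorem nilPairs (h : Sd D x s q) (hP : PairOf 2 E D e) (hno : NoExt 2 D e)
    (hz : ∀ c : G, c * x ^ q = x ^ q * c) (hF : ¬ Fus 2 D e (x ^ (q / 2)) (s * x)) :
    CfsgLib.Blk83.NilPairs 2 E := by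
  refine CfsgLib.Blk83.nilPairs_of_below hP hno fun R g hRg y hy hreg => ?_
  refine h.mem_centralizer_of_regular hRg.le hy.1 hreg
    (by rw [hz y, mul_inv_cancel_right]) fun a ha hax ho => ?_
  by_contra hout
  have hle := sle_below (M := M) hP.pair (hRg.le ha)
  have h1 := (SLE.factor hP.pair hle hRg (Subgroup.zpowers_le.2 ha)).conj y
  rw [conjSub_eq_of_mem_normalizer hy.1, hy.2, CfsgLib.BlockRank.conjSub_zpowers] at h1
  exact hF (h.fus_four hP hax ho hout ⟨y, _, hle, rfl, h1.trans hRg⟩)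

end Sd

end CfsgLib.SdBlocks
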