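import Cfsg.Agent.Lib.SdBlocks.InnerTest

/-!
# The regular matrix of a block with central involution and the fusion of the elements of order four
-/

set_option autoImplicit false
set_option maxHeartbeats 1600000
set_option synthInstance.maxHeartbeats 400000

open scoped ComplexConjugate Classical
open Cfsg CfsgLib.Blocks CfsgLib.Blocks.Pairs CfsgLib.BlockRank CfsgLib.DihBlocks CfsgLib.QuatBlocks

namespace CfsgLib.SdBlocks

universe u

variable {G : Type u} [Group G] [Fintype G] {M : Ideal AlgInt} [M.IsMaximal]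
  [CharP (ResField M) 2] {B : Set (IrrCharacter G)} [Fintype B]

namespace Inn

variable (I : Inn M B)

theorem mem_pow_level (k o : ℕ) : I.x ^ (2 ^ (I.t - k) * o) ∈ I.D := I.h.pow_mem_D _

theorem order_level {k τ : ℕ} (hk : 1 ≤ k) (hkt : k ≤ I.t) (hτ : τ < 2 ^ k) :
    orderOf (I.x ^ (2 ^ (I.t - k) * (2 * τ + 1))) = 2 * 2 ^ k ∧
      RankOneAt M I.D I.e (I.x ^ (2 ^ (I.t - k) * (2 * τ + 1))) := by
  refine ⟨?_, I.rankOne_pow (I.h.level_index I.hq hk hkt (by omega) (odd_two_mul_add_one τ))⟩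
  rw [pow_mul, Nat.Coprime.orderOf_pow, I.h.orderOf_pow_dvd
    (dvd_mul_of_dvd_right (I.hq ▸ pow_dvd_pow 2 (Nat.sub_le I.t k)) 2), I.hq,
    show 2 * 2 ^ I.t = 2 * 2 ^ k * 2 ^ (I.t - k) by
      rw [mul_assoc, ← pow_add, Nat.add_sub_cancel' hkt], Nat.mul_div_cancel _ (Nat.two_pow_pos _)]
  rw [I.h.orderOf_pow_dvd (dvd_mul_of_dvd_right (I.hq ▸ pow_dvd_pow 2 (Nat.sub_le I.t k)) 2), I.hq,
    show 2 * 2 ^ I.t = 2 * 2 ^ k * 2 ^ (I.t - k) by
      rw [mul_assoc, ← pow_add, Nat.add_sub_cancel' hkt], Nat.mul_div_cancel _ (Nat.two_pow_pos _),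
    ← pow_succ']
  exact Nat.Coprime.pow_left _ ((Nat.coprime_two_left).2 (odd_two_mul_add_one τ))

/-- An integral function orthogonal to the columns of a level is orthogonal to its coordinates. -/
theorem lin_int {k : ℕ} (hk : 1 ≤ k) (hkt : k ≤ I.t) (F : IrrCharacter G → ℤ)
    (hF : ∀ τ < 2 ^ k, ∑ χ ∈ B.toFinset,
      (F χ : ℂ) * conj (col M I.D I.e (I.x ^ (2 ^ (I.t - k) * (2 * τ + 1))) χ) = 0)
    {i : ℕ} (hi : i < 2 ^ k) : ∑ χ ∈ B.toFinset, F χ * I.r k χ i = 0 := by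
  obtain ⟨L, hL⟩ := I.exists_lvl hk hkt
  have h1 := L.lin I.hζ hkt (fun χ => (F χ : ℂ)) (fun τ hτ => by
    have h2 := congrArg conj (hF τ hτ)
    simpa only [map_sum, map_mul, map_intCast, Complex.conj_conj, map_zero] using h2) hi
  simp only [hL, ← Int.cast_mul, ← Int.cast_sum] at h1
  exact_mod_cast h1

theorem orth_lvl {k : ℕ} (hk : 1 ≤ k) (hkt : k < I.t) {i : ℕ} (hi : i < 2 ^ k) {j : ℕ}
    (hj : j < 2 ^ I.t) : ∑ χ ∈ B.toFinset, I.r k χ i * I.r I.t χ j = 0 := by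
  rw [Finset.sum_congr rfl fun χ _ => mul_comm _ _]
  refine I.lin_int hk hkt.le (fun χ => I.r I.t χ j) (fun τ hτ => ?_) hi
  obtain ⟨L, hL⟩ := I.exists_lvl (by omega : 1 ≤ I.t) le_rfl
  have h1 := L.lin I.hζ le_rfl
    (fun χ => conj (col M I.D I.e (I.x ^ (2 ^ (I.t - k) * (2 * τ + 1))) χ)) (fun σ hσ => ?_) hj
  · rw [hL] at h1
    rw [← h1]
    exact Finset.sum_congr rfl fun χ _ => mul_comm _ _
  · rw [← sum_col_ne I.hM I.hB I.hP (I.mem_pow_level I.t (2 * σ + 1))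
      (I.mem_pow_level k (2 * τ + 1)) fun hf => ?_]
    · exact Finset.sum_congr rfl fun χ _ => mul_comm _ _
    · have h2 := hf.orderOf_eq
      rw [(I.order_level hk hkt.le hτ).1, (I.order_level (by omega) le_rfl hσ).1] at h2
      have := Nat.pow_lt_pow_right one_lt_two hkt
      omega

theorem orth_ws {k : ℕ} (hk : 1 ≤ k) (hkt : k ≤ I.t) {i : ℕ} (hi : i < 2 ^ k) :
    ∑ χ ∈ B.toFinset, I.ws χ * I.r k χ i = 0 := by
  refine I.lin_int hk hkt I.ws (fun τ hτ => ?_) hi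
  have h1 := sum_col_ne I.hM I.hB I.hP I.h.mem_s (I.mem_pow_level k (2 * τ + 1))
    fun hf => I.s_image hf (Subgroup.npow_mem_zpowers I.x _)
  simp only [I.col_s, mul_assoc, ← Finset.mul_sum] at h1
  exact (mul_eq_zero.1 h1).resolve_left (Nat.cast_ne_zero.2 (I.exists_orb_s.some).deg_pos.ne')

theorem Z_col {u : G} (hu : u ∈ I.D) (hr : RankOneAt M I.D I.e u) (h1 : u ≠ 1)
    {ψ : IrrCharacter G} (hψ : ψ ∈ B) :
    ∑ χ ∈ B.toFinset, (I.Z χ ψ : ℂ) * conj (col M I.D I.e u χ) = 0 := by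
  rw [← sum_contrib_col_ne I.hM I.hP I.hT (I.sc_mem (one_mem _)) hu (fun hf => ?_) hr I.d ψ]
  · exact Finset.sum_congr rfl fun χ hχ => by rw [I.contrib_one (Set.mem_toFinset.1 hχ) hψ]
  · rw [I.phi_one] at hf
    exact h1 (orderOf_eq_one_iff.1 (hf.orderOf_eq.symm.trans orderOf_one))

theorem orth_Z {k : ℕ} (hk : 1 ≤ k) (hkt : k ≤ I.t) {i : ℕ} (hi : i < 2 ^ k)
    {ψ : IrrCharacter G} (hψ : ψ ∈ B) :
    ∑ χ ∈ B.toFinset, I.Z χ ψ * I.r k χ i = 0 := by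
  refine I.lin_int hk hkt (fun χ => I.Z χ ψ) (fun τ hτ => ?_) hi
  obtain ⟨ho, hr⟩ := I.order_level hk hkt hτ
  refine I.Z_col (I.mem_pow_level k _) hr (fun he => ?_) hψ
  rw [he, orderOf_one] at ho
  have := Nat.two_pow_pos k
  omega

theorem orth_Z_ws {ψ : IrrCharacter G} (hψ : ψ ∈ B) :
    ∑ χ ∈ B.toFinset, I.Z χ ψ * I.ws χ = 0 := by
  have h1 := I.Z_col I.h.mem_s I.rankOne_s (fun he => I.h.s_out (he ▸ one_mem _)) hψ
  simp only [I.col_s, map_mul, map_natCast, map_intCast, mul_left_comm ((I.Z _ ψ : ℂ)),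
    ← Finset.mul_sum] at h1
  have h2 := (mul_eq_zero.1 h1).resolve_left
    (Nat.cast_ne_zero.2 (I.exists_orb_s.some).deg_pos.ne')
  exact_mod_cast h2

theorem ident {χ ψ : IrrCharacter G} (hχ : χ ∈ B) (hψ : ψ ∈ B) :
    I.Z χ ψ * (1 + I.sgn χ * I.sgn ψ) + 2 ^ I.t * (I.ws χ * I.ws ψ) +
      ∑ k ∈ Finset.Ico 1 (I.t + 1), 2 ^ k * ∑ i ∈ Finset.range (2 ^ k), I.r k χ i * I.r k ψ i =
        if χ = ψ then 4 * 2 ^ I.t else 0 := by
  have h1 := I.split (fun _ => 1) (fun _ _ _ => rfl) hχ hψ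
  simp only [one_mul] at h1
  rw [sum_contrib_eq I.hM I.hB I.hP I.hno I.hT hχ ψ I.d,
    Finset.sum_congr rfl (s₁ := Finset.Ico 1 (I.t + 1))
      (g := fun k => ((2 ^ k * ∑ i ∈ Finset.range (2 ^ k), I.r k χ i * I.r k ψ i : ℤ) : ℂ))
      fun k hk => by
      rw [Finset.mem_Ico] at hk
      obtain ⟨L, hL⟩ := I.exists_lvl hk.1 (by omega : k ≤ I.t)
      have h2 := L.sum_phi I.hq I.hζ (by omega : k ≤ I.t) χ ψ
      rw [Finset.sum_congr rfl fun τ _ => L.phi_eq I.hq (odd_two_mul_add_one τ) χ ψ, hL] at h2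
      exact h2,
    ← Int.cast_sum, I.cast_two_pow] at h1
  apply Int.cast_injective (α := ℂ)
  split_ifs at h1 ⊢ <;> push_cast at h1 ⊢ <;> linear_combination -h1

/-- The integral data of the block. -/
noncomputable def frame : Frame (IrrCharacter G) I.t where
  S := B.toFinset
  H := I.H
  sub := Finset.filter_subset _ _
  card_H := I.card_H
  two_le := I.two_le_t
  sgn := I.sgn
  sgn_sq χ _ := I.sgn_sq χ
  Z := I.Z
  Z_symm := I.Z_symm
  Z_idem := I.exists_Z.choose_spec.2.2.1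
  Z_ne χ hχ ψ hψ :=
    (I.exists_Z.choose_spec.2.2.2.2 χ (Set.mem_toFinset.1 hχ) ψ (I.mem_H.1 hψ).1
      (I.mem_H.1 hψ).2).1
  Z_even χ hχ hH ψ hψ :=
    (I.exists_Z.choose_spec.2.2.2.2 χ (Set.mem_toFinset.1 hχ) ψ (I.mem_H.1 hψ).1
      (I.mem_H.1 hψ).2).2 fun h0 => hH (I.mem_H.2 ⟨Set.mem_toFinset.1 hχ, h0⟩)
  l := blockRank 2 B
  Z_trace := I.exists_Z.choose_spec.2.2.2.1
  card_S := I.card_B
  ws := I.ws
  ws_on := I.ws_H.1
  ws_off := I.ws_H.2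
  r := I.r
  refl k hk hkt χ _ i hi hik := by
    obtain ⟨L, hL⟩ := I.exists_lvl hk hkt
    have := L.refl χ i hi hik
    rwa [hL] at this
  odd k hk hkt χ hχ := by
    obtain ⟨L, hL⟩ := I.exists_lvl hk hkt
    have := L.parity χ (I.mem_H.1 hχ).1 (I.mem_H.1 hχ).2
    rwa [hL] at this
  gram_top i hi j hj := by
    have ht : 1 ≤ I.t := by have := I.two_le_t; omega
    obtain ⟨L, hL⟩ := I.exists_lvl ht le_rfl
    have h1 := I.h.lvl_gram I.hM I.hP I.hno I.hq I.hζ ht le_rfl L hi hj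
    rw [hL, I.hq] at h1
    refine mul_left_cancel₀ (pow_ne_zero I.t (two_ne_zero : (2 : ℤ) ≠ 0)) ?_
    rw [h1]
    push_cast
    ring
  gram_one := by
    have ht : 1 ≤ I.t := by have := I.two_le_t; omega
    obtain ⟨L, hL⟩ := I.exists_lvl le_rfl ht
    have h1 := I.h.lvl_gram I.hM I.hP I.hno I.hq I.hζ le_rfl ht L (i := 0) (l := 0) (by norm_num)
      (by norm_num)
    rw [hL, I.hq, sg, if_neg (by have := I.two_le_t; omega : ¬ 1 = I.t)] at h1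
    push_cast at h1
    norm_num at h1
    linarith
  orth_lvl k hk hkt i hi j hj := I.orth_lvl hk hkt hi hj
  orth_ws k hk hkt i hi := I.orth_ws hk hkt hi
  orth_Z k hk hkt i hi ψ hψ := I.orth_Z hk hkt hi (Set.mem_toFinset.1 hψ)
  orth_Z_ws ψ hψ := I.orth_Z_ws (Set.mem_toFinset.1 hψ)
  ident χ hχ ψ hψ := I.ident (Set.mem_toFinset.1 hχ) (Set.mem_toFinset.1 hψ)
  test m hm hmt ψ hψ ψ' hψ' hc hct hct' :=
    I.exists_test hm hmt (I.mem_H.1 hψ).1 (I.mem_H.1 hψ').1 hc hct hct'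
  star _ hi hih := I.exists_star hi hih

end Inn

/-- **The regular matrix.** -/
theorem inner (hM : IsPModular 2 M) {D : Subgroup G} {x s : G} {q t : ℕ}
    {e : MonoidAlgebra (ResField M) G} {hB : IsPBlock M B} (h : Sd D x s q)
    (hP : PairOf 2 (ebar hB) D e) (hno : NoExt 2 D e) (hz : ∀ c : G, c * x ^ q = x ^ q * c)
    (hF : Fus 2 D e (x ^ (q / 2)) (s * x)) (hq : q = 2 ^ t) :
    blockRank 2 B = 2 ∧ ∃ a w : IrrCharacter G → ℤ,
      (∀ χ ∈ B, ∀ ψ ∈ B, ((a χ * a ψ + 2 ^ (t - 1) * (w χ * w ψ) : ℤ) : ℂ) =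
        ((2 ^ blockDefect 2 B : ℕ) : ℂ) *
          ((Nat.card G : ℂ)⁻¹ * regPair 2 (χ : G → ℂ) (ψ : G → ℂ))) ∧
      (∑ χ ∈ B.toFinset, a χ * a χ = 4 * 2 ^ t) ∧ (∑ χ ∈ B.toFinset, w χ * w χ = 8) ∧
      (∑ χ ∈ B.toFinset, a χ * w χ = 0) ∧ ∀ χ ∈ B, (2 : ℤ) ∣ a χ - w χ := by
  obtain ⟨T, φ, hT⟩ := exists_secData hM hB hP hno
  have hdef : 2 ^ blockDefect 2 B = 4 * q := by
    rw [← card_defectGroup hM hB ((isDefectGroup_iff_maxR hM hB).2 (maxR_of_noExt hP hno)), h.card]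
  let I : Inn M B := ⟨D, x, s, q, t, blockDefect 2 B, e, T, φ, _, hM, hB, h, hP, hno, hT, hz, hF,
    hq, Complex.isPrimitiveRoot_exp (2 * 2 ^ t) (mul_ne_zero two_ne_zero (pow_ne_zero _ two_ne_zero)),
    hdef, rfl⟩
  obtain ⟨hl, a, w, hZ, ha, hw, haw, hpar⟩ := I.frame.main
  refine ⟨hl, a, w, fun χ hχ ψ hψ => ?_, ha, hw, haw,
    fun χ hχ => hpar χ (Set.mem_toFinset.2 hχ)⟩
  rw [← hZ χ (Set.mem_toFinset.2 hχ) ψ (Set.mem_toFinset.2 hψ)]
  exact I.Z_cast hχ hψ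

end CfsgLib.SdBlocks
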