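import Cfsg.Agent.Lib.SdBlocks.Chars
import Cfsg.Agent.Lib.QuatBlocks.AMatrix
import Cfsg.Agent.Lib.BlockRank.LocalMatrix

/-!
# The subsections of a block with central involution and the fusion of the elements of order four
-/

set_option autoImplicit false
set_option maxHeartbeats 1600000
set_option synthInstance.maxHeartbeats 400000

open scoped ComplexConjugate Classical
open Cfsg CfsgLib.Blocks CfsgLib.Blocks.Pairs CfsgLib.BlockRank CfsgLib.DihBlocks CfsgLib.QuatBlocks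

namespace CfsgLib.SdBlocks

universe u

variable {G : Type u} [Group G] [Fintype G] {M : Ideal AlgInt} [M.IsMaximal]
  [CharP (ResField M) 2] {B : Set (IrrCharacter G)} [Fintype B]

omit [M.IsMaximal] [CharP (ResField M) 2] [Fintype B] in
/-- A central involution takes the values `± χ 1`. -/
theorem exists_central_sign {z : G} (hz : z ∈ Subgroup.center G) (hzz : z * z = 1)
    (χ : IrrCharacter G) :
    ∃ σ : ℤ, σ * σ = 1 ∧ (χ : G → ℂ) z / (χ : G → ℂ) 1 = (σ : ℂ) := by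
  have h1 := apply_center_mul hz χ z
  rw [hzz] at h1
  have h0 := CfsgLib.BlockReg.deg_ne_zero χ
  have h2 : (χ : G → ℂ) z / (χ : G → ℂ) 1 * ((χ : G → ℂ) z / (χ : G → ℂ) 1) = 1 := by
    rw [← mul_div_assoc, ← h1, div_self h0]
  rcases mul_self_eq_one_iff.1 h2 with h | h <;> rw [h]
  exacts [⟨1, by norm_num, by simp⟩, ⟨-1, by norm_num, by simp⟩]

/-- The Gram matrix of the contributions of one subsection. -/
theorem gram_self (hM : IsPModular 2 M) {hB : IsPBlock M B} {D : Subgroup G}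
    {e : MonoidAlgebra (ResField M) G} {T : Finset (Sec G)} {φ : Sec G → G}
    (hP : PairOf 2 (ebar hB) D e) (hno : NoExt 2 D e) (hT : SecData 2 M B D e T φ) {t : Sec G}
    (ht : t ∈ T) (d : ℕ) (ψ : IrrCharacter G) {ψ' : IrrCharacter G} (hψ' : ψ' ∈ B) :
    ∑ χ ∈ B.toFinset, contrib 2 d t.1 t.2 χ ψ * conj (contrib 2 d t.1 t.2 χ ψ') =
      ((2 ^ d : ℕ) : ℂ) * contrib 2 d t.1 t.2 ψ' ψ := by
  calc ∑ χ ∈ B.toFinset, contrib 2 d t.1 t.2 χ ψ * conj (contrib 2 d t.1 t.2 χ ψ')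
      = ∑ s ∈ T, ∑ χ ∈ B.toFinset,
          contrib 2 d t.1 t.2 χ ψ * conj (contrib 2 d s.1 s.2 χ ψ') :=
        (Finset.sum_eq_single t (fun s hs hst => SecData.orth hM hT ht hs (Ne.symm hst) d ψ ψ')
          fun h => absurd ht h).symm
    _ = ∑ χ ∈ B.toFinset, contrib 2 d t.1 t.2 χ ψ *
          conj (if χ = ψ' then ((2 ^ d : ℕ) : ℂ) else 0) := by
        rw [Finset.sum_comm]
        refine Finset.sum_congr rfl fun χ hχ => ?_
        rw [← Finset.mul_sum, ← map_sum,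
          sum_contrib_eq hM hB hP hno hT (Set.mem_toFinset.1 hχ) ψ' d]
    _ = _ := by
        rw [Finset.sum_eq_single ψ' (fun χ _ hne => by rw [if_neg hne, map_zero, mul_zero])
          (fun h => absurd (Set.mem_toFinset.2 hψ') h), if_pos rfl, map_natCast, mul_comm]

/-- A block with central involution, semidihedral defect group and the fusion of the elements of
order four, with everything chosen for it. -/
structure Inn (M : Ideal AlgInt) [M.IsMaximal] [CharP (ResField M) 2]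
    (B : Set (IrrCharacter G)) [Fintype B] where
  D : Subgroup G
  x : G
  s : G
  q : ℕ
  t : ℕ
  d : ℕ
  e : MonoidAlgebra (ResField M) G
  T : Finset (Sec G)
  φ : Sec G → G
  ζ : ℂ
  hM : IsPModular 2 M
  hB : IsPBlock M B
  h : Sd D x s q
  hP : PairOf 2 (ebar hB) D e
  hno : NoExt 2 D e
  hT : SecData 2 M B D e T φ
  hz : ∀ c : G, c * x ^ q = x ^ q * c
  hF : Fus 2 D e (x ^ (q / 2)) (s * x)
  hq : q = 2 ^ t
  hζ : IsPrimitiveRoot ζ (2 * 2 ^ t)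
  hd : 2 ^ d = 4 * q
  hdef : blockDefect 2 B = d

namespace Inn

variable (I : Inn M B)

theorem two_le_t : 2 ≤ I.t := by
  have h4 := I.h.four_le
  rw [I.hq] at h4
  by_contra hcon
  have := Nat.pow_le_pow_right two_pos (show I.t ≤ 1 by omega)
  omega

theorem hζq : IsPrimitiveRoot I.ζ (2 * I.q) := I.hq ▸ I.hζ

theorem cast_two_pow : ((2 ^ I.d : ℕ) : ℂ) = 4 * 2 ^ I.t := by
  rw [I.hd, I.hq]
  push_cast
  rfl

/-- The subsection of an element. -/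
noncomputable def sc (u : G) : Sec G := sec I.D I.e I.T I.φ u

theorem sc_mem {u : G} (hu : u ∈ I.D) : I.sc u ∈ I.T := sec_mem I.hT hu

theorem fus_sc {u : G} (hu : u ∈ I.D) : Fus 2 I.D I.e u (I.φ (I.sc u)) := fus_sec I.hT hu

theorem phi_one : I.φ (I.sc 1) = 1 :=
  orderOf_eq_one_iff.1 ((I.fus_sc (one_mem _)).orderOf_eq.trans orderOf_one)

theorem fst_one : (I.sc 1).1 = 1 := orderOf_eq_one_iff.1 (by
  rw [← I.hT.orderOf_eq (I.sc_mem (one_mem _)), I.phi_one, orderOf_one])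

theorem phi_z : I.φ (I.sc (I.x ^ I.q)) = I.x ^ I.q :=
  Sd.fus_central I.hz (I.fus_sc (I.h.pow_mem_D _))

theorem fst_z : (I.sc (I.x ^ I.q)).1 = I.x ^ I.q := by
  obtain ⟨g, hb, hg, -⟩ := I.hT.below_eq I.hP (I.sc_mem (I.h.pow_mem_D I.q))
  rw [I.phi_z] at hg
  calc (I.sc (I.x ^ I.q)).1 = g⁻¹ * (g * (I.sc (I.x ^ I.q)).1 * g⁻¹) * g := by group
    _ = _ := by rw [hg, mul_assoc, ← I.hz g, inv_mul_cancel_left]

theorem z_mem_center : I.x ^ I.q ∈ Subgroup.center G :=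
  Subgroup.mem_center_iff.2 I.hz

theorem s_image {v : G} (hf : Fus 2 I.D I.e I.s v) : v ∉ Subgroup.zpowers I.x := fun hv => by
  have hord := hf.orderOf_eq
  rw [I.h.orderOf_s] at hord
  rw [I.h.eq_z hv hord] at hf
  exact I.h.s_out (Sd.fus_central I.hz hf.symm ▸ Subgroup.npow_mem_zpowers I.x I.q)

theorem s_block {b : Set (IrrCharacter (Subgroup.centralizer ({I.s} : Set G)))}
    (hb : IsPBlock M b) (hbe : eIn hb = below I.D I.e I.s) :
    blockRank 2 b = 1 ∧ 2 ^ blockDefect 2 b = 4 :=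
  I.h.out_block I.hM I.hP I.hno I.h.mem_s (fun _ hv => I.s_image hv) (Or.inr I.hz) hb hbe

theorem rankOne_s : RankOneAt M I.D I.e I.s := fun _ hb hbe => (I.s_block hb hbe).1

theorem rankOne_pow {j : ℕ} (hj : j ∈ cycIdx I.q) : RankOneAt M I.D I.e (I.x ^ j) :=
  I.h.rankOneAt_pow I.hM I.hP I.hno (Subgroup.npow_mem_zpowers I.x j) (I.h.two_lt_orderOf hj)

/-- The subsections. -/
noncomputable def cyc : Finset (Sec G) := cycSec I.D I.e I.T I.φ I.x I.q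

theorem s_notMem : I.sc I.s ∉ I.cyc := by
  rw [cyc, sc, I.h.sec_mem_cycSec_iff I.hP I.hT I.h.mem_s]
  rintro ⟨j, -, hf⟩
  exact I.s_image hf.symm (Subgroup.npow_mem_zpowers I.x j)

theorem s_ne_one : I.sc I.s ≠ I.sc 1 := fun he => by
  have h1 := ((sec_eq_iff I.hP.pair I.hT I.h.mem_s (one_mem _)).1 he).orderOf_eq
  rw [orderOf_one, I.h.orderOf_s] at h1
  omega

theorem s_ne_z : I.sc I.s ≠ I.sc (I.x ^ I.q) := fun he =>
  I.s_image ((sec_eq_iff I.hP.pair I.hT I.h.mem_s (I.h.pow_mem_D _)).1 he)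
    (Subgroup.npow_mem_zpowers I.x I.q)

theorem T_eq : I.T = insert (I.sc 1) (insert (I.sc (I.x ^ I.q)) (insert (I.sc I.s) I.cyc)) := by
  refine Finset.Subset.antisymm (fun t ht => ?_) ?_
  · have hu := I.hT.mem t ht
    have hsec : ∀ {v : G}, v ∈ I.D → Fus 2 I.D I.e v (I.φ t) → I.sc v = t := fun hv hf =>
      sec_eq I.hP.pair I.hT hv ht hf
    simp only [Finset.mem_insert]
    by_cases hx : I.φ t ∈ Subgroup.zpowers I.x
    · obtain ⟨j, hj, hju⟩ := I.h.exists_pow hx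
      have hself := hsec hu (fus_refl I.hP hu)
      rw [hju] at hself
      by_cases hj0 : j = 0
      · rw [hj0, pow_zero] at hself
        exact Or.inl hself.symm
      by_cases hjq : j = I.q
      · exact Or.inr (Or.inl (hjq ▸ hself).symm)
      exact Or.inr (Or.inr (Or.inr (Finset.mem_image.2
        ⟨j, mem_cycIdx.2 ⟨hj, hj0, hjq⟩, hself⟩)))
    · obtain ⟨i, hi⟩ := I.h.exists_out hu hx
      rcases Nat.even_or_odd i with he | he
      · refine Or.inr (Or.inr (Or.inl (hsec I.h.mem_s ?_).symm))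
        rw [hi]
        exact ((I.h.fus_out I.hP i).1 he).symm
      · refine Or.inr (Or.inr (Or.inr (Finset.mem_image.2 ⟨I.q / 2, ?_, hsec (I.h.pow_mem_D _) ?_⟩)))
        · have := I.h.four_le
          exact mem_cycIdx.2 ⟨by omega, by omega, by omega⟩
        · rw [hi]
          exact I.hF.trans I.hP.pair ((I.h.fus_out I.hP i).2 he).symm
  · simp only [Finset.insert_subset_iff]
    exact ⟨I.sc_mem (one_mem _), I.sc_mem (I.h.pow_mem_D _), I.sc_mem I.h.mem_s,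
      I.h.cycSec_subset I.hT⟩

theorem sum_T {R : Type*} [AddCommMonoid R] (F : Sec G → R) :
    ∑ t ∈ I.T, F t = F (I.sc 1) + (F (I.sc (I.x ^ I.q)) + (F (I.sc I.s) + ∑ t ∈ I.cyc, F t)) := by
  rw [I.T_eq, Finset.sum_insert, Finset.sum_insert, Finset.sum_insert I.s_notMem]
  · simp only [Finset.mem_insert, not_or]
    exact ⟨I.s_ne_z.symm, I.h.sec_z_notMem I.hP I.hT⟩
  · simp only [Finset.mem_insert, not_or]
    exact ⟨I.h.sec_one_ne_z I.hP I.hT, I.s_ne_one.symm, I.h.sec_one_notMem I.hP I.hT⟩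

theorem card_cyc : I.cyc.card = I.q - 1 := by
  have h4 := I.h.four_le
  have h1 := Finset.card_eq_sum_card_fiberwise (s := cycIdx I.q) (t := I.cyc)
    (f := fun j => sec I.D I.e I.T I.φ (I.x ^ j))
    (fun j hj => Finset.mem_image_of_mem (fun j => sec I.D I.e I.T I.φ (I.x ^ j)) hj)
  rw [Finset.sum_congr rfl (g := fun _ => 2) (fun t ht => by
    obtain ⟨i, hi, rfl⟩ := Finset.mem_image.1 ht
    rw [I.h.cyc_fibre I.hM I.hP I.hno I.hT hi, Finset.card_pair (I.h.sigma_ne hi).2.symm]),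
    Finset.sum_const, smul_eq_mul] at h1
  have h2 : cycIdx I.q = Finset.range (2 * I.q) \ {0, I.q} := by
    ext j
    rw [mem_cycIdx]
    simp only [Finset.mem_sdiff, Finset.mem_range, Finset.mem_insert, Finset.mem_singleton]
    omega
  rw [h2, Finset.card_sdiff_of_subset (by
      intro j hj
      simp only [Finset.mem_insert, Finset.mem_singleton] at hj
      rw [Finset.mem_range]
      omega), Finset.card_range, Finset.card_pair (by omega : 0 ≠ I.q)] at h1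
  omega

include I in
theorem card_B : B.toFinset.card = 2 ^ I.t + 2 * blockRank 2 B := by
  have h4 := I.h.four_le
  rw [Set.toFinset_card, ← Nat.card_eq_fintype_card, I.hT.card, I.sum_T,
    I.hT.central _ (I.sc_mem (one_mem _)) (I.fst_one.symm ▸ one_mem _),
    I.hT.central _ (I.sc_mem (I.h.pow_mem_D _)) (I.fst_z.symm ▸ I.z_mem_center),
    sec_rank_one I.hP I.hT (I.sc_mem I.h.mem_s) (I.fus_sc I.h.mem_s) I.rankOne_s,
    Finset.sum_congr rfl (g := fun _ => 1) (fun t ht => by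
      obtain ⟨j, hj, rfl⟩ := Finset.mem_image.1 ht
      exact sec_rank_one I.hP I.hT (sec_mem I.hT (I.h.pow_mem_D j))
        (fus_sec I.hT (I.h.pow_mem_D j)) (I.rankOne_pow hj)),
    Finset.sum_const, I.card_cyc, smul_eq_mul, mul_one, ← I.hq]
  omega

/-- The regular matrix. -/
theorem exists_Z : ∃ (Z : IrrCharacter G → IrrCharacter G → ℤ),
    (∀ φ θ, Z φ θ = Z θ φ) ∧
    (∀ χ ∈ B, ∀ ψ ∈ B, (Z χ ψ : ℂ) = ((2 ^ I.d : ℕ) : ℂ) *
      ((Nat.card G : ℂ)⁻¹ * regPair 2 (χ : G → ℂ) (ψ : G → ℂ))) ∧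
    (∀ χ ∈ B.toFinset, ∀ ψ ∈ B.toFinset,
      ∑ θ ∈ B.toFinset, Z χ θ * Z θ ψ = 4 * 2 ^ I.t * Z χ ψ) ∧
    (∑ χ ∈ B.toFinset, Z χ χ = 4 * 2 ^ I.t * (blockRank 2 B : ℤ)) ∧
    ∀ χ ∈ B, ∀ ψ ∈ B, blockHeight 2 B (ψ : G → ℂ) = 0 →
      Z χ ψ ≠ 0 ∧ (blockHeight 2 B (χ : G → ℂ) ≠ 0 → (2 : ℤ) ∣ Z χ ψ) := by
  have hadd := CfsgLib.BrauerFeit.defect_add_minExp I.hM I.hB
  rw [I.hdef] at hadd
  obtain ⟨c, Z, -, -, hsymm, hZ, hsq, htr, -⟩ := exists_local_matrix I.hM I.hB hadd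
  have h2d : ((2 ^ I.d : ℕ) : ℤ) = 4 * 2 ^ I.t := by
    rw [I.hd, I.hq]
    push_cast
    rfl
  obtain ⟨A, hA⟩ := exists_regMatrix I.hM I.hB
  refine ⟨Z, hsymm, hZ, fun χ hχ ψ hψ => by rw [hsq χ hχ ψ hψ, h2d], ?_,
    fun χ hχ ψ hψ hψ0 => ?_⟩
  · rw [htr, Nat.cast_mul, h2d]
  · obtain ⟨h1, h2, -, h4, -⟩ := hA χ hχ ψ hψ
    have heq : A χ ψ = Z χ ψ := by
      have : ((A χ ψ : ℤ) : ℂ) = ((Z χ ψ : ℤ) : ℂ) := by rw [h1, hZ χ hχ ψ hψ, I.hdef]
      exact_mod_cast this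
    rw [heq] at h2 h4
    exact ⟨fun h0 => h4 hψ0 (h0 ▸ dvd_zero _), fun hh => (dvd_pow_self (2 : ℤ) hh).trans h2⟩

/-- The regular matrix of the block. -/
noncomputable def Z : IrrCharacter G → IrrCharacter G → ℤ := I.exists_Z.choose

theorem Z_symm (χ ψ : IrrCharacter G) : I.Z χ ψ = I.Z ψ χ := I.exists_Z.choose_spec.1 χ ψ

theorem Z_cast {χ ψ : IrrCharacter G} (hχ : χ ∈ B) (hψ : ψ ∈ B) :
    (I.Z χ ψ : ℂ) = ((2 ^ I.d : ℕ) : ℂ) *
      ((Nat.card G : ℂ)⁻¹ * regPair 2 (χ : G → ℂ) (ψ : G → ℂ)) :=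
  I.exists_Z.choose_spec.2.1 χ hχ ψ hψ

/-- The sign at the involution. -/
noncomputable def sgn (χ : IrrCharacter G) : ℤ :=
  (exists_central_sign I.z_mem_center I.h.z_sq χ).choose

theorem sgn_sq (χ : IrrCharacter G) : I.sgn χ * I.sgn χ = 1 :=
  (exists_central_sign I.z_mem_center I.h.z_sq χ).choose_spec.1

theorem contrib_one {χ ψ : IrrCharacter G} (hχ : χ ∈ B) (hψ : ψ ∈ B) :
    contrib 2 I.d (I.sc 1).1 (I.sc 1).2 χ ψ = (I.Z χ ψ : ℂ) := by
  have hm := I.sc_mem (one_mem I.D)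
  rw [contrib_central I.hM I.hB (I.fst_one.symm ▸ one_mem _) (I.hT.pelem _ hm)
      (I.hT.induced _ hm) I.d hχ hψ, I.fst_one,
    div_self (CfsgLib.BlockReg.deg_ne_zero χ), div_self (CfsgLib.BlockReg.deg_ne_zero ψ), map_one,
    one_mul, one_mul, I.Z_cast hχ hψ]

theorem contrib_z {χ ψ : IrrCharacter G} (hχ : χ ∈ B) (hψ : ψ ∈ B) :
    contrib 2 I.d (I.sc (I.x ^ I.q)).1 (I.sc (I.x ^ I.q)).2 χ ψ =
      ((I.sgn χ * I.sgn ψ * I.Z χ ψ : ℤ) : ℂ) := by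
  have hm := I.sc_mem (I.h.pow_mem_D I.q)
  rw [contrib_central I.hM I.hB (I.fst_z.symm ▸ I.z_mem_center) (I.hT.pelem _ hm)
      (I.hT.induced _ hm) I.d hχ hψ, I.fst_z,
    (exists_central_sign I.z_mem_center I.h.z_sq χ).choose_spec.2,
    (exists_central_sign I.z_mem_center I.h.z_sq ψ).choose_spec.2, map_intCast,
    ← I.Z_cast hχ hψ]
  simp only [Int.cast_mul]
  rfl

theorem exists_orb_s : Nonempty (Orb M B I.D I.e I.s (-1) 4) :=
  exists_orb I.hM I.hB I.hP I.h.mem_s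
    (by rw [I.h.orderOf_s]; exact IsPrimitiveRoot.neg_one 0 (by norm_num))
    fun _ hb hbe => I.s_block hb hbe

/-- The column at `s`. -/
noncomputable def ws (χ : IrrCharacter G) : ℤ := ((I.exists_orb_s.some).poly χ).eval (-1)

theorem col_s (χ : IrrCharacter G) :
    col M I.D I.e I.s χ = ((I.exists_orb_s.some).deg : ℂ) * (I.ws χ : ℂ) := by
  have h1 := (I.exists_orb_s.some).value χ 1 odd_one
  rw [pow_one, pow_one] at h1
  rw [h1, ws]
  congr 1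
  generalize (I.exists_orb_s.some).poly χ = P
  simpa using Polynomial.aeval_algebraMap_apply_eq_algebraMap_eval (A := ℂ) (-1 : ℤ) P

theorem norm_s :
    colNorm M I.D I.e B I.s = ((I.exists_orb_s.some).deg : ℂ) ^ 2 * 4 := by
  have h1 := (I.exists_orb_s.some).norm 1 odd_one
  rw [pow_one] at h1
  exact_mod_cast h1

theorem ws_norm : ∑ χ ∈ B.toFinset, I.ws χ * I.ws χ = 4 := by
  have h1 := I.norm_s
  simp only [colNorm, I.col_s, map_mul, map_natCast, map_intCast] at h1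
  have h2 : ((I.exists_orb_s.some).deg : ℂ) ^ 2 * ((∑ χ ∈ B.toFinset, I.ws χ * I.ws χ : ℤ) : ℂ) =
      ((I.exists_orb_s.some).deg : ℂ) ^ 2 * ((4 : ℤ) : ℂ) := by
    rw [Int.cast_sum, Finset.mul_sum, show ((4 : ℤ) : ℂ) = 4 by norm_num, ← h1]
    exact Finset.sum_congr rfl fun χ _ => by push_cast; ring
  exact_mod_cast mul_left_cancel₀
    (pow_ne_zero 2 (Nat.cast_ne_zero.2 (I.exists_orb_s.some).deg_pos.ne')) h2

theorem contrib_s (χ ψ : IrrCharacter G) :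
    contrib 2 I.d (I.sc I.s).1 (I.sc I.s).2 χ ψ = ((2 ^ I.t * (I.ws χ * I.ws ψ) : ℤ) : ℂ) := by
  have h1 := contrib_fus I.hM I.hP I.hT (I.sc_mem I.h.mem_s) (I.fus_sc I.h.mem_s) I.rankOne_s I.d
    χ ψ
  rw [I.norm_s, I.col_s, I.col_s, map_mul, map_natCast, map_intCast, I.cast_two_pow] at h1
  have hd0 : ((I.exists_orb_s.some).deg : ℂ) ≠ 0 :=
    Nat.cast_ne_zero.2 (I.exists_orb_s.some).deg_pos.ne'
  refine mul_right_cancel₀ (mul_ne_zero (pow_ne_zero 2 hd0) (by norm_num : (4 : ℂ) ≠ 0)) ?_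
  rw [h1]
  push_cast
  ring

/-- The characters of height zero. -/
noncomputable def H (_ : Inn M B) : Finset (IrrCharacter G) :=
  B.toFinset.filter fun χ : IrrCharacter G => blockHeight 2 B (χ : G → ℂ) = 0

theorem mem_H {χ : IrrCharacter G} :
    χ ∈ I.H ↔ χ ∈ B ∧ blockHeight 2 B (χ : G → ℂ) = 0 := by
  simp [H]

theorem ws_odd {χ : IrrCharacter G} (hχ : χ ∈ I.H) : ¬ (2 : ℤ) ∣ I.ws χ := by
  obtain ⟨hχB, hh⟩ := I.mem_H.1 hχ
  rw [CfsgLib.BlockReg.blockHeight_eq] at hh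
  intro hdvd
  refine (I.exists_orb_s.some).parity χ hχB
    (le_antisymm (Nat.sub_eq_zero_iff_le.1 hh) (CfsgLib.BlockReg.minExp_le hχB)) ?_
  have h1 := Polynomial.sub_dvd_eval_sub (1 : ℤ) (-1) ((I.exists_orb_s.some).poly χ)
  rw [show (1 : ℤ) - -1 = 2 by norm_num] at h1
  exact (dvd_sub_left hdvd).1 h1

theorem card_H : I.H.card = 4 := by
  have hd2 : 2 ≤ blockDefect 2 B := by
    have h4 := I.h.four_le
    rw [I.hdef]
    by_contra hlt
    have : 2 ^ I.d ≤ 2 ^ 1 := Nat.pow_le_pow_right two_pos (by omega)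
    have := I.hd
    omega
  have h4 := StarAction.sq_dvd_sum_height_zero I.hM I.hB (n := 2) le_rfl hd2
  rw [← Finset.sum_subtype I.H (fun χ => I.mem_H) (fun χ => StarAction.redDeg 2 B χ ^ 2)] at h4
  have h8 : ∀ χ ∈ I.H, ∃ t, StarAction.redDeg 2 B χ ^ 2 = 8 * t + 1 := fun χ hχ => by
    obtain ⟨v, hv⟩ : Odd (StarAction.redDeg 2 B χ) :=
      Nat.not_even_iff_odd.1 fun h => (StarAction.pow_dvd_redDeg_iff (I.mem_H.1 hχ).1).1
        (even_iff_two_dvd.1 h) (I.mem_H.1 hχ).2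
    obtain ⟨t, ht⟩ := Nat.even_mul_succ_self v
    exact ⟨t, by rw [hv, show (2 * v + 1) ^ 2 = 4 * (v * (v + 1)) + 1 by ring, ht]; ring⟩
  choose! t ht using h8
  rw [Finset.sum_congr rfl ht, Finset.sum_add_distrib, Finset.sum_const, smul_eq_mul, mul_one,
    ← Finset.mul_sum] at h4
  have h4' : 4 ∣ I.H.card := (Nat.dvd_add_right
    (dvd_mul_of_dvd_left (by norm_num : 4 ∣ 8) _)).1 (by simpa using h4)
  obtain ⟨ψ, hψ, hψh⟩ :=
    CfsgLib.BlockReg.exists_minExp (p := 2) (CfsgLib.BlockReg.block_nonempty I.hM I.hB)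
  have hpos : 0 < I.H.card := Finset.card_pos.2 ⟨ψ, I.mem_H.2
    ⟨hψ, by rw [CfsgLib.BlockReg.blockHeight_eq, hψh, Nat.sub_self]⟩⟩
  have hle : (I.H.card : ℤ) ≤ 4 := by
    rw [← I.ws_norm, Finset.card_eq_sum_ones, Nat.cast_sum]
    refine (Finset.sum_le_sum fun χ hχ => ?_).trans
      (Finset.sum_le_sum_of_subset_of_nonneg (Finset.filter_subset _ _)
        fun χ _ _ => mul_self_nonneg _)
    have h0 : I.ws χ ≠ 0 := fun h => I.ws_odd hχ (h ▸ dvd_zero _)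
    have := mul_self_pos.2 h0
    push_cast
    omega
  obtain ⟨c, hc⟩ := h4'
  omega

theorem ws_H : (∀ χ ∈ I.H, I.ws χ * I.ws χ = 1) ∧
    ∀ χ ∈ B.toFinset, χ ∉ I.H → I.ws χ = 0 := by
  have hsub : I.H ⊆ B.toFinset := Finset.filter_subset _ _
  have h1 := Finset.sum_sdiff (f := fun χ => I.ws χ * I.ws χ) hsub
  rw [I.ws_norm] at h1
  have hge : ∀ χ ∈ I.H, 1 ≤ I.ws χ * I.ws χ := fun χ hχ => by
    have := mul_self_pos.2 (fun h : I.ws χ = 0 => I.ws_odd hχ (h ▸ dvd_zero _))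
    omega
  have h2 : (4 : ℤ) ≤ ∑ χ ∈ I.H, I.ws χ * I.ws χ := by
    refine le_trans ?_ (Finset.sum_le_sum hge)
    simp [I.card_H]
  have h3 := Finset.sum_nonneg (f := fun χ => I.ws χ * I.ws χ)
    (s := B.toFinset \ I.H) fun χ _ => mul_self_nonneg _
  refine ⟨fun χ hχ => ?_, fun χ hχ hχH => ?_⟩
  · have h4 := Finset.add_sum_erase I.H (fun χ => I.ws χ * I.ws χ) hχ
    have h5 : (3 : ℤ) ≤ ∑ ψ ∈ I.H.erase χ, I.ws ψ * I.ws ψ := by
      refine le_trans ?_ (Finset.sum_le_sum fun ψ hψ => hge ψ (Finset.mem_of_mem_erase hψ))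
      simp [Finset.card_erase_of_mem hχ, I.card_H]
    have := hge χ hχ
    omega
  · refine mul_self_eq_zero.1 ((Finset.sum_eq_zero_iff_of_nonneg
      fun ψ _ => mul_self_nonneg (I.ws ψ)).1 ?_ χ (Finset.mem_sdiff.2 ⟨hχ, hχH⟩))
    omega

theorem exists_L (k : ℕ) :
    ∃ r : IrrCharacter G → ℕ → ℤ, 1 ≤ k → k ≤ I.t →
      ∃ L : Lvl M B I.D I.e I.x I.ζ I.t k, L.r = r := by
  by_cases hk : 1 ≤ k ∧ k ≤ I.t
  · obtain ⟨L⟩ := I.h.exists_lvl I.hM I.hP I.hno I.hq I.hζ hk.1 hk.2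
    exact ⟨L.r, fun _ _ => ⟨L, rfl⟩⟩
  · exact ⟨fun _ _ => 0, fun h1 h2 => absurd ⟨h1, h2⟩ hk⟩

/-- The coordinates of the levels. -/
noncomputable def r (k : ℕ) : IrrCharacter G → ℕ → ℤ := (I.exists_L k).choose

theorem exists_lvl {k : ℕ} (hk : 1 ≤ k) (hkt : k ≤ I.t) :
    ∃ L : Lvl M B I.D I.e I.x I.ζ I.t k, L.r = I.r k :=
  (I.exists_L k).choose_spec hk hkt

/-- The column of a level, normalised. -/
noncomputable def A (k : ℕ) (χ : IrrCharacter G) (o : ℕ) : ℂ :=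
  ∑ i ∈ Finset.range (2 ^ k), (I.r k χ i : ℂ) * ((I.ζ ^ 2 ^ (I.t - k)) ^ o) ^ i

/-- The weighted sum of all the contributions. -/
theorem split (η : G → ℂ) (hη : ∀ u v, Fus 2 I.D I.e u v → η v = η u) {χ ψ : IrrCharacter G}
    (hχ : χ ∈ B) (hψ : ψ ∈ B) :
    ∑ t ∈ I.T, η (I.φ t) * contrib 2 I.d t.1 t.2 χ ψ =
      η 1 * (I.Z χ ψ : ℂ) + η (I.x ^ I.q) * ((I.sgn χ * I.sgn ψ * I.Z χ ψ : ℤ) : ℂ) +
        η I.s * ((2 ^ I.t * (I.ws χ * I.ws ψ) : ℤ) : ℂ) +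
        ∑ k ∈ Finset.Ico 1 (I.t + 1), ∑ τ ∈ Finset.range (2 ^ k),
          η (I.x ^ (2 ^ (I.t - k) * (2 * τ + 1))) *
            (I.A k χ (2 * τ + 1) * conj (I.A k ψ (2 * τ + 1))) := by
  rw [I.sum_T, I.phi_one, I.phi_z, I.contrib_one hχ hψ, I.contrib_z hχ hψ, I.contrib_s,
    hη _ _ (I.fus_sc I.h.mem_s)]
  rw [show ∑ t ∈ I.cyc, η (I.φ t) * contrib 2 I.d t.1 t.2 χ ψ = _ from
    I.h.sum_cyclic I.hM I.hP I.hno I.hT I.hd η hη χ ψ, I.h.sum_cycIdx I.hq, add_assoc, add_assoc]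
  refine congrArg _ (congrArg _ (congrArg _ (Finset.sum_congr rfl fun k hk =>
    Finset.sum_congr rfl fun τ _ => congrArg _ ?_)))
  obtain ⟨L, hL⟩ := I.exists_lvl (Finset.mem_Ico.1 hk).1 (by
    have := (Finset.mem_Ico.1 hk).2; omega)
  rw [L.phi_eq I.hq (odd_two_mul_add_one τ), hL]
  rfl

end Inn

end CfsgLib.SdBlocks
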