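import Cfsg.Agent.Lib.SdBlocks.InnerData
import Cfsg.Agent.Lib.SdBlocks.FrameMain

/-!
# The tests of the contributions by stable virtual characters
-/

set_option autoImplicit false
set_option maxHeartbeats 1600000
set_option synthInstance.maxHeartbeats 400000

open scoped ComplexConjugate Classical
open Cfsg CfsgLib.Blocks CfsgLib.Blocks.Pairs CfsgLib.BlockRank CfsgLib.DihBlocks CfsgLib.QuatBlocks

namespace CfsgLib.SdBlocks

universe u

variable {G : Type u} [Group G] [Fintype G] {M : Ideal AlgInt} [M.IsMaximal]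
  [CharP (ResField M) 2] {B : Set (IrrCharacter G)} [Fintype B]

namespace Inn

variable (I : Inn M B)

theorem A_const {k : ℕ} {χ : IrrCharacter G} (hc : Const k (I.r k χ)) (o : ℕ) :
    I.A k χ o = (I.r k χ 0 : ℂ) := by
  rw [A, Finset.sum_eq_single 0
    (fun i hi h0 => by rw [hc i (by omega) (Finset.mem_range.1 hi), Int.cast_zero, zero_mul])
    (fun h => absurd (Finset.mem_range.2 (Nat.two_pow_pos k)) h), pow_zero, mul_one]

theorem col_level {k : ℕ} (hk : 1 ≤ k) (hkt : k ≤ I.t) :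
    ∃ g : ℕ, 0 < g ∧ ∀ (χ : IrrCharacter G) (o : ℕ), Odd o →
      col M I.D I.e (I.x ^ (2 ^ (I.t - k) * o)) χ = (g : ℂ) * I.A k χ o := by
  obtain ⟨L, hL⟩ := I.exists_lvl hk hkt
  exact ⟨L.deg, L.deg_pos, fun χ o ho => by rw [L.value χ o ho, hL]; rfl⟩

theorem root_eq {k : ℕ} (o i : ℕ) :
    I.ζ ^ (i * (2 ^ (I.t - k) * o)) = ((I.ζ ^ 2 ^ (I.t - k)) ^ o) ^ i := by
  rw [← pow_mul, ← pow_mul]
  congr 1
  ring

omit [M.IsMaximal] [CharP (ResField M) 2] in
theorem sum_root {t k : ℕ} {ζ : ℂ} (hζ : IsPrimitiveRoot ζ (2 * 2 ^ t)) (hkt : k ≤ t) (c : ℕ) :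
    ∑ τ ∈ Finset.range (2 ^ k), ((ζ ^ 2 ^ (t - k)) ^ (2 * τ + 1)) ^ c =
      if c % (2 * 2 ^ k) = 0 then ((2 ^ k : ℕ) : ℂ)
      else if c % (2 * 2 ^ k) = 2 ^ k then -((2 ^ k : ℕ) : ℂ) else 0 := by
  have hω := prim_level hζ hkt
  rw [← sum_odd_pow_value Nat.one_le_two_pow hω (Nat.mod_lt c (by positivity))]
  refine Finset.sum_congr rfl fun τ _ => pow_eq_pow_of_modEq (Nat.mod_modEq c _).symm ?_
  rw [← pow_mul, mul_comm, pow_mul, hω.pow_eq_one, one_pow]

theorem exists_test {m : ℕ} (hm : 1 ≤ m) (hmt : m < I.t) {ψ ψ' : IrrCharacter G} (hψ : ψ ∈ B)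
    (hψ' : ψ' ∈ B) (hc : ∀ k, m + 1 < k → k ≤ I.t → Const k (I.r k ψ) ∧ Const k (I.r k ψ'))
    (hct : Const I.t (I.r I.t ψ)) (hct' : Const I.t (I.r I.t ψ')) :
    (2 * 2 ^ I.t : ℤ) ∣ 2 * (2 ^ m * ∑ i ∈ Finset.range (2 ^ m), I.r m ψ i * I.r m ψ' i) +
      ∑ k ∈ Finset.Ico (m + 1) I.t, 2 ^ k * (∑ i ∈ Finset.range (2 ^ k), I.r k ψ i * I.r k ψ' i) +
      (if m = 1 then 3 else 1) * 2 ^ I.t * (I.r I.t ψ 0 * I.r I.t ψ' 0) := by
  have hζq := I.hζq
  set η := etaM I.x I.s I.q I.ζ m with hη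
  have hfus := I.h.fus_etaM I.hM I.hP I.hno I.hz hζq hm
  obtain ⟨z, hz⟩ := exists_int_sum_contrib I.hM I.hB I.hP I.hno η
    (stable_of_fus fun u v huv => hfus u v huv) (I.h.isGen_etaM hζq m) I.hT hψ ψ' I.d
  have hqev : Even I.q := by rw [I.hq]; exact even_two.pow_of_ne_zero (by have := I.two_le_t; omega)
  have hmev : Even (2 ^ m) := even_two.pow_of_ne_zero (by omega)
  have h1 : η 1 = 0 := by
    rw [hη, ← pow_zero I.x, etaM, I.h.psi_pow hζq, I.h.psi_pow hζq, I.h.par_pow]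
    norm_num
  have hzq : η (I.x ^ I.q) = 0 := by
    have h0 : ∀ i, Even i → I.ζ ^ (i * I.q) = 1 := fun i hi => by
      rw [mul_comm, pow_mul, root_pow_half (by have := I.h.four_le; omega) hζq, hi.neg_one_pow]
    rw [hη, etaM, I.h.psi_pow' hζq, I.h.psi_pow' hζq, I.h.par_pow, h0 _ hmev, h0 0 ⟨0, rfl⟩,
      hqev.neg_one_pow, (hmev.mul_right I.q).neg_one_pow]
    norm_num
  have hs : η I.s = 0 := by
    have := I.h.etaM_out (ζ := I.ζ) m 0
    rw [pow_zero, mul_one] at this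
    rw [hη, this]
    norm_num
  have hsum := I.split η hfus hψ hψ'
  rw [h1, hzq, hs] at hsum
  simp only [zero_mul, zero_add] at hsum
  -- the values on the levels
  have hval : ∀ k, k ≤ I.t → ∀ o, Odd o → η (I.x ^ (2 ^ (I.t - k) * o)) =
      2 - (((I.ζ ^ 2 ^ (I.t - k)) ^ o) ^ 2 ^ m + conj (((I.ζ ^ 2 ^ (I.t - k)) ^ o) ^ 2 ^ m)) +
        if m = 1 ∧ k = I.t then 4 else 0 := by
    intro k hkt o ho
    rw [hη, etaM, I.h.psi_zero _ hζq, if_pos (Subgroup.npow_mem_zpowers I.x _),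
      I.h.psi_pow' hζq, I.root_eq, I.h.par_pow, (hmev.mul_right _).neg_one_pow, one_mul]
    congr 1
    by_cases hm1 : m = 1
    · rcases eq_or_lt_of_le hkt with rfl | hlt
      · rw [if_pos hm1, if_pos ⟨hm1, rfl⟩, Nat.sub_self, pow_zero, one_mul, ho.neg_one_pow]
        norm_num
      · rw [if_pos hm1, if_neg (by omega),
          ((even_two.pow_of_ne_zero (by omega : I.t - k ≠ 0)).mul_right o).neg_one_pow]
        norm_num
    · rw [if_neg hm1, if_neg (fun h => hm1 h.1)]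
  have hlow : ∀ k, k < m → ∀ o, Odd o → η (I.x ^ (2 ^ (I.t - k) * o)) = 0 := by
    intro k hk o ho
    have hone : ((I.ζ ^ 2 ^ (I.t - k)) ^ o) ^ 2 ^ m = 1 := by
      obtain ⟨c, hc⟩ : 2 * 2 ^ I.t ∣ 2 ^ (I.t - k) * o * 2 ^ m := by
        rw [mul_right_comm, ← pow_add, ← pow_succ']
        exact Dvd.dvd.mul_right (pow_dvd_pow 2 (by omega)) o
      rw [← pow_mul, ← pow_mul, ← mul_assoc, hc, pow_mul, I.hζ.pow_eq_one, one_pow]
    rw [hval k (by omega) o ho, hone, map_one, if_neg (by omega)]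
    norm_num
  have hmid : ∀ o, Odd o → η (I.x ^ (2 ^ (I.t - m) * o)) = 4 := by
    intro o ho
    have hone : ((I.ζ ^ 2 ^ (I.t - m)) ^ o) ^ 2 ^ m = -1 := by
      rw [← pow_mul, ← pow_mul,
        show 2 ^ (I.t - m) * (o * 2 ^ m) = 2 ^ I.t * o by
          rw [mul_left_comm, ← pow_add, Nat.sub_add_cancel (by omega), mul_comm],
        pow_mul, root_pow_half Nat.one_le_two_pow I.hζ, ho.neg_one_pow]
    rw [hval m (by omega) o ho, hone, map_neg, map_one, if_neg (by omega)]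
    norm_num
  have hhigh : ∀ k, m < k → k ≤ I.t → ∑ τ ∈ Finset.range (2 ^ k),
      η (I.x ^ (2 ^ (I.t - k) * (2 * τ + 1))) =
      ((2 ^ k : ℕ) : ℂ) * (if m = 1 ∧ k = I.t then 6 else 2) := by
    intro k hk hkt
    rw [Finset.sum_congr rfl fun τ _ => hval k hkt _ (odd_two_mul_add_one τ),
      Finset.sum_add_distrib, Finset.sum_sub_distrib, Finset.sum_add_distrib, ← map_sum,
      sum_root I.hζ hkt]
    have hlt : 2 ^ m < 2 ^ k := Nat.pow_lt_pow_right one_lt_two hk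
    have hmod : 2 ^ m % (2 * 2 ^ k) = 2 ^ m := Nat.mod_eq_of_lt (by omega)
    have hpos := Nat.two_pow_pos m
    rw [hmod, if_neg (by omega), if_neg (by omega), map_zero, Finset.sum_const, Finset.sum_const,
      Finset.card_range, nsmul_eq_mul, nsmul_eq_mul]
    split_ifs <;> ring
  have hnext : m + 1 < I.t → ∀ o, Odd o → η (I.x ^ (2 ^ (I.t - (m + 1)) * o)) = 2 := by
    intro hlt o ho
    have hsq : ((I.ζ ^ 2 ^ (I.t - (m + 1))) ^ o) ^ 2 ^ m * ((I.ζ ^ 2 ^ (I.t - (m + 1))) ^ o) ^ 2 ^ m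
        = -1 := by
      rw [← pow_mul, ← pow_mul, ← pow_add,
        show 2 ^ (I.t - (m + 1)) * (o * 2 ^ m) + 2 ^ (I.t - (m + 1)) * (o * 2 ^ m) =
          2 ^ (I.t - (m + 1)) * 2 ^ (m + 1) * o by ring,
        ← pow_add, Nat.sub_add_cancel hlt.le, pow_mul, root_pow_half Nat.one_le_two_pow I.hζ,
        ho.neg_one_pow]
    rw [hval (m + 1) hlt.le o ho, if_neg (by omega)]
    set a := ((I.ζ ^ 2 ^ (I.t - (m + 1))) ^ o) ^ 2 ^ m with ha
    have hω := prim_level I.hζ hlt.le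
    have haa : a * conj a = 1 := by
      rw [ha, ← pow_mul, conj_root_pow Nat.one_le_two_pow hω,
        mul_inv_cancel₀ (pow_ne_zero _ (hω.ne_zero (by positivity)))]
    linear_combination a * haa - conj a * hsq
  -- the sum over the levels
  have hlev : ∀ k ∈ Finset.Ico 1 (I.t + 1), ∑ τ ∈ Finset.range (2 ^ k),
      η (I.x ^ (2 ^ (I.t - k) * (2 * τ + 1))) *
        (I.A k ψ (2 * τ + 1) * conj (I.A k ψ' (2 * τ + 1))) =
      ((if k < m then 0 else if k = m then 4 * (2 ^ m * ∑ i ∈ Finset.range (2 ^ m),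
          I.r m ψ i * I.r m ψ' i)
        else (if m = 1 ∧ k = I.t then 6 else 2) *
          (2 ^ k * ∑ i ∈ Finset.range (2 ^ k), I.r k ψ i * I.r k ψ' i) : ℤ) : ℂ) := by
    intro k hk
    rw [Finset.mem_Ico] at hk
    rcases lt_trichotomy k m with hlt | heq | hgt
    · rw [if_pos hlt, Int.cast_zero]
      exact Finset.sum_eq_zero fun τ _ => by
        rw [hlow k hlt _ (odd_two_mul_add_one τ), zero_mul]
    · subst heq
      rw [if_neg (lt_irrefl k), if_pos rfl, Finset.sum_congr rfl fun τ _ => by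
        rw [hmid _ (odd_two_mul_add_one τ)], ← Finset.mul_sum]
      obtain ⟨L, hL⟩ := I.exists_lvl hk.1 (by omega : k ≤ I.t)
      have h2 := L.sum_phi I.hq I.hζ (by omega : k ≤ I.t) ψ ψ'
      rw [Finset.sum_congr rfl fun τ _ => L.phi_eq I.hq (odd_two_mul_add_one τ) ψ ψ', hL] at h2
      rw [show ∑ τ ∈ Finset.range (2 ^ k), I.A k ψ (2 * τ + 1) * conj (I.A k ψ' (2 * τ + 1)) = _
        from h2]
      push_cast
      ring
    · by_cases hk1 : k = m + 1 ∧ k < I.t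
      · -- the next level: the value is constant
        obtain ⟨rfl, hkt⟩ := hk1
        rw [if_neg (by omega), if_neg (by omega), if_neg (by omega : ¬ (m = 1 ∧ m + 1 = I.t)),
          Finset.sum_congr rfl fun τ _ => by rw [hnext hkt _ (odd_two_mul_add_one τ)],
          ← Finset.mul_sum]
        obtain ⟨L, hL⟩ := I.exists_lvl hk.1 hkt.le
        have h2 := L.sum_phi I.hq I.hζ hkt.le ψ ψ'
        rw [Finset.sum_congr rfl fun τ _ => L.phi_eq I.hq (odd_two_mul_add_one τ) ψ ψ', hL] at h2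
        rw [show ∑ τ ∈ Finset.range (2 ^ (m + 1)),
          I.A (m + 1) ψ (2 * τ + 1) * conj (I.A (m + 1) ψ' (2 * τ + 1)) = _ from h2]
        push_cast
        ring
      obtain ⟨hc1, hc2⟩ : Const k (I.r k ψ) ∧ Const k (I.r k ψ') := by
        rcases eq_or_lt_of_le (show k ≤ I.t by omega) with rfl | hlt
        · exact ⟨hct, hct'⟩
        · exact hc k (by omega) hlt.le
      rw [if_neg (by omega), if_neg (by omega), Finset.sum_congr rfl fun τ _ => by
        rw [I.A_const hc1, I.A_const hc2, map_intCast], ← Finset.sum_mul, hhigh k hgt (by omega),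
        Finset.sum_eq_single 0 (fun i hi h0 => by
          rw [hc1 i (by omega) (Finset.mem_range.1 hi), zero_mul])
          (fun h => absurd (Finset.mem_range.2 (Nat.two_pow_pos k)) h)]
      split_ifs <;> push_cast <;> ring
  have hm1t : ¬ (m = 1 ∧ m = I.t) := fun h => by omega
  rw [Finset.sum_congr rfl hlev, ← Int.cast_sum] at hsum
  rw [hsum] at hz
  -- split the sum
  have hsplit : ∀ F : ℕ → ℤ, ∑ k ∈ Finset.Ico 1 (I.t + 1), F k =
      ∑ k ∈ Finset.Ico 1 m, F k + F m + ∑ k ∈ Finset.Ico (m + 1) I.t, F k + F I.t := by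
    intro F
    rw [Finset.sum_Ico_succ_top (by omega : 1 ≤ I.t),
      ← Finset.sum_Ico_consecutive F hm (le_of_lt hmt),
      Finset.sum_eq_sum_Ico_succ_bot hmt, ← add_assoc]
  rw [hsplit, Finset.sum_eq_zero (s := Finset.Ico 1 m) fun k hk => if_pos (Finset.mem_Ico.1 hk).2,
    if_neg (lt_irrefl m), if_pos rfl,
    Finset.sum_congr rfl (s₁ := Finset.Ico (m + 1) I.t) (g := fun k => 2 * (2 ^ k *
      ∑ i ∈ Finset.range (2 ^ k), I.r k ψ i * I.r k ψ' i)) fun k hk => by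
      rw [Finset.mem_Ico] at hk
      rw [if_neg (by omega), if_neg (by omega), if_neg (by omega : ¬ (m = 1 ∧ k = I.t))],
    if_neg (by omega : ¬ I.t < m), if_neg (by omega : ¬ I.t = m), ← Finset.mul_sum,
    Finset.sum_eq_single (s := Finset.range (2 ^ I.t)) 0 (fun i hi h0 => by
      rw [hct i (by omega) (Finset.mem_range.1 hi), zero_mul])
      (fun h => absurd (Finset.mem_range.2 (Nat.two_pow_pos I.t)) h),
    inv_mul_eq_iff_eq_mul₀ (Nat.cast_ne_zero.2 (pow_ne_zero _ two_ne_zero))] at hz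
  rw [I.cast_two_pow] at hz
  have h4 : (0 : ℤ) + 4 * (2 ^ m * ∑ i ∈ Finset.range (2 ^ m), I.r m ψ i * I.r m ψ' i) +
      2 * ∑ k ∈ Finset.Ico (m + 1) I.t,
        2 ^ k * (∑ i ∈ Finset.range (2 ^ k), I.r k ψ i * I.r k ψ' i) +
      (if m = 1 ∧ I.t = I.t then 6 else 2) * (2 ^ I.t * (I.r I.t ψ 0 * I.r I.t ψ' 0)) =
        4 * 2 ^ I.t * z := by
    apply Int.cast_injective (α := ℂ)
    rw [hz]
    push_cast
    ring
  refine ⟨z, ?_⟩
  split_ifs at h4 ⊢ <;> (try omega) <;> linarith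

theorem exists_star {i : ℕ} (hi : Odd i) (hih : i < 2 ^ (I.t - 1)) :
    ∃ N : IrrCharacter G → IrrCharacter G → ℤ,
      (∀ χ ∈ B.toFinset, ∃ K : ℕ → ℂ, K 1 = 0 ∧ ∀ ψ ∈ I.H,
        (∀ k, 1 ≤ k → k ≤ I.t → Const k (I.r k ψ)) →
        ((4 * 2 ^ I.t * N χ ψ : ℤ) : ℂ) = ((2 * I.Z χ ψ * (1 - I.sgn χ * I.sgn ψ) -
          2 * 2 ^ I.t * (I.r I.t χ i * I.r I.t ψ 0) : ℤ) : ℂ) +
            ∑ k ∈ Finset.Ico 1 I.t, K k * (I.r k ψ 0 : ℂ)) ∧
      (∀ ψ ∈ I.H, (∀ k, 1 ≤ k → k ≤ I.t → Const k (I.r k ψ)) →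
        (∀ k, 2 ≤ k → k ≤ I.t → I.r k ψ 0 * I.r k ψ 0 = 1) →
        4 * 2 ^ I.t * ∑ χ ∈ B.toFinset, N χ ψ * N χ ψ = 8 * I.Z ψ ψ + 4 * 2 ^ I.t - 8) ∧
      ∀ ψ ∈ I.H, (∀ k, 1 ≤ k → k ≤ I.t → Const k (I.r k ψ)) →
        ∀ j, 1 ≤ j → j < 2 ^ (I.t - 1) →
        ∑ χ ∈ B.toFinset, N χ ψ * I.r I.t χ j = if j = i then - I.r I.t ψ 0 else 0 := by
  have hζq := I.hζq
  have ht := I.two_le_t
  have hq2 : 2 ^ I.t = 2 * 2 ^ (I.t - 1) := by
    rw [← pow_succ', Nat.sub_add_cancel (by omega)]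
  set η := psi I.x I.q I.ζ i with hη
  have hfus := I.h.fus_psi I.hM I.hP I.hno I.hz hζq hi
  have hst := stable_of_fus (p := 2) fun u v huv => hfus u v huv
  have hgen : IsGeneralizedCharacter I.D fun v : I.D => η v :=
    CfsgLib.Char.IsCharacter.isGeneralizedCharacter (I.h.isCharacter_psi hζq i)
  have hex : ∀ χ ψ : IrrCharacter G, ∃ z : ℤ, χ ∈ B → ((2 ^ I.d : ℕ) : ℂ)⁻¹ *
      ∑ t ∈ I.T, η (I.φ t) * contrib 2 I.d t.1 t.2 χ ψ = z := fun χ ψ => by
    by_cases hχ : χ ∈ B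
    · obtain ⟨z, hz⟩ := exists_int_sum_contrib I.hM I.hB I.hP I.hno η hst hgen I.hT hχ ψ I.d
      exact ⟨z, fun _ => hz⟩
    · exact ⟨0, fun h => absurd h hχ⟩
  choose N hN using hex
  have hd0 : ((2 ^ I.d : ℕ) : ℂ) ≠ 0 := Nat.cast_ne_zero.2 (pow_ne_zero _ two_ne_zero)
  have hN' : ∀ χ ∈ B, ∀ ψ, ((4 * 2 ^ I.t * N χ ψ : ℤ) : ℂ) =
      ∑ t ∈ I.T, η (I.φ t) * contrib 2 I.d t.1 t.2 χ ψ := fun χ hχ ψ => by
    rw [Int.cast_mul, ← hN χ ψ hχ, show (((4 * 2 ^ I.t : ℤ)) : ℂ) = ((2 ^ I.d : ℕ) : ℂ) by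
      rw [I.cast_two_pow]; push_cast; rfl, mul_inv_cancel_left₀ hd0]
  have h1 : η 1 = 2 := by
    rw [hη, ← pow_zero I.x, I.h.psi_pow hζq]
    norm_num
  have hzq : η (I.x ^ I.q) = -2 := by
    rw [hη, I.h.psi_pow' hζq, mul_comm i, pow_mul, pow_mul,
      root_pow_half (by have := I.h.four_le; omega) hζq, hi.neg_one_pow,
      show ((-1 : ℂ)) ^ I.q = 1 from Even.neg_one_pow (by
        rw [I.hq]; exact even_two.pow_of_ne_zero (by omega)), one_pow, map_neg, map_one]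
    norm_num
  have hs : η I.s = 0 := Sd.psi_out I.h.s_out i
  have hlev1 : ∀ τ, η (I.x ^ (2 ^ (I.t - 1) * (2 * τ + 1))) = 0 := fun τ => by
    have := I.h.psi_half hζq hi (odd_two_mul_add_one τ)
    have e : I.q / 2 = 2 ^ (I.t - 1) := by rw [I.hq]; omega
    rwa [e] at this
  have htop : ∀ o, Odd o → η (I.x ^ (2 ^ (I.t - I.t) * o)) =
      (I.ζ ^ o) ^ i - conj ((I.ζ ^ o) ^ i) := fun o ho => by
    rw [hη, Nat.sub_self, pow_zero, one_mul, I.h.psi_pow' hζq, (hi.mul ho).neg_one_pow,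
      ← pow_mul I.ζ o, mul_comm i o]
    ring
  have hiq : i < 2 ^ I.t := by omega
  have htopsum : ∀ l, l < 2 ^ I.t → ∑ τ ∈ Finset.range (2 ^ I.t),
      ((I.ζ ^ (2 * τ + 1)) ^ i - conj ((I.ζ ^ (2 * τ + 1)) ^ i)) * (I.ζ ^ (2 * τ + 1)) ^ l =
      ((2 ^ I.t : ℕ) : ℂ) * (-(if i + l = 2 ^ I.t then 1 else 0) - if l = i then 1 else 0) := by
    intro l hl
    have e1 := sum_odd_pow_value Nat.one_le_two_pow I.hζ (show i + l < 2 * 2 ^ I.t by omega)
    have e2 := sum_odd_pow_mul_conj Nat.one_le_two_pow I.hζ hl hiq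
    rw [Finset.sum_congr rfl fun τ _ => by rw [sub_mul, ← pow_add, mul_comm (conj _)],
      Finset.sum_sub_distrib, e1, e2]
    have : i ≠ 0 := fun h0 => by rw [h0] at hi; exact Nat.not_odd_zero hi
    split_ifs <;> first | omega | ring
  have hsg : sg I.t I.t i = -1 := by rw [sg, if_pos rfl, hi.neg_one_pow]
  refine ⟨N, fun χ hχ => ?_, fun ψ hψ hc hc2 => ?_, fun ψ hψ hc j hj1 hj => ?_⟩
  · have hχB := Set.mem_toFinset.1 hχ
    refine ⟨fun k => ∑ τ ∈ Finset.range (2 ^ k),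
      η (I.x ^ (2 ^ (I.t - k) * (2 * τ + 1))) * I.A k χ (2 * τ + 1),
      Finset.sum_eq_zero fun τ _ => by rw [hlev1, zero_mul], fun ψ hψ hc => ?_⟩
    have hψB := (I.mem_H.1 hψ).1
    rw [hN' χ hχB ψ, I.split η hfus hχB hψB, h1, hzq, hs, zero_mul, add_zero,
      Finset.sum_Ico_succ_top (by omega : 1 ≤ I.t),
      Finset.sum_congr rfl (s₁ := Finset.Ico 1 I.t) fun k hk => Finset.sum_congr rfl fun τ _ => by
        rw [I.A_const (hc k (Finset.mem_Ico.1 hk).1 (Finset.mem_Ico.1 hk).2.le), map_intCast,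
          ← mul_assoc]]
    simp only [← Finset.sum_mul]
    rw [Finset.sum_congr rfl (s₁ := Finset.range (2 ^ I.t))
      (g := fun τ => (I.r I.t ψ 0 : ℂ) * ∑ l ∈ Finset.range (2 ^ I.t), (I.r I.t χ l : ℂ) *
        (((I.ζ ^ (2 * τ + 1)) ^ i - conj ((I.ζ ^ (2 * τ + 1)) ^ i)) *
          (I.ζ ^ (2 * τ + 1)) ^ l)) fun τ _ => by
        rw [I.A_const (hc I.t (by omega) le_rfl), map_intCast, htop _ (odd_two_mul_add_one τ), A,
          Nat.sub_self, pow_zero, pow_one, Finset.sum_mul, Finset.mul_sum, Finset.mul_sum]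
        exact Finset.sum_congr rfl fun l _ => by ring,
      ← Finset.mul_sum, Finset.sum_comm]
    have htot : ∑ l ∈ Finset.range (2 ^ I.t), ∑ τ ∈ Finset.range (2 ^ I.t), (I.r I.t χ l : ℂ) *
        (((I.ζ ^ (2 * τ + 1)) ^ i - conj ((I.ζ ^ (2 * τ + 1)) ^ i)) * (I.ζ ^ (2 * τ + 1)) ^ l) =
        ((2 ^ I.t * (-2 * I.r I.t χ i) : ℤ) : ℂ) := by
      rw [Finset.sum_congr rfl fun l hl => by
        rw [← Finset.mul_sum, htopsum l (Finset.mem_range.1 hl)]]
      obtain ⟨L, hL⟩ := I.exists_lvl (by omega : 1 ≤ I.t) le_rfl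
      have hrefl := L.refl χ i hi.pos hiq
      rw [hL, hsg] at hrefl
      simp only [mul_sub, mul_neg, Finset.sum_sub_distrib, mul_ite, mul_one, mul_zero,
        Finset.sum_neg_distrib]
      rw [Finset.sum_eq_single (2 ^ I.t - i) (fun l _ hl => if_neg (by omega))
          (fun h => absurd (Finset.mem_range.2 (by have := hi.pos; omega)) h),
        if_pos (by omega), Finset.sum_ite_eq', if_pos (Finset.mem_range.2 hiq), hrefl]
      push_cast
      ring
    rw [htot]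
    push_cast
    ring
  · have hψB := (I.mem_H.1 hψ).1
    have habs : ∀ u v, Fus 2 I.D I.e u v → η v * conj (η v) = η u * conj (η u) :=
      fun u v huv => by rw [hη, hfus u v huv]
    have key : ((4 * 2 ^ I.t * ∑ χ ∈ B.toFinset, N χ ψ * N χ ψ : ℤ) : ℂ) * ((2 ^ I.d : ℕ) : ℂ) =
        ((2 ^ I.d : ℕ) : ℂ) *
          ∑ t ∈ I.T, (η (I.φ t) * conj (η (I.φ t))) * contrib 2 I.d t.1 t.2 ψ ψ := by
      calc _ = ∑ χ ∈ B.toFinset,
            ((4 * 2 ^ I.t * N χ ψ : ℤ) : ℂ) * conj ((4 * 2 ^ I.t * N χ ψ : ℤ) : ℂ) := by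
            rw [I.cast_two_pow]
            push_cast
            rw [Finset.mul_sum, Finset.sum_mul]
            simp only [map_mul, map_pow, map_intCast, map_ofNat]
            exact Finset.sum_congr rfl fun χ _ => by ring
        _ = ∑ t ∈ I.T, ∑ s ∈ I.T, (η (I.φ t) * conj (η (I.φ s))) *
            ∑ χ ∈ B.toFinset,
              contrib 2 I.d t.1 t.2 χ ψ * conj (contrib 2 I.d s.1 s.2 χ ψ) := by
            rw [Finset.sum_congr rfl fun χ hχ => by
              rw [hN' χ (Set.mem_toFinset.1 hχ) ψ, map_sum, Finset.sum_mul_sum], Finset.sum_comm]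
            refine Finset.sum_congr rfl fun t _ => ?_
            rw [Finset.sum_comm]
            refine Finset.sum_congr rfl fun s _ => ?_
            rw [Finset.mul_sum]
            exact Finset.sum_congr rfl fun χ _ => by rw [map_mul]; ring
        _ = _ := by
            rw [Finset.mul_sum]
            refine Finset.sum_congr rfl fun t ht => ?_
            rw [Finset.sum_eq_single t (fun s hs hne => by
              rw [SecData.orth I.hM I.hT ht hs (Ne.symm hne) I.d ψ ψ, mul_zero])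
              (fun h => absurd ht h), gram_self I.hM I.hP I.hno I.hT ht I.d ψ hψB]
            ring
    rw [mul_comm] at key
    have key' := mul_left_cancel₀ hd0 key
    rw [I.split (fun v => η v * conj (η v)) habs hψB hψB, h1, hzq, hs, zero_mul, zero_mul,
      add_zero, I.sgn_sq, one_mul,
      Finset.sum_eq_sum_Ico_succ_bot (by omega : 1 < I.t + 1),
      Finset.sum_eq_zero (s := Finset.range (2 ^ 1)) (fun τ _ => by
        rw [hlev1, zero_mul, zero_mul]), zero_add,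
      Finset.sum_congr rfl (s₁ := Finset.Ico 2 (I.t + 1))
        (g := fun k => (((2 : ℤ) * 2 ^ k : ℤ) : ℂ)) (fun k hk => ?_),
      ← Int.cast_sum, ← Finset.mul_sum, sum_two_pow (by omega : 2 ≤ I.t + 1)] at key'
    · apply Int.cast_injective (α := ℂ)
      rw [key']
      simp only [map_neg, map_ofNat]
      push_cast
      ring
    · rw [Finset.mem_Ico] at hk
      have hkt : k ≤ I.t := by omega
      rw [Finset.sum_congr rfl (g := fun τ => η (I.x ^ (2 ^ (I.t - k) * (2 * τ + 1))) *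
          conj (η (I.x ^ (2 ^ (I.t - k) * (2 * τ + 1))))) fun τ _ => by
        rw [I.A_const (hc k (by omega) hkt), map_intCast, ← Int.cast_mul, hc2 k hk.1 hkt,
          Int.cast_one, mul_one]]
      have hev : ∀ τ, η (I.x ^ (2 ^ (I.t - k) * (2 * τ + 1))) *
          conj (η (I.x ^ (2 ^ (I.t - k) * (2 * τ + 1)))) =
          2 + (if k = I.t then -1 else 1) * (((I.ζ ^ 2 ^ (I.t - k)) ^ (2 * τ + 1)) ^ (2 * i) +
            conj (((I.ζ ^ 2 ^ (I.t - k)) ^ (2 * τ + 1)) ^ (2 * i))) := by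
        intro τ
        rw [hη, I.h.psi_pow' hζq, I.root_eq]
        set a := ((I.ζ ^ 2 ^ (I.t - k)) ^ (2 * τ + 1)) ^ i with ha
        have hε : ((-1 : ℂ)) ^ (i * (2 ^ (I.t - k) * (2 * τ + 1))) =
            if k = I.t then -1 else 1 := by
          split_ifs with hkt'
          · rw [hkt', Nat.sub_self, pow_zero, one_mul,
              (hi.mul (odd_two_mul_add_one τ)).neg_one_pow]
          · rw [((even_two.pow_of_ne_zero (by omega : I.t - k ≠ 0)).mul_right _).mul_left i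
              |>.neg_one_pow]
        have haa : a * conj a = 1 := by
          have hω := prim_level I.hζ hkt
          rw [ha, ← pow_mul, conj_root_pow Nat.one_le_two_pow hω,
            mul_inv_cancel₀ (pow_ne_zero _ (hω.ne_zero (by positivity)))]
        rw [hε, mul_comm 2 i, pow_mul _ i 2, ← ha]
        split_ifs <;> simp only [map_add, map_mul, map_neg, map_one, map_pow, Complex.conj_conj] <;>
          linear_combination 2 * haa
      have hmod : (2 * i) % (2 * 2 ^ k) = 2 * (i % 2 ^ k) := Nat.mul_mod_mul_left _ _ _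
      have hodd : i % 2 ^ k % 2 = 1 := by
        rw [Nat.mod_mod_of_dvd _ (dvd_pow_self 2 (by omega)), Nat.odd_iff.1 hi]
      have h2k : 2 ^ k = 2 * 2 ^ (k - 1) := by rw [← pow_succ', Nat.sub_add_cancel (by omega)]
      have h2k' : 2 ^ (k - 1) % 2 = 0 :=
        Nat.even_iff.1 (even_two.pow_of_ne_zero (by omega : k - 1 ≠ 0))
      rw [Finset.sum_congr rfl fun τ _ => hev τ, Finset.sum_add_distrib, ← Finset.mul_sum,
        Finset.sum_add_distrib, ← map_sum, sum_root I.hζ hkt, hmod,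
        if_neg (by omega : ¬ 2 * (i % 2 ^ k) = 0),
        if_neg (by omega : ¬ 2 * (i % 2 ^ k) = 2 ^ k), map_zero, add_zero, mul_zero, add_zero,
        Finset.sum_const,
        Finset.card_range, nsmul_eq_mul]
      push_cast
      ring
  · have hψB := (I.mem_H.1 hψ).1
    obtain ⟨L, hL⟩ := I.exists_lvl (by omega : 1 ≤ I.t) le_rfl
    have hd : (L.deg : ℂ) ≠ 0 := Nat.cast_ne_zero.2 L.deg_pos.ne'
    have hcoord : ∀ χ, (L.deg : ℂ) * ((2 ^ I.t : ℕ) : ℂ) * (I.r I.t χ j : ℂ) =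
        ∑ τ ∈ Finset.range (2 ^ I.t), (I.ζ ^ (2 * τ + 1)) ^ j *
          conj (col M I.D I.e (I.x ^ (2 ^ (I.t - I.t) * (2 * τ + 1))) χ) := by
      intro χ
      have h2 := congrArg conj (L.coord_eq I.hζ le_rfl χ (i := j) (by omega))
      simp only [hL, map_mul, map_natCast, map_intCast, map_sum, Complex.conj_conj] at h2
      rw [h2]
      simp only [Nat.sub_self, pow_zero, pow_one]
    have hcolψ : ∀ τ, col M I.D I.e (I.x ^ (2 ^ (I.t - I.t) * (2 * τ + 1))) ψ =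
        (L.deg : ℂ) * (I.r I.t ψ 0 : ℂ) := by
      intro τ
      rw [L.value ψ _ (odd_two_mul_add_one τ), hL]
      exact congrArg _ (I.A_const (hc I.t (by omega) le_rfl) (2 * τ + 1))
    have hinner : ∀ τ ∈ Finset.range (2 ^ I.t), ∑ χ ∈ B.toFinset, ((4 * 2 ^ I.t * N χ ψ : ℤ) : ℂ) *
        conj (col M I.D I.e (I.x ^ (2 ^ (I.t - I.t) * (2 * τ + 1))) χ) =
        η (I.x ^ (2 ^ (I.t - I.t) * (2 * τ + 1))) *
          (((2 ^ I.d : ℕ) : ℂ) * ((L.deg : ℂ) * (I.r I.t ψ 0 : ℂ))) := by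
      intro τ hτ
      set u := I.x ^ (2 ^ (I.t - I.t) * (2 * τ + 1)) with hu
      have hidx := I.h.level_index I.hq (by omega : 1 ≤ I.t) le_rfl (o := 2 * τ + 1)
        (by have := Finset.mem_range.1 hτ; omega) (odd_two_mul_add_one τ)
      have huD : u ∈ I.D := I.h.pow_mem_D _
      have hr := I.rankOne_pow hidx
      rw [Finset.sum_congr rfl fun χ hχ => by
        rw [hN' χ (Set.mem_toFinset.1 hχ) ψ, Finset.sum_mul], Finset.sum_comm,
        Finset.sum_eq_single (I.sc u) ?_ (fun h => absurd (I.sc_mem huD) h)]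
      · rw [show η (I.φ (I.sc u)) = η u from hfus _ _ (I.fus_sc huD), Finset.sum_congr rfl fun χ _ => mul_assoc _ _ _,
          ← Finset.mul_sum,
          sum_contrib_col_self I.hM I.hP I.hT (I.sc_mem huD) huD (I.fus_sc huD) hr I.d ψ, hcolψ,
          map_mul, map_natCast, map_intCast]
      · intro s hs hne
        rw [Finset.sum_congr rfl fun χ _ => mul_assoc _ _ _, ← Finset.mul_sum,
          sum_contrib_col_ne I.hM I.hP I.hT hs huD
            (fun hf => hne (sec_eq I.hP.pair I.hT huD hs hf).symm) hr I.d ψ, mul_zero]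
    have h2 : ((L.deg : ℂ) * ((2 ^ I.t : ℕ) : ℂ) * ((2 ^ I.d : ℕ) : ℂ)) *
        ((∑ χ ∈ B.toFinset, N χ ψ * I.r I.t χ j : ℤ) : ℂ) =
        ((L.deg : ℂ) * ((2 ^ I.t : ℕ) : ℂ) * ((2 ^ I.d : ℕ) : ℂ)) *
          (((if j = i then - I.r I.t ψ 0 else 0 : ℤ)) : ℂ) := by
      calc _ = ∑ χ ∈ B.toFinset, ((4 * 2 ^ I.t * N χ ψ : ℤ) : ℂ) *
            ((L.deg : ℂ) * ((2 ^ I.t : ℕ) : ℂ) * (I.r I.t χ j : ℂ)) := by
            rw [I.cast_two_pow]
            push_cast
            rw [Finset.mul_sum]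
            exact Finset.sum_congr rfl fun χ _ => by ring
        _ = ∑ τ ∈ Finset.range (2 ^ I.t), (I.ζ ^ (2 * τ + 1)) ^ j *
            (η (I.x ^ (2 ^ (I.t - I.t) * (2 * τ + 1))) *
              (((2 ^ I.d : ℕ) : ℂ) * ((L.deg : ℂ) * (I.r I.t ψ 0 : ℂ)))) := by
            rw [Finset.sum_congr rfl fun χ _ => by rw [hcoord χ, Finset.mul_sum], Finset.sum_comm]
            refine Finset.sum_congr rfl fun τ hτ => ?_
            rw [← hinner τ hτ, Finset.mul_sum]
            exact Finset.sum_congr rfl fun χ _ => by ring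
        _ = (∑ τ ∈ Finset.range (2 ^ I.t),
              ((I.ζ ^ (2 * τ + 1)) ^ i - conj ((I.ζ ^ (2 * τ + 1)) ^ i)) *
                (I.ζ ^ (2 * τ + 1)) ^ j) *
              (((2 ^ I.d : ℕ) : ℂ) * ((L.deg : ℂ) * (I.r I.t ψ 0 : ℂ))) := by
            rw [Finset.sum_mul]
            refine Finset.sum_congr rfl fun τ _ => ?_
            rw [htop _ (odd_two_mul_add_one τ)]
            ring
        _ = _ := by
            rw [htopsum j (by omega), if_neg (by omega : ¬ i + j = 2 ^ I.t)]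
            split_ifs <;> push_cast <;> ring
    have h3 := mul_left_cancel₀ (mul_ne_zero (mul_ne_zero hd
      (Nat.cast_ne_zero.2 (pow_ne_zero _ two_ne_zero))) hd0) h2
    exact_mod_cast h3

end Inn

end CfsgLib.SdBlocks
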