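import Cfsg.Agent.Lib.SdBlocks.OutData
import Cfsg.Agent.Lib.SdBlocks.Inner

/-!
# The contributions at the central involution of `D` with the fusion of the elements of order four
-/

set_option autoImplicit false
set_option maxHeartbeats 1600000
set_option synthInstance.maxHeartbeats 400000

open scoped ComplexConjugate Classical
open Cfsg CfsgLib.Blocks CfsgLib.Blocks.Pairs CfsgLib.BlockRank CfsgLib.DihBlocks CfsgLib.QuatBlocks

namespace CfsgLib.SdBlocks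

universe u

variable {G : Type u} [Group G] [Fintype G] {M : Ideal AlgInt} [M.IsMaximal]
  [CharP (ResField M) 2] {B : Set (IrrCharacter G)} [Fintype B]

/-- The integral form of the contributions at the central involution of `D`. -/
structure ZForm {t : ℕ} (B : Set (IrrCharacter G)) [Fintype B]
    (Zc : IrrCharacter G → IrrCharacter G → ℂ) (A W : IrrCharacter G → ℤ) : Prop where
  form : ∀ χ ψ : IrrCharacter G,
    Zc χ ψ = ((A χ * A ψ + 2 ^ (t - 1) * (W χ * W ψ) : ℤ) : ℂ)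
  sqA : ∑ χ ∈ B.toFinset, A χ * A χ = 4 * 2 ^ t
  sqW : ∑ χ ∈ B.toFinset, W χ * W χ = 8
  orth : ∑ χ ∈ B.toFinset, A χ * W χ = 0
  parity : ∀ χ, (2 : ℤ) ∣ A χ - W χ
  oddA : ∀ χ ∈ B, blockHeight 2 B (χ : G → ℂ) = 0 → ¬ (2 : ℤ) ∣ A χ
  height : ∀ χ ∈ B, ∀ ψ ∈ B, blockHeight 2 B (ψ : G → ℂ) = 0 →
    (2 : ℤ) ^ blockHeight 2 B (χ : G → ℂ) ∣ A χ * A ψ + 2 ^ (t - 1) * (W χ * W ψ) ∧
      ¬ (2 : ℤ) ^ (blockHeight 2 B (χ : G → ℂ) + 1) ∣ A χ * A ψ + 2 ^ (t - 1) * (W χ * W ψ)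

namespace Out

variable (O : Out M B)

/-- The form exists when the elements of order four are fused in the centralizer. -/
theorem exists_zform {b : Set (IrrCharacter (Subgroup.centralizer ({O.x ^ O.q} : Set G)))}
    (hb : IsPBlock M b) (hbe : eIn hb = below O.D O.e (O.x ^ O.q))
    (hind : IsInducedBlock M (Subgroup.centralizer ({O.x ^ O.q} : Set G)) b B)
    (hDC : O.D ≤ Subgroup.centralizer ({O.x ^ O.q} : Set G))
    (hF : Fus 2 (O.D.subgroupOf (Subgroup.centralizer ({O.x ^ O.q} : Set G)))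
      (Blocks.Pairs.down (Subgroup.centralizer ({O.x ^ O.q} : Set G)) O.e)
      ((⟨O.x, hDC O.h.mem_x⟩ : Subgroup.centralizer ({O.x ^ O.q} : Set G)) ^ (O.q / 2))
      (⟨O.s, hDC O.h.mem_s⟩ * ⟨O.x, hDC O.h.mem_x⟩)) :
    blockRank 2 b = 2 ∧ ∃ A W : IrrCharacter G → ℤ,
      ZForm (t := O.t) B (contrib 2 O.d (O.x ^ O.q) b) A W := by
  haveI := Fintype.ofFinite b
  have ht := O.two_le_t
  obtain ⟨hDC', hsd, hPC, hnoC, hbd⟩ := O.h.central_pair O.hM O.hP O.hno hb hbe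
  have hbdd : blockDefect 2 b = O.d := Nat.pow_right_injective le_rfl (hbd.trans O.hd.symm)
  obtain ⟨hl, a, w, hZ, ha, hw, haw, hpar⟩ :=
    inner O.hM hsd hPC hnoC (O.h.central_mem hDC) hF O.hq
  rw [hbdd] at hZ
  refine ⟨hl, ?_⟩
  set Z : IrrCharacter (Subgroup.centralizer ({O.x ^ O.q} : Set G)) →
      IrrCharacter (Subgroup.centralizer ({O.x ^ O.q} : Set G)) → ℤ :=
    fun φ θ => a φ * a θ + 2 ^ (O.t - 1) * (w φ * w θ) with hZdef
  have hsymm : ∀ φ θ, Z φ θ = Z θ φ := fun φ θ => by simp only [hZdef]; ring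
  have h8 : (2 : ℤ) ^ (O.t - 1) * 8 = 4 * 2 ^ O.t := by
    rw [show (2 : ℤ) ^ O.t = 2 * 2 ^ (O.t - 1) by
      rw [← pow_succ', Nat.sub_add_cancel (by omega)]]
    ring
  have h2d : ((2 ^ O.d : ℕ) : ℤ) = 4 * 2 ^ O.t := by
    rw [O.hd, O.hq]
    push_cast
    rfl
  have hsq : ∀ φ ∈ b.toFinset, ∀ θ ∈ b.toFinset,
      ∑ ψ ∈ b.toFinset, Z φ ψ * Z ψ θ = ((2 ^ O.d : ℕ) : ℤ) * Z φ θ := by
    intro φ _ θ _
    rw [Finset.sum_congr rfl (g := fun ψ => a φ * a θ * (a ψ * a ψ) +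
      2 ^ (O.t - 1) * (a φ * w θ + w φ * a θ) * (a ψ * w ψ) +
      2 ^ (O.t - 1) * 2 ^ (O.t - 1) * (w φ * w θ) * (w ψ * w ψ)) fun ψ _ => by
      simp only [hZdef]; ring]
    simp only [Finset.sum_add_distrib, ← Finset.mul_sum, ha, hw, haw, hZdef, h2d]
    linear_combination (2 ^ (O.t - 1) * (w φ * w θ)) * h8
  have hζ : IsPrimitiveRoot (-1 : ℂ) (orderOf (O.x ^ O.q)) := by
    rw [O.h.orderOf_z]
    exact IsPrimitiveRoot.neg_one 0 (by norm_num)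
  choose mm ii hmi using fun χ : IrrCharacter G =>
    exists_blockPart_translate (G := G) (C := Subgroup.centralizer ({O.x ^ O.q} : Set G))
      (x := O.x ^ O.q) rfl hζ χ
  have hai : ∀ (χ : IrrCharacter G) (c : Subgroup.centralizer ({O.x ^ O.q} : Set G)),
      blockPart b (fun c : Subgroup.centralizer ({O.x ^ O.q} : Set G) =>
        (χ : G → ℂ) (O.x ^ O.q * c)) c =
        ∑ φ ∈ b.toFinset, (mm χ φ : ℂ) * (-1) ^ ii χ φ *
          (φ : Subgroup.centralizer ({O.x ^ O.q} : Set G) → ℂ) c := fun χ c => (hmi χ).2 b c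
  let A : IrrCharacter G → ℤ := fun χ => ∑ φ ∈ b.toFinset, (mm χ φ : ℤ) * (-1) ^ ii χ φ * a φ
  let W : IrrCharacter G → ℤ := fun χ => ∑ φ ∈ b.toFinset, (mm χ φ : ℤ) * (-1) ^ ii χ φ * w φ
  have hform : ∀ χ ψ : IrrCharacter G, contrib 2 O.d (O.x ^ O.q) b χ ψ =
      ((A χ * A ψ + 2 ^ (O.t - 1) * (W χ * W ψ) : ℤ) : ℂ) := by
    intro χ ψ
    rw [contrib_eq_cycloForm (fun φ hφ θ hθ => hZ φ hφ θ hθ) mm ii hai χ ψ]
    simp only [cycloForm, A, W, hZdef, Int.cast_add, Int.cast_mul, Int.cast_sum,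
      Int.cast_pow, Int.cast_natCast, Int.cast_neg, Int.cast_one, Int.cast_ofNat]
    rw [Finset.sum_mul_sum, Finset.sum_mul_sum, Finset.mul_sum, ← Finset.sum_add_distrib]
    refine Finset.sum_congr rfl fun φ _ => ?_
    rw [Finset.mul_sum, ← Finset.sum_add_distrib]
    refine Finset.sum_congr rfl fun θ _ => ?_
    simp only [map_pow, map_neg, map_one]
    ring
  have hlin : ∀ χ, ∀ φ, linForm b.toFinset (fun ψ => Z ψ φ) (mm χ) (ii χ) (-1) =
      ((A χ * a φ + 2 ^ (O.t - 1) * (W χ * w φ) : ℤ) : ℂ) := by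
    intro χ φ
    simp only [linForm, A, W, hZdef, Int.cast_add, Int.cast_mul, Int.cast_sum, Int.cast_pow,
      Int.cast_natCast, Int.cast_neg, Int.cast_one, Int.cast_ofNat, Finset.mul_sum, Finset.sum_mul,
      ← Finset.sum_add_distrib]
    exact Finset.sum_congr rfl fun ψ _ => by ring
  have hgram : ∀ φ ∈ b, ∀ θ ∈ b, ∑ χ ∈ B.toFinset, (A χ * a φ + 2 ^ (O.t - 1) * (W χ * w φ)) *
      (A χ * a θ + 2 ^ (O.t - 1) * (W χ * w θ)) = 4 * 2 ^ O.t * Z φ θ := by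
    intro φ hφ θ hθ
    have h1 := sum_row_mul_conj O.hM rfl ⟨1, O.h.orderOf_z.trans (pow_one 2).symm⟩ hind hsymm
      (fun φ hφ θ hθ => hZ φ hφ θ hθ) hsq mm ii hai hφ hθ
    simp only [hlin, map_intCast, h2d, ← Int.cast_mul, ← Int.cast_sum] at h1
    exact_mod_cast h1
  -- the three sums
  set SAA := ∑ χ ∈ B.toFinset, A χ * A χ with hSAA
  set SWW := ∑ χ ∈ B.toFinset, W χ * W χ with hSWW
  set SAW := ∑ χ ∈ B.toFinset, A χ * W χ with hSAW
  have hexp : ∀ φ ∈ b.toFinset, ∀ θ ∈ b.toFinset,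
      a φ * a θ * SAA + 2 ^ (O.t - 1) * (a φ * w θ + w φ * a θ) * SAW +
        2 ^ (O.t - 1) * 2 ^ (O.t - 1) * (w φ * w θ) * SWW =
      4 * 2 ^ O.t * (a φ * a θ + 2 ^ (O.t - 1) * (w φ * w θ)) := fun φ hφ θ hθ => by
    have h1 := hgram φ (Set.mem_toFinset.1 hφ) θ (Set.mem_toFinset.1 hθ)
    rw [Finset.sum_congr rfl (g := fun χ => a φ * a θ * (A χ * A χ) +
      2 ^ (O.t - 1) * (a φ * w θ + w φ * a θ) * (A χ * W χ) +
      2 ^ (O.t - 1) * 2 ^ (O.t - 1) * (w φ * w θ) * (W χ * W χ)) fun χ _ => by ring] at h1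
    simp only [Finset.sum_add_distrib, ← Finset.mul_sum] at h1
    exact h1
  clear_value SAA SWW SAW
  have hdouble : ∀ f f' : IrrCharacter (Subgroup.centralizer ({O.x ^ O.q} : Set G)) → ℤ,
      (∑ φ ∈ b.toFinset, f φ * a φ) * (∑ φ ∈ b.toFinset, f' φ * a φ) * SAA +
        2 ^ (O.t - 1) * ((∑ φ ∈ b.toFinset, f φ * a φ) * (∑ φ ∈ b.toFinset, f' φ * w φ) +
          (∑ φ ∈ b.toFinset, f φ * w φ) * (∑ φ ∈ b.toFinset, f' φ * a φ)) * SAW +
        2 ^ (O.t - 1) * 2 ^ (O.t - 1) *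
          ((∑ φ ∈ b.toFinset, f φ * w φ) * (∑ φ ∈ b.toFinset, f' φ * w φ)) * SWW =
      4 * 2 ^ O.t * ((∑ φ ∈ b.toFinset, f φ * a φ) * (∑ φ ∈ b.toFinset, f' φ * a φ) +
        2 ^ (O.t - 1) * ((∑ φ ∈ b.toFinset, f φ * w φ) * (∑ φ ∈ b.toFinset, f' φ * w φ))) := by
    intro f f'
    rw [Finset.sum_mul_sum, Finset.sum_mul_sum, Finset.sum_mul_sum, Finset.sum_mul_sum]
    simp only [Finset.mul_sum, Finset.sum_mul, ← Finset.sum_add_distrib]
    refine Finset.sum_congr rfl fun φ hφ => Finset.sum_congr rfl fun θ hθ => ?_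
    linear_combination (f φ * f' θ) * hexp φ hφ θ hθ
  have hwa : ∑ φ ∈ b.toFinset, w φ * a φ = 0 := by
    rw [← haw]
    exact Finset.sum_congr rfl fun φ _ => mul_comm _ _
  have hA : SAA = 4 * 2 ^ O.t := by
    have h1 := hdouble a a
    rw [ha, haw] at h1
    refine mul_left_cancel₀ (a := ((4 : ℤ) * 2 ^ O.t) * (4 * 2 ^ O.t)) (by positivity) ?_
    linear_combination h1
  have hW : SWW = 8 := by
    have h1 := hdouble w w
    rw [hwa, hw] at h1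
    refine mul_left_cancel₀ (a := (2 : ℤ) ^ (O.t - 1) * 2 ^ (O.t - 1) * 64) (by positivity) ?_
    linear_combination h1 - 64 * 2 ^ (O.t - 1) * h8
  have hAW : SAW = 0 := by
    have h1 := hdouble a w
    rw [ha, haw, hwa, hw] at h1
    refine (mul_eq_zero.1 (?_ : (2 : ℤ) ^ (O.t - 1) * (4 * 2 ^ O.t) * 8 * SAW = 0)).resolve_left
      (by positivity)
    linear_combination h1
  have hparity : ∀ χ, (2 : ℤ) ∣ A χ - W χ := fun χ => by
    simp only [A, W, ← Finset.sum_sub_distrib, ← mul_sub]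
    exact Finset.dvd_sum fun φ hφ => (hpar φ (Set.mem_toFinset.1 hφ)).mul_left _
  -- parities
  have hh2 : (2 : ℤ) ∣ 2 ^ (O.t - 1) := dvd_pow_self 2 (by omega)
  have hz2 : orderOf (O.x ^ O.q) = 2 ^ 1 := by rw [O.h.orderOf_z]; rfl
  have hdC : O.d + CfsgLib.BlockReg.minExp 2 b =
      (Nat.card (Subgroup.centralizer ({O.x ^ O.q} : Set G))).factorization 2 := by
    rw [← hbdd]
    exact CfsgLib.BrauerFeit.defect_add_minExp O.hM hb
  have hdG : O.d + CfsgLib.BlockReg.minExp 2 B = (Nat.card G).factorization 2 := by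
    rw [← O.hdef]
    exact CfsgLib.BrauerFeit.defect_add_minExp O.hM O.hB
  have hmin : ∀ χ : IrrCharacter G, χ ∈ B → blockHeight 2 B (χ : G → ℂ) = 0 →
      (charDegree (χ : G → ℂ)).factorization 2 = CfsgLib.BlockReg.minExp 2 B := fun χ hχ hh => by
    rw [CfsgLib.BlockReg.blockHeight_eq] at hh
    exact le_antisymm (Nat.sub_eq_zero_iff_le.1 hh) (CfsgLib.BlockReg.minExp_le hχ)
  obtain ⟨m', i', Z', -, hval, hodd⟩ := exists_contrib_form O.hM rfl hζ hind hdC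
  have hN : ∀ χ ∈ B, ∀ ψ ∈ B, blockHeight 2 B (χ : G → ℂ) = 0 → blockHeight 2 B (ψ : G → ℂ) = 0 →
      ¬ (2 : ℤ) ∣ A χ * A ψ + 2 ^ (O.t - 1) * (W χ * W ψ) := by
    intro χ hχ ψ hψ hh hh'
    let V : ℤ := ∑ φ ∈ b.toFinset, ∑ θ ∈ b.toFinset,
      (m' χ φ : ℤ) * (m' ψ θ : ℤ) * Z' φ θ * ((-1) ^ i' χ φ * (-1) ^ i' ψ θ)
    have hV : contrib 2 O.d (O.x ^ O.q) b χ ψ = (V : ℂ) := by
      rw [hval]
      simp only [cycloForm, V, Int.cast_sum, Int.cast_mul, Int.cast_natCast, Int.cast_pow,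
        Int.cast_neg, Int.cast_one, map_pow, map_neg, map_one]
    have heq : A χ * A ψ + 2 ^ (O.t - 1) * (W χ * W ψ) = V := by
      have h1 := (hform χ ψ).symm.trans hV
      exact_mod_cast h1
    rw [heq]
    intro hdvd
    refine hodd χ hχ ψ hψ (hmin χ hχ hh) (hmin ψ hψ hh') ?_
    rw [← ZMod.intCast_zmod_eq_zero_iff_dvd]
    have h2 : ((V : ℤ) : ZMod 2) = 0 := (ZMod.intCast_zmod_eq_zero_iff_dvd V 2).2 hdvd
    rw [← h2]
    simp only [V, Int.cast_sum, Int.cast_mul, Int.cast_pow, Int.cast_neg, Int.cast_one,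
      ZMod.neg_eq_self_mod_two, one_pow, mul_one]
  refine ⟨A, W, hform, hSAA.symm.trans hA, hSWW.symm.trans hW, hSAW.symm.trans hAW, hparity, fun χ hχ hh hdvd => ?_, fun χ hχ ψ hψ hh => ?_⟩
  · exact hN χ hχ χ hχ hh hh (dvd_add (hdvd.mul_right _) (hh2.mul_right _))
  obtain ⟨Y, hY, hYc⟩ := exists_contrib_divisible O.hM rfl hz2 hζ O.hB hind hdC hdG
  obtain ⟨hYint, hYeq⟩ := hY χ hχ ψ
  obtain ⟨-, hYeq'⟩ := hY ψ hψ ψ
  rw [hform] at hYeq hYeq'
  rw [← CfsgLib.BlockReg.blockHeight_eq] at hYeq hYeq'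
  rw [hh, pow_zero, Nat.cast_one, one_mul] at hYeq'
  set N := A χ * A ψ + 2 ^ (O.t - 1) * (W χ * W ψ) with hNdef
  set hgt := blockHeight 2 B (χ : G → ℂ) with hgt'
  have hcast : (N : ℂ) = (((2 : ℤ) ^ hgt : ℤ) : ℂ) * Y χ ψ := by
    rw [hYeq]
    push_cast
    rfl
  obtain ⟨c, hc⟩ := int_dvd_of_isIntegral (pow_ne_zero hgt two_ne_zero) hYint hcast
  refine ⟨⟨c, hc⟩, fun hdvd => ?_⟩
  have hYc' : Y χ ψ = (c : ℂ) := by
    have h0 : (((2 : ℤ) ^ hgt : ℤ) : ℂ) ≠ 0 := by exact_mod_cast pow_ne_zero hgt two_ne_zero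
    refine mul_left_cancel₀ h0 ?_
    rw [← hcast, hc]
    push_cast
    rfl
  have hceven : (2 : ℤ) ∣ c := by
    rw [hc, pow_succ, mul_dvd_mul_iff_left (pow_ne_zero hgt two_ne_zero)] at hdvd
    exact hdvd
  have h1 := hYc χ hχ ψ hψ ψ (by
    rw [hYc']
    exact (CfsgLib.BlockReg.memIdeal_intCast_iff O.hM c).2 hceven)
  rw [← hYeq', CfsgLib.BlockReg.memIdeal_intCast_iff O.hM] at h1
  exact hN ψ hψ ψ hψ hh hh h1

end Out

end CfsgLib.SdBlocks
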