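import Cfsg.Agent.Lib.SdBlocks.OutNil
import Cfsg.Agent.Lib.SdBlocks.OutFusData

/-!
# The invariants of a block with semidihedral defect group
-/

set_option autoImplicit false
set_option maxHeartbeats 1600000
set_option synthInstance.maxHeartbeats 400000

open scoped ComplexConjugate Classical
open Cfsg CfsgLib.Blocks CfsgLib.Blocks.Pairs CfsgLib.BlockRank CfsgLib.DihBlocks CfsgLib.QuatBlocks

namespace CfsgLib.SdBlocks

universe u

variable {G : Type u} [Group G] [Fintype G] {M : Ideal AlgInt} [M.IsMaximal]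
  [CharP (ResField M) 2] {B : Set (IrrCharacter G)} [Fintype B]

theorem height_of_dvd {N a : ℤ} {h j : ℕ} (hN : N = 2 ^ j * a) (ha : ¬ (2 : ℤ) ∣ a)
    (hd : (2 : ℤ) ^ h ∣ N) (hd' : ¬ (2 : ℤ) ^ (h + 1) ∣ N) : h = j := by
  subst hN
  rcases lt_trichotomy h j with hlt | heq | hgt
  · exact absurd ((pow_dvd_pow 2 (by omega : h + 1 ≤ j)).trans (dvd_mul_right _ a)) hd'
  · exact heq
  · have h1 : (2 : ℤ) ^ j * 2 ∣ 2 ^ j * a := by
      rw [← pow_succ]
      exact (pow_dvd_pow 2 (by omega : j + 1 ≤ h)).trans hd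
    exact absurd ((mul_dvd_mul_iff_left (pow_ne_zero j two_ne_zero)).1 h1) ha

theorem odd_mul' {a b : ℤ} (ha : ¬ (2 : ℤ) ∣ a) (hb : ¬ (2 : ℤ) ∣ b) : ¬ (2 : ℤ) ∣ a * b :=
  fun h => (Int.prime_two.dvd_or_dvd h).elim ha hb

namespace Out

variable (O : Out M B)

/-- **The invariants when the elements of order four are fused.** -/
theorem invariants_fus {b : Set (IrrCharacter (Subgroup.centralizer ({O.x ^ O.q} : Set G)))}
    (hrank : blockRank 2 (O.sc (O.x ^ O.q)).2 = 2)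
    (hcz : ∀ χ ψ : IrrCharacter G,
      contrib 2 O.d (O.sc (O.x ^ O.q)).1 (O.sc (O.x ^ O.q)).2 χ ψ =
        contrib 2 O.d (O.x ^ O.q) b χ ψ)
    {A W : IrrCharacter G → ℤ} (hZ : ZForm (t := O.t) B (contrib 2 O.d (O.x ^ O.q) b) A W) :
    (Nat.card B = 2 ^ O.t + 3 ∧ blockRank 2 B ≤ 2 ∧
        ∀ χ ∈ B, blockHeight 2 B (χ : G → ℂ) ≤ 1) ∨
      (Nat.card B = 2 ^ O.t + 4 ∧ blockRank 2 B ≤ 3 ∧ blockRank 2 B ≠ 1 ∧
        ∃ st ∈ B, blockHeight 2 B (st : G → ℂ) = O.t ∧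
          ∀ χ ∈ B, χ ≠ st → blockHeight 2 B (χ : G → ℂ) ≤ 1) := by
  have ht := O.two_le_t
  have hzD := O.h.pow_mem_D O.q
  set m := 2 ^ (O.t - 1) with hm
  have hm2 : (2 : ℤ) ∣ 2 ^ (O.t - 1) := dvd_pow_self 2 (by omega)
  set R : Finset (Sec G) := {O.sc 1, O.sc (O.x ^ O.q)} with hR
  have hRT : R ⊆ O.T := by
    simp only [hR, Finset.insert_subset_iff, Finset.singleton_subset_iff]
    exact ⟨O.sc_mem (one_mem _), O.sc_mem hzD⟩
  have hRd : Disjoint R O.cyc := by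
    simp only [hR, Finset.disjoint_insert_left, Finset.disjoint_singleton_left]
    exact ⟨O.s1_notMem, O.sz_notMem⟩
  have hoddW : ∀ χ ∈ O.H, ¬ (2 : ℤ) ∣ W χ := fun χ hχ h =>
    hZ.oddA χ (O.mem_H.1 hχ).1 (O.mem_H.1 hχ).2 ((dvd_sub_left h).1 (hZ.parity χ))
  have hWsq : ∀ χ ∈ O.H, 1 ≤ W χ * W χ := fun χ hχ => by
    have := mul_self_pos.2 (fun h : W χ = 0 => hoddW χ hχ (h ▸ dvd_zero _))
    omega
  -- the coordinates of the top level avoid the characters of height zero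
  have hex : ∀ χ ∈ O.H, ∀ i ∈ Finset.Ico 1 m, O.r O.t χ i = 0 := by
    intro χ hχ i hi
    refine O.top_zero hχ R hRT hRd ?_ hi
    obtain ⟨hχB, hh⟩ := O.mem_H.1 hχ
    have h1 := O.one_le_contrib_one hχB
    rw [hR, Finset.sum_pair O.s1_ne_sz, hcz, hZ.form, Complex.intCast_re]
    have h3 : (3 : ℤ) ≤ A χ * A χ + 2 ^ (O.t - 1) * (W χ * W χ) := by
      have hA := mul_self_pos.2 (fun h : A χ = 0 => hZ.oddA χ hχB hh (h ▸ dvd_zero _))
      have h2 : (2 : ℤ) ≤ 2 ^ (O.t - 1) := Int.le_of_dvd (by positivity) hm2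
      nlinarith [hWsq χ hχ]
    have h4 : ((3 : ℤ) : ℝ) ≤ ((A χ * A χ + 2 ^ (O.t - 1) * (W χ * W χ) : ℤ) : ℝ) :=
      Int.cast_le.2 h3
    push_cast at h4 ⊢
    linarith
  -- orthogonality with the top level
  have horthAW : ∀ i ∈ Finset.Ico 1 m, (∑ χ ∈ B.toFinset, A χ * O.r O.t χ i = 0) ∧
      ∑ χ ∈ B.toFinset, W χ * O.r O.t χ i = 0 := by
    intro i hi
    have h2 := O.two_pow_t
    set SA := ∑ χ ∈ B.toFinset, A χ * O.r O.t χ i with hSA
    set SW := ∑ χ ∈ B.toFinset, W χ * O.r O.t χ i with hSW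
    have h0 : ∀ ψ, A ψ * SA + 2 ^ (O.t - 1) * (W ψ * SW) = 0 := by
      intro ψ
      have h1 := O.orth_top (O.sc_mem hzD) O.order_phi_z.le ψ
        (i := i) (by have := (Finset.mem_Ico.1 hi).2; omega)
      simp only [hcz, hZ.form, ← Int.cast_mul, ← Int.cast_sum] at h1
      rw [← Int.cast_eq_zero (α := ℂ), ← h1, Int.cast_inj, hSA, hSW]
      simp only [Finset.mul_sum, ← Finset.sum_add_distrib]
      exact Finset.sum_congr rfl fun χ _ => by ring
    clear_value SA SW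
    have hsum : ∀ F : IrrCharacter G → ℤ, (∑ ψ ∈ B.toFinset, F ψ * A ψ) * SA +
        2 ^ (O.t - 1) * ((∑ ψ ∈ B.toFinset, F ψ * W ψ) * SW) = 0 := by
      intro F
      rw [Finset.sum_mul, Finset.sum_mul, Finset.mul_sum, ← Finset.sum_add_distrib]
      exact Finset.sum_eq_zero fun ψ _ => by linear_combination F ψ * h0 ψ
    have hA := hsum A
    have hW := hsum W
    rw [hZ.sqA, hZ.orth] at hA
    rw [Finset.sum_congr rfl (g := fun ψ => A ψ * W ψ) fun ψ _ => mul_comm _ _, hZ.orth,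
      hZ.sqW] at hW
    simp only [zero_mul, mul_zero, add_zero, zero_add] at hA hW
    exact ⟨(mul_eq_zero.1 hA).resolve_left (by positivity),
      (mul_eq_zero.1 ((mul_eq_zero.1 hW).resolve_left (by positivity))).resolve_left (by norm_num)⟩
  -- parity off the height zero
  obtain ⟨ψ, hψ⟩ := Finset.card_pos.1 (O.card_H.symm ▸ (by norm_num : 0 < 4))
  obtain ⟨hψB, hψh⟩ := O.mem_H.1 hψ
  have hAψ := hZ.oddA ψ hψB hψh
  have hWψ := hoddW ψ hψ
  have hAeven : ∀ χ ∈ B.toFinset, χ ∉ O.H → (2 : ℤ) ∣ A χ := by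
    intro χ hχ hH
    have hχB := Set.mem_toFinset.1 hχ
    have h1 : (2 : ℤ) ∣ A χ * A ψ + 2 ^ (O.t - 1) * (W χ * W ψ) :=
      (dvd_pow_self (2 : ℤ) (fun h0 => hH (O.mem_H.2 ⟨hχB, h0⟩))).trans
        (hZ.height χ hχB ψ hψB hψh).1
    rw [dvd_add_left (hm2.mul_right _)] at h1
    exact (Int.prime_two.dvd_or_dvd h1).resolve_right hAψ
  have hWeven : ∀ χ ∈ B.toFinset, χ ∉ O.H → (2 : ℤ) ∣ W χ := fun χ hχ hH =>
    (dvd_sub_right (hAeven χ hχ hH)).1 (hZ.parity χ)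
  -- the special character
  have hWsum : 4 ≤ ∑ χ ∈ O.H, W χ * W χ := by
    refine le_trans ?_ (Finset.sum_le_sum hWsq)
    simp [O.card_H]
  have hfour : ∀ χ ∈ B.toFinset \ O.H, W χ ≠ 0 → 4 ≤ W χ * W χ := by
    intro χ hχ hne
    obtain ⟨hχ1, hχ2⟩ := Finset.mem_sdiff.1 hχ
    obtain ⟨u, hu⟩ := hWeven χ hχ1 hχ2
    have hu0 : u ≠ 0 := fun h => hne (by rw [hu, h, mul_zero])
    have := mul_self_pos.2 hu0
    rw [hu, show 2 * u * (2 * u) = 4 * (u * u) by ring]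
    omega
  have hoff : ∑ χ ∈ B.toFinset \ O.H, W χ * W χ = 4 := by
    have h1 := Finset.sum_sdiff (f := fun χ => W χ * W χ) O.H_sub
    rw [hZ.sqW] at h1
    have h8 : ∀ χ ∈ O.H, ∃ u : ℤ, W χ * W χ = 1 + 8 * u := by
      intro χ hχ
      obtain ⟨u, hu⟩ := Int.not_even_iff_odd.1 fun h => hoddW χ hχ (even_iff_two_dvd.1 h)
      obtain ⟨w, hw⟩ := Int.even_mul_succ_self u
      exact ⟨w, by rw [hu]; linear_combination 4 * hw⟩
    choose! u hu using h8
    have h2 : ∑ χ ∈ O.H, W χ * W χ = 4 + 8 * ∑ χ ∈ O.H, u χ := by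
      rw [Finset.sum_congr rfl hu, Finset.sum_add_distrib, Finset.sum_const, O.card_H,
        ← Finset.mul_sum]
      simp
    have h3 := Finset.sum_nonneg (s := B.toFinset \ O.H) fun χ _ => mul_self_nonneg (W χ)
    omega
  obtain ⟨st, hst, hstne⟩ : ∃ st ∈ B.toFinset \ O.H, W st ≠ 0 := by
    by_contra hcon
    push Not at hcon
    rw [Finset.sum_eq_zero fun χ hχ => by rw [hcon χ hχ, mul_zero]] at hoff
    norm_num at hoff
  obtain ⟨hstS, hstH⟩ := Finset.mem_sdiff.1 hst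
  have hstB := Set.mem_toFinset.1 hstS
  rw [← Finset.add_sum_erase _ _ hst] at hoff
  have hrest := Finset.sum_nonneg (s := (B.toFinset \ O.H).erase st)
    fun χ _ => mul_self_nonneg (W χ)
  have h4 := hfour st hst hstne
  have hW0 : ∀ χ ∈ B.toFinset \ O.H, χ ≠ st → W χ = 0 := fun χ hχ hne =>
    mul_self_eq_zero.1 ((Finset.sum_eq_zero_iff_of_nonneg fun θ _ => mul_self_nonneg (W θ)).1
      (by omega) χ (Finset.mem_erase.2 ⟨hne, hχ⟩))
  have hWst : W st = 2 ∨ W st = -2 :=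
    mul_self_eq_mul_self_iff.1 (show W st * W st = 2 * 2 by omega)
  have hrst : ∀ i ∈ Finset.Ico 1 m, O.r O.t st i = 0 := by
    intro i hi
    have h0 := (horthAW i hi).2
    rw [Finset.sum_eq_single st (fun χ hχ hne => ?_) (fun h => absurd hstS h)] at h0
    · exact (mul_eq_zero.1 h0).resolve_left hstne
    · by_cases hH : χ ∈ O.H
      · rw [hex χ hH i hi, mul_zero]
      · rw [hW0 χ (Finset.mem_sdiff.2 ⟨hχ, hH⟩) hne, zero_mul]
  -- the characters with nonzero first coordinate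
  set S' := B.toFinset.filter fun χ => A χ ≠ 0 with hS'
  have hS'sub : S' ⊆ B.toFinset := Finset.filter_subset _ _
  have hdrop : ∀ χ ∈ B.toFinset, χ ∉ S' → χ = st := by
    intro χ hχ hn
    have hA0 : A χ = 0 := by_contra fun h => hn (Finset.mem_filter.2 ⟨hχ, h⟩)
    have hχB := Set.mem_toFinset.1 hχ
    by_contra hne
    have hH : χ ∉ O.H := fun hH => hZ.oddA χ hχB (O.mem_H.1 hH).2 (hA0 ▸ dvd_zero _)
    refine (hZ.height χ hχB ψ hψB hψh).2 ?_
    rw [hA0, hW0 χ (Finset.mem_sdiff.2 ⟨hχ, hH⟩) hne]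
    simp
  have hH' : O.H ⊆ S' := fun χ hχ => Finset.mem_filter.2 ⟨O.H_sub hχ, fun h =>
    hZ.oddA χ (O.mem_H.1 hχ).1 (O.mem_H.1 hχ).2 (h ▸ dvd_zero _)⟩
  have hgram : ∀ i ∈ Finset.Ico 1 m, ∀ k ∈ Finset.Ico 1 m,
      ∑ χ ∈ S', O.r O.t χ i * O.r O.t χ k = if i = k then 2 else 0 := by
    intro i hi k hk
    rw [Finset.sum_subset hS'sub fun χ hχ hn => by rw [hdrop χ hχ hn, hrst i hi, zero_mul],
      O.gram_half hi hk]
  have horth : ∀ i ∈ Finset.Ico 1 m, ∑ χ ∈ S', A χ * O.r O.t χ i = 0 := by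
    intro i hi
    rw [Finset.sum_subset hS'sub fun χ hχ hn => by rw [hdrop χ hχ hn, hrst i hi, mul_zero]]
    exact (horthAW i hi).1
  have hv : ∀ χ ∈ S', A χ ≠ 0 := fun χ hχ => (Finset.mem_filter.1 hχ).2
  have hrow := row_sq_le S' (Finset.Ico 1 m) (O.r O.t) A hgram horth hv
  obtain ⟨hcard, hval⟩ := count_rows S' O.H hH' O.card_H (m := m) Nat.one_le_two_pow
    (O.r O.t) A (fun i hi => by rw [hgram i hi i hi, if_pos rfl]) horth hrow hex
    (by
      rw [Finset.sum_subset hS'sub fun χ hχ hn => by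
        rw [by_contra fun h => hn (Finset.mem_filter.2 ⟨hχ, h⟩), mul_zero], hZ.sqA, hm]
      push_cast
      rw [show (2 : ℤ) ^ O.t = 2 * 2 ^ (O.t - 1) by
        rw [← pow_succ', Nat.sub_add_cancel (by omega)]]
      ring) hv
    (fun χ hχ => hZ.oddA χ (O.mem_H.1 hχ).1 (O.mem_H.1 hχ).2)
    (fun χ hχ hH => hAeven χ (hS'sub hχ) hH)
  -- the heights of the other characters
  have hlow : ∀ χ ∈ B.toFinset, χ ∈ S' → blockHeight 2 B (χ : G → ℂ) ≤ 1 := by
    intro χ hχ hS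
    by_cases hH : χ ∈ O.H
    · rw [(O.mem_H.1 hH).2]
      exact Nat.zero_le 1
    have hχB := Set.mem_toFinset.1 hχ
    obtain ⟨hd1, hd2⟩ := hZ.height χ hχB ψ hψB hψh
    obtain ⟨a', ha'⟩ := hAeven χ hχ hH
    have hodd : ¬ (2 : ℤ) ∣ a' := fun h => by
      obtain ⟨u, hu⟩ := h
      rcases hval χ hS hH with e | e <;> rw [e] at ha' <;> omega
    obtain ⟨w', hw'⟩ := hWeven χ hχ hH
    have hN : A χ * A ψ + 2 ^ (O.t - 1) * (W χ * W ψ) =
        2 ^ 1 * (a' * A ψ + 2 ^ (O.t - 1) * (w' * W ψ)) := by rw [ha', hw']; ring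
    exact le_of_eq (height_of_dvd hN
      (fun h => odd_mul' hodd hAψ ((dvd_add_left (hm2.mul_right _)).1 h)) hd1 hd2)
  have hkB := O.card_ge R hRT hRd
  rw [hR, Finset.sum_pair O.s1_ne_sz, O.rank_s1, hrank] at hkB
  have hcS : Nat.card B = B.toFinset.card := by
    rw [Nat.card_eq_fintype_card, Set.toFinset_card]
  have hq := O.hq
  have h2t := O.two_pow_t
  by_cases hs : st ∈ S'
  · left
    have hS : S' = B.toFinset := Finset.Subset.antisymm hS'sub fun χ hχ =>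
      by_contra fun hn => hn (hdrop χ hχ hn ▸ hs)
    rw [hS] at hcard
    refine ⟨by omega, by omega, fun χ hχ => hlow χ (Set.mem_toFinset.2 hχ) ?_⟩
    rw [hS]
    exact Set.mem_toFinset.2 hχ
  right
  have hS : B.toFinset = insert st S' := Finset.Subset.antisymm
    (fun χ hχ => Finset.mem_insert.2 ((em (χ ∈ S')).symm.imp_left (hdrop χ hχ)))
    (Finset.insert_subset hstS hS'sub)
  rw [hS, Finset.card_insert_of_notMem hs, hcard] at hcS
  have hhst : blockHeight 2 B (st : G → ℂ) = O.t := by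
    obtain ⟨hd1, hd2⟩ := hZ.height st hstB ψ hψB hψh
    have hA0 : A st = 0 := by_contra fun h => hs (Finset.mem_filter.2 ⟨hstS, h⟩)
    obtain ⟨w', hw'⟩ := hWeven st hstS hstH
    have hodd : ¬ (2 : ℤ) ∣ w' := fun h => by
      obtain ⟨u, hu⟩ := h
      rcases hWst with e | e <;> rw [e] at hw' <;> omega
    refine height_of_dvd (a := w' * W ψ) ?_ (odd_mul' hodd hWψ) hd1 hd2
    rw [hA0, hw', show (2 : ℤ) ^ O.t = 2 * 2 ^ (O.t - 1) by
      rw [← pow_succ', Nat.sub_add_cancel (by omega)]]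
    ring
  refine ⟨by omega, by omega, fun hl => ?_, st, hstB, hhst, fun χ hχ hne =>
    hlow χ (Set.mem_toFinset.2 hχ) (by_contra fun hn => hne (hdrop χ (Set.mem_toFinset.2 hχ) hn))⟩
  -- one Brauer character is impossible
  obtain ⟨φ₀, nc, dd, hφ₀, hdd, hsum⟩ := exists_rankOne_data O.hM O.hB hl
  have hreg : IsPRegular 2 (1 : G) := by simp [IsPRegular]
  have hdeg : ∀ χ ∈ B, (charDegree (χ : G → ℂ) : ℂ) = (dd χ : ℂ) * φ₀ 1 := fun χ hχ => by
    rw [CfsgLib.BlockReg.deg_cast]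
    exact hdd χ hχ 1 hreg
  obtain ⟨θ, hθ, hθmin⟩ :=
    CfsgLib.BlockReg.exists_minExp (p := 2) (CfsgLib.BlockReg.block_nonempty O.hM O.hB)
  have hpos : ∀ χ ∈ B, dd χ ≠ 0 := fun χ hχ h0 => by
    have := hdeg χ hχ
    rw [h0, Nat.cast_zero, zero_mul, Nat.cast_eq_zero] at this
    exact (CfsgLib.BlockReg.deg_pos χ).ne' this
  have hmul : charDegree (st : G → ℂ) * dd θ = dd st * charDegree (θ : G → ℂ) := by
    have h1 : ((charDegree (st : G → ℂ) * dd θ : ℕ) : ℂ) =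
        ((dd st * charDegree (θ : G → ℂ) : ℕ) : ℂ) := by
      push_cast
      rw [hdeg st hstB, hdeg θ hθ]
      ring
    exact_mod_cast h1
  have hfac := congrArg (fun k => k.factorization 2) hmul
  simp only [Nat.factorization_mul (CfsgLib.BlockReg.deg_pos _).ne' (hpos θ hθ),
    Nat.factorization_mul (hpos st hstB) (CfsgLib.BlockReg.deg_pos _).ne', Finsupp.add_apply,
    hθmin] at hfac
  rw [CfsgLib.BlockReg.blockHeight_eq] at hhst
  have hdvd : 2 ^ O.t ∣ dd st :=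
    (Nat.prime_two.pow_dvd_iff_le_factorization (hpos st hstB)).2 (by omega)
  have hge : 2 ^ O.t ≤ dd st := Nat.le_of_dvd (Nat.pos_of_ne_zero (hpos st hstB)) hdvd
  have hne : θ ≠ st := fun he => by rw [← he, hθmin] at hhst; omega
  have hsub : ({st, θ} : Finset (IrrCharacter G)) ⊆ B.toFinset := by
    simp only [Finset.insert_subset_iff, Finset.singleton_subset_iff]
    exact ⟨hstS, Set.mem_toFinset.2 hθ⟩
  have h5 := Finset.sum_le_sum_of_subset (f := fun χ => dd χ ^ 2) hsub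
  rw [Finset.sum_pair hne.symm, hsum, O.hdef, O.hd, hq] at h5
  have h6 : 1 ≤ dd θ ^ 2 := Nat.one_le_pow _ _ (Nat.pos_of_ne_zero (hpos θ hθ))
  have h7 : 2 ^ O.t * 4 ≤ dd st ^ 2 := by
    rw [sq]
    refine Nat.mul_le_mul hge (le_trans ?_ hge)
    calc 4 = 2 ^ 2 := rfl
      _ ≤ _ := Nat.pow_le_pow_right two_pos ht
  omega

end Out

/-- **The invariants of a block with semidihedral defect group.** -/
theorem semidihedral_invariants (hM : IsPModular 2 M) (hB : IsPBlock M B) {D : Subgroup G}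
    {x s : G} {q t : ℕ} (h : Sd D x s q) (hq : q = 2 ^ t) {e : MonoidAlgebra (ResField M) G}
    (hP : PairOf 2 (ebar hB) D e) (hno : NoExt 2 D e) :
    (Nat.card B = q + 3 ∨ Nat.card B = q + 4) ∧ 1 ≤ blockRank 2 B ∧ blockRank 2 B ≤ 3 ∧
      (blockRank 2 B = 3 → Nat.card B = q + 4) ∧ (blockRank 2 B = 1 → Nat.card B = q + 3) ∧
      Nat.card {χ : IrrCharacter G // χ ∈ B ∧ blockHeight 2 B (χ : G → ℂ) = 0} = 4 ∧
      Nat.card {χ : IrrCharacter G // χ ∈ B ∧ blockHeight 2 B (χ : G → ℂ) = 1} = q - 1 ∧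
      ∀ χ ∈ B, blockHeight 2 B (χ : G → ℂ) = 0 ∨ blockHeight 2 B (χ : G → ℂ) = 1 ∨
        blockHeight 2 B (χ : G → ℂ) = t := by
  obtain ⟨O, rfl, rfl, -, -⟩ := exists_out hM hB h hq hP hno
  have hq' := O.hq
  have ht := O.two_le_t
  have hl1 : 1 ≤ blockRank 2 B :=
    blockRank_pos (by norm_num) (CfsgLib.BlockReg.block_nonempty hM hB)
  obtain ⟨b, hb, hbe, hind, hrk, hcz⟩ := O.exists_central
  haveI := Fintype.ofFinite b
  have hfilter : ∀ j, Nat.card {χ : IrrCharacter G // χ ∈ B ∧ blockHeight 2 B (χ : G → ℂ) = j} =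
      (B.toFinset.filter fun χ : IrrCharacter G => blockHeight 2 B (χ : G → ℂ) = j).card := by
    intro j
    rw [Nat.card_eq_fintype_card, Fintype.card_subtype]
    congr 1
    ext χ
    simp
  have h0 : Nat.card {χ : IrrCharacter G // χ ∈ B ∧ blockHeight 2 B (χ : G → ℂ) = 0} = 4 :=
    (hfilter 0).trans O.card_H
  have hcB : Nat.card B = B.toFinset.card := by
    rw [Nat.card_eq_fintype_card, Set.toFinset_card]
  -- the case of three more characters
  have h3 : Nat.card B = 2 ^ O.t + 3 → blockRank 2 B ≤ 2 →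
      (∀ χ ∈ B, blockHeight 2 B (χ : G → ℂ) ≤ 1) →
      (Nat.card B = O.q + 3 ∨ Nat.card B = O.q + 4) ∧ 1 ≤ blockRank 2 B ∧ blockRank 2 B ≤ 3 ∧
        (blockRank 2 B = 3 → Nat.card B = O.q + 4) ∧ (blockRank 2 B = 1 → Nat.card B = O.q + 3) ∧
        Nat.card {χ : IrrCharacter G // χ ∈ B ∧ blockHeight 2 B (χ : G → ℂ) = 0} = 4 ∧
        Nat.card {χ : IrrCharacter G // χ ∈ B ∧ blockHeight 2 B (χ : G → ℂ) = 1} = O.q - 1 ∧
        ∀ χ ∈ B, blockHeight 2 B (χ : G → ℂ) = 0 ∨ blockHeight 2 B (χ : G → ℂ) = 1 ∨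
          blockHeight 2 B (χ : G → ℂ) = O.t := by
    intro hk hl hh
    refine ⟨Or.inl (by omega), hl1, by omega, fun h => by omega, fun _ => by omega, h0, ?_,
      fun χ hχ => by have := hh χ hχ; omega⟩
    have h1 : (B.toFinset.filter fun χ : IrrCharacter G => blockHeight 2 B (χ : G → ℂ) = 1) =
        B.toFinset \ O.H := by
      ext χ
      simp only [Finset.mem_filter, Finset.mem_sdiff, O.mem_H, Set.mem_toFinset]
      constructor
      · rintro ⟨h1, h2⟩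
        exact ⟨h1, fun h => by omega⟩
      · rintro ⟨h1, h2⟩
        exact ⟨h1, by have := hh χ h1; by_contra; exact h2 ⟨h1, by omega⟩⟩
    rw [hfilter, h1, Finset.card_sdiff_of_subset O.H_sub, O.card_H]
    omega
  obtain ⟨hDC, hsd, hPC, hnoC, hbd⟩ := O.h.central_pair hM O.hP O.hno hb hbe
  by_cases hF : Fus 2 (O.D.subgroupOf (Subgroup.centralizer ({O.x ^ O.q} : Set G)))
      (Blocks.Pairs.down (Subgroup.centralizer ({O.x ^ O.q} : Set G)) O.e)
      ((⟨O.x, hDC O.h.mem_x⟩ : Subgroup.centralizer ({O.x ^ O.q} : Set G)) ^ (O.q / 2))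
      (⟨O.s, hDC O.h.mem_s⟩ * ⟨O.x, hDC O.h.mem_x⟩)
  · obtain ⟨hl, A, W, hZ⟩ := O.exists_zform hb hbe hind hDC hF
    rcases O.invariants_fus (hrk.trans hl) hcz hZ with ⟨hk, hl2, hh⟩ |
      ⟨hk, hl3, hl1', st, hst, hhst, hh⟩
    · exact h3 hk hl2 hh
    refine ⟨Or.inr (by omega), hl1, hl3, fun _ => by omega, fun h => absurd h hl1', h0, ?_,
      fun χ hχ => ?_⟩
    · have h1 : (B.toFinset.filter fun χ : IrrCharacter G => blockHeight 2 B (χ : G → ℂ) = 1) =
          (B.toFinset \ O.H).erase st := by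
        ext χ
        simp only [Finset.mem_filter, Finset.mem_erase, Finset.mem_sdiff, O.mem_H, Set.mem_toFinset]
        constructor
        · rintro ⟨h1, h2⟩
          exact ⟨fun he => by rw [he, hhst] at h2; omega, h1, fun h => by omega⟩
        · rintro ⟨hne, h1, h2⟩
          exact ⟨h1, by have := hh χ h1 hne; by_contra; exact h2 ⟨h1, by omega⟩⟩
      rw [hfilter, h1, Finset.card_erase_of_mem (Finset.mem_sdiff.2 ⟨Set.mem_toFinset.2 hst,
          fun h => by rw [(O.mem_H.1 h).2] at hhst; omega⟩),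
        Finset.card_sdiff_of_subset O.H_sub, O.card_H]
      omega
    · by_cases he : χ = st
      · exact Or.inr (Or.inr (he ▸ hhst))
      · have := hh χ hχ he
        omega
  · have hl : blockRank 2 b = 1 :=
      hsd.central_rank_one hM hPC hnoC (O.h.central_mem hDC) hF hb rfl
    have hbdd : blockDefect 2 b = O.d := Nat.pow_right_injective le_rfl (hbd.trans O.hd.symm)
    obtain ⟨hk, hl2, hh⟩ := O.invariants_nil (fun hG => hF (O.h.fus_four_down O.hP hDC hG))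
      hb hbe hl hbdd
    exact h3 hk hl2 hh

end CfsgLib.SdBlocks
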