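import Cfsg.Agent.Lib.SdBlocks.Group
import Cfsg.Agent.Lib.QuatBlocks.LocalBlock
import Cfsg.Agent.Lib.BlockRank.RankOne
import Cfsg.Agent.S4689

/-!
# The local blocks of a block with semidihedral defect group
-/

set_option autoImplicit false
set_option maxHeartbeats 1600000
set_option synthInstance.maxHeartbeats 400000

open Cfsg CfsgLib.Blocks CfsgLib.Blocks.Pairs CfsgLib.BlockRank CfsgLib.DihBlocks CfsgLib.QuatBlocks
open scoped Classical

namespace CfsgLib.SdBlocks

universe u

variable {G : Type u} [Group G] [Fintype G] {M : Ideal AlgInt} [M.IsMaximal]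
  [CharP (ResField M) 2]

/-- Inclusions of pairs are inherited by a subgroup containing the relevant centralizer. -/
theorem sle_down {L Q R : Subgroup G} {f g : MonoidAlgebra (ResField M) G}
    (h : SLE 2 Q f R g) (hR : R ≤ L) (hC : Subgroup.centralizer (Q : Set G) ≤ L) :
    SLE 2 (Q.subgroupOf L) (down L f) (R.subgroupOf L) (down L g) := by
  suffices ∀ b : Subgroup G × MonoidAlgebra (ResField M) G,
      Relation.ReflTransGen (fun a b : Subgroup G × MonoidAlgebra (ResField M) G =>
        NS 2 a.1 a.2 b.1 b.2) (Q, f) b →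
      b.1 ≤ L → SLE 2 (Q.subgroupOf L) (down L f) (b.1.subgroupOf L) (down L b.2) from this _ h hR
  intro b hb
  induction hb with
  | refl => exact fun _ => Relation.ReflTransGen.refl
  | @tail b c hab hbc ih =>
    intro hcL
    have hQb : Q ≤ b.1 := SLE.le (p := 2) (f := f) (e := b.2) hab
    exact (ih (hbc.le.trans hcL)).trans
      (hbc.down_of_le hcL ((centralizer_anti hQb).trans hC)).sle

omit [Fintype G] in
theorem zpowers_subgroupOf {L : Subgroup G} {u : G} (hu : u ∈ L) :
    (Subgroup.zpowers u).subgroupOf L = Subgroup.zpowers (⟨u, hu⟩ : L) := by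
  refine Subgroup.map_injective L.subtype_injective ?_
  rw [Subgroup.map_subgroupOf_eq_of_le (Subgroup.zpowers_le.2 hu), MonoidHom.map_zpowers]
  rfl

/-- Fusion inside a subgroup containing the relevant centralizers. -/
theorem fus_down {L D : Subgroup G} {e : MonoidAlgebra (ResField M) G} (hP : IsPair 2 D e)
    (hDL : D ≤ L) {u v : G} (hu : u ∈ D) (hv : v ∈ D)
    (hCu : Subgroup.centralizer ({u} : Set G) ≤ L) (hCv : Subgroup.centralizer ({v} : Set G) ≤ L)
    (hg : ∀ g : G, g * u * g⁻¹ = v → g ∈ L) (hf : Fus 2 D e u v) :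
    Fus 2 (D.subgroupOf L) (down L e) (⟨u, hDL hu⟩ : L) ⟨v, hDL hv⟩ := by
  obtain ⟨g, f, h1, hgv, h2⟩ := hf
  rw [centralizer_zpowers_eq] at hCu hCv
  have h1' := sle_down h1 hDL hCu
  have h2' := sle_down h2 hDL hCv
  rw [zpowers_subgroupOf (hDL hu)] at h1'
  rw [zpowers_subgroupOf (hDL hv)] at h2'
  have hsup : SuppIn L f := (h1.pair_left hP).block.mem.supp.mono hCu
  have hconj : down L (conjA g f) = conjA (⟨g, hg g hgv⟩ : L) (down L f) := by
    refine up_injective L ?_
    rw [up_conjA, up_down hsup, up_down ((h2.pair_left hP).block.mem.supp.mono hCv)]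
  rw [hconj] at h2'
  exact ⟨⟨g, hg g hgv⟩, _, h1', Subtype.ext hgv, h2'⟩

variable {E e : MonoidAlgebra (ResField M) G} {D : Subgroup G} {x s : G} {q : ℕ}

namespace Sd

omit [M.IsMaximal] [CharP (ResField M) 2] in
theorem inf_centralizer_pow (h : Sd D x s q) {u : G} (hu : u ∈ Subgroup.zpowers x)
    (ho : 2 < orderOf u) : D ⊓ Subgroup.centralizer ({u} : Set G) = Subgroup.zpowers x := by
  refine le_antisymm (fun d hd => ?_) (le_inf h.zpowers_le ?_)
  · obtain ⟨hdD, hdK⟩ := hd
    by_contra hdx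
    obtain ⟨i, hi, rfl⟩ := h.exists_pow hu
    rcases h.commute_out hdD hdx (h.pow_mem_D i)
      (Subgroup.mem_centralizer_singleton_iff.1 hdK).symm with h1 | h1 | h1 | h1
    · rw [h1, orderOf_one] at ho
      omega
    · rw [h1, h.orderOf_z] at ho
      omega
    · exact hdx ((inv_mem_iff).1 (h1 ▸ Subgroup.npow_mem_zpowers x i))
    · exact hdx ((inv_mem_iff).1 ((Subgroup.mul_mem_cancel_left _
        (Subgroup.npow_mem_zpowers x q)).1 (h1 ▸ Subgroup.npow_mem_zpowers x i)))
  · obtain ⟨k, rfl⟩ := Subgroup.mem_zpowers_iff.1 hu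
    exact Subgroup.zpowers_le.2
      (Subgroup.mem_centralizer_singleton_iff.2 (Commute.zpow_right (Commute.refl x) k))

omit [M.IsMaximal] [CharP (ResField M) 2] in
theorem card_inf_centralizer_out (h : Sd D x s q) {v : G} (hv : v ∈ D)
    (hvx : v ∉ Subgroup.zpowers x) :
    Nat.card (D ⊓ Subgroup.centralizer ({v} : Set G) : Subgroup G) = 4 := by
  set A : Subgroup G := D ⊓ Subgroup.centralizer ({v} : Set G) with hA
  haveI : Fintype A := Fintype.ofFinite A
  let T : Finset G := Finset.univ.image fun a : A => (a : G)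
  have hT : T.card = Nat.card A := by
    rw [Finset.card_image_of_injective _ Subtype.val_injective, Finset.card_univ,
      Nat.card_eq_fintype_card]
  have hle : T.card ≤ 4 := by
    refine (Finset.card_le_card (t := {1, x ^ q, v⁻¹, x ^ q * v⁻¹}) fun d hd => ?_).trans
      Finset.card_le_four
    obtain ⟨a, -, rfl⟩ := Finset.mem_image.1 hd
    simp only [Finset.mem_insert, Finset.mem_singleton]
    exact h.commute_out hv hvx a.2.1 (Subgroup.mem_centralizer_singleton_iff.1 a.2.2)
  have hge : 3 ≤ T.card := by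
    have hmem : ∀ d ∈ A, d ∈ T := fun d hd => Finset.mem_image.2 ⟨⟨d, hd⟩, Finset.mem_univ _, rfl⟩
    have hsub : ({1, x ^ q, v} : Finset G) ⊆ T := by
      intro d hd
      simp only [Finset.mem_insert, Finset.mem_singleton] at hd
      refine hmem d ?_
      rcases hd with rfl | rfl | rfl
      · exact one_mem _
      · exact ⟨h.pow_mem_D q, Subgroup.mem_centralizer_singleton_iff.2 (h.z_comm hv).symm⟩
      · exact ⟨hv, Subgroup.mem_centralizer_singleton_iff.2 rfl⟩
    refine le_trans (le_of_eq ?_) (Finset.card_le_card hsub)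
    refine (Finset.card_eq_three.2 ⟨_, _, _, h.z_ne_one.symm, ?_, ?_, rfl⟩).symm
    · rintro h1
      exact hvx (h1 ▸ one_mem _)
    · rintro h1
      exact hvx (h1 ▸ Subgroup.npow_mem_zpowers x q)
  obtain ⟨t, ht⟩ := h.isPow
  obtain ⟨j, -, hj⟩ := (Nat.dvd_prime_pow Nat.prime_two).1
    (show Nat.card A ∣ 2 ^ (t + 2) by
      have h1 := Subgroup.card_dvd_of_le (inf_le_left : A ≤ D)
      rwa [h.card, ht, show 4 * 2 ^ t = 2 ^ (t + 2) by ring] at h1)
  rw [hT, hj] at hle hge
  rw [hj]
  have : j < 3 := by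
    by_contra hcon
    have := Nat.pow_le_pow_right two_pos (show 3 ≤ j by omega)
    omega
  interval_cases j <;> omega

/-- At an element of order greater than two of the cyclic part the block has rank one. -/
theorem cyclic_block (hM : IsPModular 2 M) (h : Sd D x s q) (hP : PairOf 2 E D e)
    (hno : NoExt 2 D e) {u : G} (hu : u ∈ Subgroup.zpowers x) (ho : 2 < orderOf u)
    {b : Set (IrrCharacter (Subgroup.centralizer ({u} : Set G)))} (hb : IsPBlock M b)
    (hbe : eIn hb = below D e u) :
    blockRank 2 b = 1 ∧ 2 ^ blockDefect 2 b = 2 * q := by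
  have hKC : Subgroup.centralizer ({u} : Set G) =
      Subgroup.centralizer (Subgroup.zpowers u : Set G) := centralizer_zpowers_eq u
  have hle := sle_below hP.pair (h.zpowers_le hu)
  rw [← hbe] at hle
  obtain ⟨E₀, hE₀⟩ := exists_maxIn hM hb
  obtain ⟨w, hw, hmw⟩ := exists_conj_maxIn hP hno hle
    (hKC ▸ Subgroup.centralizer_le_normalizer _) hKC.ge
    (isBlockIdem_eIn hb).mem.fixed hE₀
  have hvD : w * u * w⁻¹ ∈ D := hw.le (Subgroup.mem_map_of_mem _ (Subgroup.mem_zpowers u))
  have hord : orderOf (w * u * w⁻¹) = orderOf u := MulEquiv.orderOf_eq (MulAut.conj w) u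
  rw [(centralizer_conj_singleton w u).symm] at hmw
  have hm0 := hmw.conj w⁻¹
  rw [centralizer_conj_singleton w u, conjSub_conjSub, inv_mul_cancel, conjSub_one,
    conjA_inv_conjA, ← centralizer_conj_singleton w u] at hm0
  have hxK : Subgroup.zpowers x ≤ Subgroup.centralizer ({u} : Set G) :=
    (h.inf_centralizer_pow hu ho).ge.trans inf_le_right
  have hvx : w * u * w⁻¹ ∈ Subgroup.zpowers x := by
    by_contra hvx
    obtain ⟨g, hg⟩ := ns_of_sle hP.pair hle (Subgroup.zpowers_le.2 hu) h.zpowers_le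
      (hxK.trans (hKC ▸ Subgroup.centralizer_le_normalizer _))
    have hne : trunc (Subgroup.zpowers x) (eIn hb) ≠ 0 := fun h0 => by
      have h1 := hg.br
      rw [h0, zero_mul] at h1
      exact hg.pairP.block.ne_zero h1.symm
    obtain ⟨y, -, hy⟩ := hm0.max _ hxK h.isPGroup hne
    have h1 := Nat.le_of_dvd Nat.card_pos (Subgroup.card_dvd_of_le hy)
    rw [conjSub, conjSub, Subgroup.card_map_of_injective (MulAut.conj y).injective,
      Subgroup.card_map_of_injective (MulAut.conj w⁻¹).injective,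
      h.card_inf_centralizer_out hvD hvx, Nat.card_zpowers, h.order] at h1
    have := h.four_le
    omega
  rw [h.inf_centralizer_pow hvx (hord ▸ ho), CfsgLib.BlockRank.conjSub_zpowers] at hm0
  have hdef := isDefectGroup_subgroupOf hM hb hm0
  haveI : IsCyclic ((Subgroup.zpowers (w⁻¹ * x * (w⁻¹)⁻¹)).subgroupOf
      (Subgroup.centralizer ({u} : Set G))) :=
    (Subgroup.subgroupOfEquivOfLe hm0.le).isCyclic.2 inferInstance
  refine ⟨blockRank_one_of_cyclic hM hb hdef, ?_⟩
  haveI := Fintype.ofFinite (Subgroup.centralizer ({u} : Set G))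
  rw [← card_defectGroup hM hb hdef,
    Nat.card_congr (Subgroup.subgroupOfEquivOfLe hm0.le).toEquiv, Nat.card_zpowers,
    show w⁻¹ * x * (w⁻¹)⁻¹ = MulAut.conj w⁻¹ x from rfl, MulEquiv.orderOf_eq, h.order]

/-- At an element outside the cyclic part and not fused into it the block has rank one. -/
theorem out_block (hM : IsPModular 2 M) (h : Sd D x s q) (hP : PairOf 2 E D e)
    (hno : NoExt 2 D e) {u : G} (huD : u ∈ D)
    (hout : ∀ v, Fus 2 D e u v → v ∉ Subgroup.zpowers x)
    (hcase : orderOf u = 4 ∨ ∀ c : G, c * x ^ q = x ^ q * c)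
    {b : Set (IrrCharacter (Subgroup.centralizer ({u} : Set G)))} (hb : IsPBlock M b)
    (hbe : eIn hb = below D e u) :
    blockRank 2 b = 1 ∧ 2 ^ blockDefect 2 b = 4 := by
  have hKC : Subgroup.centralizer ({u} : Set G) =
      Subgroup.centralizer (Subgroup.zpowers u : Set G) := centralizer_zpowers_eq u
  have hle := sle_below hP.pair huD
  rw [← hbe] at hle
  obtain ⟨E₀, hE₀⟩ := exists_maxIn hM hb
  obtain ⟨w, hw, hmw⟩ := exists_conj_maxIn hP hno hle
    (hKC ▸ Subgroup.centralizer_le_normalizer _) hKC.ge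
    (isBlockIdem_eIn hb).mem.fixed hE₀
  have hvD : w * u * w⁻¹ ∈ D := hw.le (Subgroup.mem_map_of_mem _ (Subgroup.mem_zpowers u))
  rw [CfsgLib.BlockRank.conjSub_zpowers] at hw
  have hvx : w * u * w⁻¹ ∉ Subgroup.zpowers x := hout _ ⟨w, _, hle, rfl, hw⟩
  rw [(centralizer_conj_singleton w u).symm] at hmw
  have hm0 := hmw.conj w⁻¹
  rw [centralizer_conj_singleton w u, conjSub_conjSub, inv_mul_cancel, conjSub_one,
    conjA_inv_conjA, ← centralizer_conj_singleton w u] at hm0
  have hdef := isDefectGroup_subgroupOf hM hb hm0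
  have hcard : 2 ^ blockDefect 2 b = 4 := by
    haveI := Fintype.ofFinite (Subgroup.centralizer ({u} : Set G))
    rw [← card_defectGroup hM hb hdef,
      Nat.card_congr (Subgroup.subgroupOfEquivOfLe hm0.le).toEquiv, conjSub,
      Subgroup.card_map_of_injective (MulAut.conj w⁻¹).injective,
      h.card_inf_centralizer_out hvD hvx]
  refine ⟨blockRank_eq_one_of_central hM hb hdef ?_, hcard⟩
  intro a ha
  rw [Subgroup.mem_center_iff]
  intro c
  have hcu : (c : G) * u = u * c := Subgroup.mem_centralizer_singleton_iff.1 c.2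
  have hcz : (c : G) * (w⁻¹ * x ^ q * w) = w⁻¹ * x ^ q * w * c := by
    rcases hcase with ho | hz
    · have h4 : w⁻¹ * x ^ q * w = u * u := by
        obtain ⟨i, hi⟩ := h.exists_out hvD hvx
        have hodd : Odd i := by
          rcases Nat.even_or_odd i with he | he
          · have h2 := (h.orderOf_out i).1 he
            rw [← hi, show w * u * w⁻¹ = MulAut.conj w u from rfl, MulEquiv.orderOf_eq, ho] at h2
            omega
          · exact he
        have h5 := (h.sq_out i).2 hodd
        rw [← hi] at h5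
        rw [← h5]
        group
      rw [h4, ← mul_assoc, hcu, mul_assoc, hcu, mul_assoc]
    · rw [mul_assoc w⁻¹, ← hz w, inv_mul_cancel_left]
      exact hz c
  obtain ⟨d, hd, hda⟩ := ha
  have had : ((a : G)) = w⁻¹ * d * w := by
    have : (MulAut.conj w⁻¹) d = (a : G) := hda
    rw [← this, MulAut.conj_apply, inv_inv]
  have hcom : (c : G) * a = a * c := by
    rcases h.commute_out hvD hvx hd.1 (Subgroup.mem_centralizer_singleton_iff.1 hd.2) with
      h1 | h1 | h1 | h1 <;> rw [had, h1]
    · group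
    · exact hcz
    · rw [show w⁻¹ * (w * u * w⁻¹)⁻¹ * w = u⁻¹ by group]
      exact ((show Commute (c : G) u from hcu).inv_right)
    · rw [show w⁻¹ * (x ^ q * (w * u * w⁻¹)⁻¹) * w = w⁻¹ * x ^ q * w * u⁻¹ by group]
      exact ((show Commute (c : G) _ from hcz).mul_right
        ((show Commute (c : G) u from hcu).inv_right))
  exact Subtype.ext hcom

/-- The block at the central involution in its centralizer. -/
theorem central_pair (hM : IsPModular 2 M) (h : Sd D x s q) (hP : PairOf 2 E D e)
    (hno : NoExt 2 D e)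
    {b : Set (IrrCharacter (Subgroup.centralizer ({x ^ q} : Set G)))} (hb : IsPBlock M b)
    (hbe : eIn hb = below D e (x ^ q)) :
    ∃ hDC : D ≤ Subgroup.centralizer ({x ^ q} : Set G),
      Sd (D.subgroupOf (Subgroup.centralizer ({x ^ q} : Set G)))
          (⟨x, hDC h.mem_x⟩ : Subgroup.centralizer ({x ^ q} : Set G)) ⟨s, hDC h.mem_s⟩ q ∧
        PairOf 2 (ebar hb) (D.subgroupOf (Subgroup.centralizer ({x ^ q} : Set G)))
          (Blocks.Pairs.down (Subgroup.centralizer ({x ^ q} : Set G)) e) ∧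
        NoExt 2 (D.subgroupOf (Subgroup.centralizer ({x ^ q} : Set G)))
          (Blocks.Pairs.down (Subgroup.centralizer ({x ^ q} : Set G)) e) ∧
        2 ^ blockDefect 2 b = 4 * q := by
  have hDC : D ≤ Subgroup.centralizer ({x ^ q} : Set G) := fun d hd =>
    Subgroup.mem_centralizer_singleton_iff.2 (h.z_comm hd)
  have hle := sle_below hP.pair (h.pow_mem_D q)
  rw [← hbe] at hle
  obtain ⟨h1, h2⟩ := local_pair_central_eq (centralizer_zpowers_eq (x ^ q)) hP hno hDC hle
  rw [show Blocks.Pairs.down (Subgroup.centralizer ({x ^ q} : Set G)) (eIn hb) = ebar hb by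
    rw [eIn, down_up]] at h1
  haveI := Fintype.ofFinite (Subgroup.centralizer ({x ^ q} : Set G))
  refine ⟨hDC, h.down hDC, h1, h2, ?_⟩
  rw [← card_defectGroup hM hb ((isDefectGroup_iff_maxR hM hb).2 (maxR_of_noExt h1 h2)),
    Nat.card_congr (Subgroup.subgroupOfEquivOfLe hDC).toEquiv, h.card]

omit [M.IsMaximal] [CharP (ResField M) 2] in
theorem central_mem (h : Sd D x s q) (hDC : D ≤ Subgroup.centralizer ({x ^ q} : Set G))
    (c : Subgroup.centralizer ({x ^ q} : Set G)) :
    c * (⟨x, hDC h.mem_x⟩ : Subgroup.centralizer ({x ^ q} : Set G)) ^ q =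
      (⟨x, hDC h.mem_x⟩ : Subgroup.centralizer ({x ^ q} : Set G)) ^ q * c := by
  apply Subtype.ext
  simpa using Subgroup.mem_centralizer_singleton_iff.1 c.2

/-- The fusion of the elements of order four is seen in the centralizer of the involution. -/
theorem fus_four_down (h : Sd D x s q) (hP : PairOf 2 E D e)
    (hDC : D ≤ Subgroup.centralizer ({x ^ q} : Set G))
    (hf : Fus 2 D e (x ^ (q / 2)) (s * x)) :
    Fus 2 (D.subgroupOf (Subgroup.centralizer ({x ^ q} : Set G)))
      (Blocks.Pairs.down (Subgroup.centralizer ({x ^ q} : Set G)) e)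
      ((⟨x, hDC h.mem_x⟩ : Subgroup.centralizer ({x ^ q} : Set G)) ^ (q / 2))
      (⟨s, hDC h.mem_s⟩ * ⟨x, hDC h.mem_x⟩) := by
  have hC : ∀ u : G, u * u = x ^ q →
      Subgroup.centralizer ({u} : Set G) ≤ Subgroup.centralizer ({x ^ q} : Set G) := by
    intro u hu c hc
    rw [Subgroup.mem_centralizer_singleton_iff] at hc ⊢
    rw [← hu, ← mul_assoc, hc, mul_assoc, hc, mul_assoc]
  have h1 := fus_down hP.pair hDC (h.pow_mem_D (q / 2)) h.y_mem (hC _ h.u4_sq) (hC _ h.y_sq)
    (fun g hg => by
      rw [Subgroup.mem_centralizer_singleton_iff]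
      have h2 : g * x ^ q * g⁻¹ = x ^ q := by
        rw [← h.u4_sq]
        calc g * (x ^ (q / 2) * x ^ (q / 2)) * g⁻¹ =
              (g * x ^ (q / 2) * g⁻¹) * (g * x ^ (q / 2) * g⁻¹) := by group
          _ = _ := by rw [hg, h.y_sq, h.u4_sq]
      exact mul_inv_eq_iff_eq_mul.1 h2) hf
  convert h1 using 1 <;> exact Subtype.ext (by simp)

/-- Without the fusion of the elements of order four the block at the central involution has rank
one. -/
theorem central_rank_one (hM : IsPModular 2 M) (h : Sd D x s q) (hP : PairOf 2 E D e)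
    (hno : NoExt 2 D e) (hz : ∀ c : G, c * x ^ q = x ^ q * c)
    (hF : ¬ Fus 2 D e (x ^ (q / 2)) (s * x)) {B : Set (IrrCharacter G)} (hB : IsPBlock M B)
    (hE : E = ebar hB) : blockRank 2 B = 1 := by
  subst hE
  exact (Cfsg.Agent.S4689.result 2 M hM B
    ((CfsgLib.Blk83.isNilpotentBlock_iff hM hB).2 (h.nilPairs hP hno hz hF))).1

end Sd

end CfsgLib.SdBlocks
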