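import Cfsg.Agent.Lib.SdBlocks.Local
import Cfsg.Agent.Lib.QuatBlocks.SecColumn
import Cfsg.Agent.Lib.Blk83.SubsectionWeight

/-!
# Subsections of rank one and their columns, up to fusion
-/

set_option autoImplicit false
set_option maxHeartbeats 1600000
set_option synthInstance.maxHeartbeats 400000

open scoped ComplexConjugate Classical
open Cfsg CfsgLib.Blocks CfsgLib.Blocks.Pairs CfsgLib.BlockRank CfsgLib.DihBlocks CfsgLib.QuatBlocks
open Polynomial

namespace CfsgLib.SdBlocks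

universe u

variable {G : Type u} [Group G] [Fintype G] {M : Ideal AlgInt} [M.IsMaximal]
  [CharP (ResField M) 2] {D : Subgroup G} {e : MonoidAlgebra (ResField M) G}
  {B : Set (IrrCharacter G)} {T : Finset (Sec G)} {φ : Sec G → G}

/-- Fused elements have the same column. -/
theorem col_fus {E : MonoidAlgebra (ResField M) G} (hP : PairOf 2 E D e) {u v : G}
    (hf : Fus 2 D e u v) (χ : IrrCharacter G) : col M D e v χ = col M D e u χ := by
  obtain ⟨g, f, h1, rfl, h2⟩ := hf
  have hu : u ∈ D := h1.le (Subgroup.mem_zpowers u)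
  have hv : g * u * g⁻¹ ∈ D := h2.le (Subgroup.mem_zpowers _)
  obtain rfl : f = below D e u := SLE.unique hP.pair h1 (sle_below hP.pair hu)
  rw [col, col, ← SLE.unique hP.pair h2 (sle_below hP.pair hv)]
  exact colOf_conjA (isBlockIdem_of_pairOf (pairOf_below hP hu)) g χ

theorem colNorm_fus [Fintype B] {E : MonoidAlgebra (ResField M) G} (hP : PairOf 2 E D e) {u v : G}
    (hf : Fus 2 D e u v) : colNorm M D e B v = colNorm M D e B u := by
  simp only [colNorm, col_fus hP hf]

/-- Columns at elements that are not fused are orthogonal. -/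
theorem sum_col_ne (hM : IsPModular 2 M) (hB : IsPBlock M B) [Fintype B]
    (hP : PairOf 2 (ebar hB) D e) {u v : G} (hu : u ∈ D) (hv : v ∈ D)
    (hne : ¬ Fus 2 D e u v) :
    ∑ χ ∈ B.toFinset, col M D e u χ * conj (col M D e v χ) = 0 :=
  sum_colOf_mul_conj hM hB (pairOf_below hP hu) (pairOf_below hP hv) fun t ht heq =>
    hne ⟨t, _, sle_below hP.pair hu, ht, heq ▸ sle_below hP.pair hv⟩

/-- A subsection has the rank of the block at any element fused to it. -/
theorem rank_fus {hB : IsPBlock M B} (hP : PairOf 2 (ebar hB) D e)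
    (hT : SecData 2 M B D e T φ) {s : Sec G} (hs : s ∈ T) {u : G} (hf : Fus 2 D e u (φ s))
    {b : Set (IrrCharacter (Subgroup.centralizer ({u} : Set G)))} (hb : IsPBlock M b)
    (hbe : eIn hb = below D e u) : blockRank 2 s.2 = blockRank 2 b := by
  obtain ⟨g, hbs, hg, hbelow⟩ := hT.below_eq hP hs
  obtain ⟨k, f, h1, hk, h2⟩ := hf.symm
  obtain rfl : f = below D e (φ s) := SLE.unique hP.pair h1 (sle_below hP.pair (hT.mem s hs))
  have h3 : conjA (k * g) (eIn hbs) = below D e u := by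
    rw [← conjA_conjA, hbelow]
    exact SLE.unique hP.pair h2 (sle_below hP.pair (h2.le (Subgroup.mem_zpowers u)))
  have h4 : k * g * s.1 * (k * g)⁻¹ = u := by rw [← hk, ← hg]; group
  rw [← Watanabe.rk_eq (p := 2) hbs rfl, ← Watanabe.rk_conj (k * g) (isBlockIdem_eIn hbs),
    ← centralizer_conj_singleton, h3, Watanabe.rk_congr (by rw [h4]), Watanabe.rk_eq hb hbe]

/-- The local block at `u` has rank one. -/
def RankOneAt (M : Ideal AlgInt) [M.IsMaximal] (D : Subgroup G)
    (e : MonoidAlgebra (ResField M) G) (u : G) : Prop :=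
  ∀ (b : Set (IrrCharacter (Subgroup.centralizer ({u} : Set G)))) (hb : IsPBlock M b),
    eIn hb = below D e u → blockRank 2 b = 1

theorem sec_rank_one {hB : IsPBlock M B} (hP : PairOf 2 (ebar hB) D e)
    (hT : SecData 2 M B D e T φ) {s : Sec G} (hs : s ∈ T) {u : G} (hf : Fus 2 D e u (φ s))
    (hl : RankOneAt M D e u) : blockRank 2 s.2 = 1 := by
  obtain ⟨g, f, h1, -, -⟩ := id hf
  obtain ⟨b, hb, hbe⟩ := exists_eIn_eq
    (isBlockIdem_of_pairOf (pairOf_below hP (h1.le (Subgroup.mem_zpowers u))))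
  rw [rank_fus hP hT hs hf hb hbe, hl b hb hbe]

/-- The contributions of a subsection through the column at an element fused to it. -/
theorem contrib_fus (hM : IsPModular 2 M) [Fintype B] {hB : IsPBlock M B}
    (hP : PairOf 2 (ebar hB) D e) (hT : SecData 2 M B D e T φ) {s : Sec G} (hs : s ∈ T) {u : G}
    (hf : Fus 2 D e u (φ s)) (hl : RankOneAt M D e u) (d : ℕ) (χ ψ : IrrCharacter G) :
    contrib 2 d s.1 s.2 χ ψ * colNorm M D e B u =
      ((2 ^ d : ℕ) : ℂ) * (col M D e u χ * conj (col M D e u ψ)) := by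
  obtain ⟨g, hb, hg, hbelow⟩ := hT.below_eq hP hs
  have hval : ∀ θ : IrrCharacter G, col M D e u θ =
      blockPart s.2 (fun c : Subgroup.centralizer ({s.1} : Set G) => (θ : G → ℂ) (s.1 * c)) 1 := by
    intro θ
    rw [← col_fus hP hf, col, ← hg, show below D e (g * s.1 * g⁻¹) = conjA g (eIn hb) by
      rw [hg, hbelow], colOf_conjA (isBlockIdem_eIn hb), colOf_eq_blockPart hb]
  simp only [colNorm, hval]
  exact contrib_rankOne hM rfl (hT.pelem s hs) (hT.induced s hs)
    (sec_rank_one hP hT hs hf hl) d χ ψ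

omit [M.IsMaximal] [CharP (ResField M) 2] in
theorem contrib_self_nonneg (d : ℕ) (z : G) (C : Subgroup G) [Fintype C]
    (b : Set (IrrCharacter C)) (χ : IrrCharacter G) :
    0 ≤ (contrib 2 d z b χ χ).re := by
  rw [Blk83.contrib_self_eq, Complex.ofReal_re]
  exact mul_nonneg (pow_nonneg (Nat.cast_nonneg _) _) (Blk83.subWeight_nonneg _ _ _ _)

/-- The contributions of a subsection are orthogonal to the columns at the other subsections. -/
theorem sum_contrib_col_ne (hM : IsPModular 2 M) [Fintype B] {hB : IsPBlock M B}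
    (hP : PairOf 2 (ebar hB) D e) (hT : SecData 2 M B D e T φ) {s : Sec G} (hs : s ∈ T) {u : G}
    (hu : u ∈ D) (hne : ¬ Fus 2 D e u (φ s)) (hl : RankOneAt M D e u) (d : ℕ)
    (ψ : IrrCharacter G) :
    ∑ χ ∈ B.toFinset, contrib 2 d s.1 s.2 χ ψ * conj (col M D e u χ) = 0 := by
  obtain ⟨t, ht, hft⟩ := hT.surj u hu
  have hst : s ≠ t := fun h => hne (h ▸ hft)
  have hN := colNorm_ne_zero hM hB hP hu
  obtain ⟨ψ', -, hψ'⟩ := Finset.exists_ne_zero_of_sum_ne_zero hN
  have h0 := hT.orth hM hs ht hst d ψ ψ'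
  have hform : ∀ χ, conj (contrib 2 d t.1 t.2 χ ψ') = conj ((((2 ^ d : ℕ) : ℂ) *
      (col M D e u χ * conj (col M D e u ψ'))) / colNorm M D e B u) := fun χ => by
    rw [← contrib_fus hM hP hT ht hft hl d χ ψ', mul_div_cancel_right₀ _ hN]
  simp only [hform, map_div₀, map_mul, map_natCast, Complex.conj_conj] at h0
  have hc : ((2 ^ d : ℕ) : ℂ) * col M D e u ψ' / conj (colNorm M D e B u) ≠ 0 :=
    div_ne_zero (mul_ne_zero (Nat.cast_ne_zero.2 (pow_ne_zero _ two_ne_zero))
      (left_ne_zero_of_mul hψ')) ((_root_.map_ne_zero _).2 hN)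
  refine (mul_eq_zero.1 ?_).resolve_left hc
  rw [Finset.mul_sum, ← h0]
  exact Finset.sum_congr rfl fun χ _ => by ring

/-- The contributions of a subsection against its own column. -/
theorem sum_contrib_col_self (hM : IsPModular 2 M) [Fintype B] {hB : IsPBlock M B}
    (hP : PairOf 2 (ebar hB) D e) (hT : SecData 2 M B D e T φ) {s : Sec G} (hs : s ∈ T) {u : G}
    (hu : u ∈ D) (hf : Fus 2 D e u (φ s)) (hl : RankOneAt M D e u) (d : ℕ) (ψ : IrrCharacter G) :
    ∑ χ ∈ B.toFinset, contrib 2 d s.1 s.2 χ ψ * conj (col M D e u χ) =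
      ((2 ^ d : ℕ) : ℂ) * conj (col M D e u ψ) := by
  have hN := colNorm_ne_zero hM hB hP hu
  refine mul_right_cancel₀ hN ?_
  rw [Finset.sum_mul, Finset.sum_congr rfl fun χ _ =>
    show contrib 2 d s.1 s.2 χ ψ * conj (col M D e u χ) * colNorm M D e B u =
      ((2 ^ d : ℕ) : ℂ) * conj (col M D e u ψ) * (col M D e u χ * conj (col M D e u χ)) by
      rw [mul_right_comm, contrib_fus hM hP hT hs hf hl d χ ψ]; ring, ← Finset.mul_sum]
  rfl

/-- What is known about the columns at the generators of `⟨u⟩`. -/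
structure Orb (M : Ideal AlgInt) [M.IsMaximal] (B : Set (IrrCharacter G)) [Fintype B]
    (D : Subgroup G) (e : MonoidAlgebra (ResField M) G) (u : G) (ζ : ℂ) (m : ℕ) where
  deg : ℕ
  deg_pos : 0 < deg
  poly : IrrCharacter G → ℤ[X]
  value : ∀ (χ : IrrCharacter G) (t : ℕ), Odd t →
    col M D e (u ^ t) χ = (deg : ℂ) * aeval (ζ ^ t) (poly χ)
  norm : ∀ t : ℕ, Odd t → colNorm M D e B (u ^ t) = (deg : ℂ) ^ 2 * (m : ℂ)
  parity : ∀ χ ∈ B, (charDegree (χ : G → ℂ)).factorization 2 = CfsgLib.BlockReg.minExp 2 B →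
    ¬ (2 : ℤ) ∣ (poly χ).eval 1

/-- The columns at the generators of `⟨u⟩` when the local block has rank one. -/
theorem exists_orb (hM : IsPModular 2 M) [Fintype B] (hB : IsPBlock M B)
    (hP : PairOf 2 (ebar hB) D e) {u : G} (huD : u ∈ D) {ζ : ℂ}
    (hζ : IsPrimitiveRoot ζ (orderOf u)) {m₀ : ℕ}
    (hloc : ∀ (b : Set (IrrCharacter (Subgroup.centralizer ({u} : Set G)))) (hb : IsPBlock M b),
      eIn hb = below D e u → blockRank 2 b = 1 ∧ 2 ^ blockDefect 2 b = m₀) :
    Nonempty (Orb M B D e u ζ m₀) := by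
  have hpair := DihBlocks.pairOf_below hP huD
  obtain ⟨b, hb, hbe, hind⟩ := exists_induced hM hB hpair
  haveI := Fintype.ofFinite (Subgroup.centralizer ({u} : Set G))
  haveI := Fintype.ofFinite b
  obtain ⟨hl, hm₀⟩ := hloc b hb hbe
  obtain ⟨φ₀, nc, d, hφ₀, hdd, hsum⟩ := exists_rankOne_data hM hb hl
  have h1 : IsPRegular 2 (1 : (Subgroup.centralizer ({u} : Set G))) := by simp [IsPRegular]
  obtain ⟨φ₁, hφ₁⟩ := CfsgLib.BlockReg.block_nonempty hM hb
  -- the degree
  obtain ⟨g, hg⟩ : ∃ g : ℤ, φ₀ 1 = (g : ℂ) :=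
    ⟨∑ ψ ∈ b.toFinset, nc ψ * (charDegree (ψ : (Subgroup.centralizer ({u} : Set G)) → ℂ) : ℤ), by
      rw [hφ₀]
      push_cast
      exact Finset.sum_congr rfl fun ψ _ => by rw [CfsgLib.BlockReg.deg_cast]⟩
  have hgdeg : ∀ φ ∈ b, (charDegree (φ : (Subgroup.centralizer ({u} : Set G)) → ℂ) : ℤ) =
      (d φ : ℤ) * g := fun φ hφ => by
    have h2 : (charDegree (φ : (Subgroup.centralizer ({u} : Set G)) → ℂ) : ℂ) =
        (d φ : ℂ) * φ₀ 1 := by rw [CfsgLib.BlockReg.deg_cast]; exact hdd φ hφ 1 h1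
    rw [hg] at h2
    exact_mod_cast h2
  have hgpos : 0 < g := by
    have h2 := hgdeg φ₁ hφ₁
    have h3 := CfsgLib.BlockReg.deg_pos φ₁
    nlinarith [Int.natCast_nonneg (d φ₁)]
  obtain ⟨γ, rfl⟩ : ∃ γ : ℕ, g = γ := ⟨g.toNat, (Int.toNat_of_nonneg hgpos.le).symm⟩
  have hgdeg' : ∀ φ ∈ b,
      charDegree (φ : (Subgroup.centralizer ({u} : Set G)) → ℂ) = d φ * γ := fun φ hφ => by
    exact_mod_cast hgdeg φ hφ
  have hγ : 0 < γ := by exact_mod_cast hgpos
  rw [Int.cast_natCast] at hg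
  -- some multiplicity is odd
  have hnd : ∑ ψ ∈ b.toFinset, nc ψ * (d ψ : ℤ) = 1 := by
    refine mul_right_cancel₀ (b := (γ : ℤ)) (by exact_mod_cast hγ.ne') ?_
    rw [one_mul, Finset.sum_mul]
    have h2 : ((∑ ψ ∈ b.toFinset, nc ψ * (d ψ : ℤ) * (γ : ℤ) : ℤ) : ℂ) = ((γ : ℤ) : ℂ) := by
      rw [Int.cast_natCast, ← hg, hφ₀, Int.cast_sum]
      refine Finset.sum_congr rfl fun ψ hψ => ?_
      rw [← CfsgLib.BlockReg.deg_cast, hgdeg' ψ (Set.mem_toFinset.1 hψ)]
      push_cast
      ring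
    exact_mod_cast h2
  obtain ⟨φ₂, hφ₂, hodd⟩ : ∃ φ ∈ b, ¬ 2 ∣ d φ := by
    by_contra hcon
    push Not at hcon
    have : (2 : ℤ) ∣ ∑ ψ ∈ b.toFinset, nc ψ * (d ψ : ℤ) := Finset.dvd_sum fun ψ hψ =>
      Dvd.dvd.mul_left (Int.natCast_dvd_natCast.2 (hcon ψ (Set.mem_toFinset.1 hψ))) _
    rw [hnd] at this
    norm_num at this
  have hfacd : ∀ φ ∈ b,
      (charDegree (φ : (Subgroup.centralizer ({u} : Set G)) → ℂ)).factorization 2 =
        (d φ).factorization 2 + γ.factorization 2 := fun φ hφ => by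
    have hd0 : d φ ≠ 0 := fun h0 => (CfsgLib.BlockReg.deg_pos φ).ne'
      (by rw [hgdeg' φ hφ, h0, zero_mul])
    rw [hgdeg' φ hφ, Nat.factorization_mul hd0 hγ.ne', Finsupp.add_apply]
  have hmin : γ.factorization 2 = CfsgLib.BlockReg.minExp 2 b := by
    obtain ⟨φ₃, hφ₃, hm⟩ := CfsgLib.BlockReg.exists_minExp (p := 2) ⟨φ₁, hφ₁⟩
    refine le_antisymm ?_ ?_
    · rw [← hm, hfacd φ₃ hφ₃]
      exact Nat.le_add_left _ _
    · refine (CfsgLib.BlockReg.minExp_le hφ₂).trans ?_
      rw [hfacd φ₂ hφ₂, Nat.factorization_eq_zero_of_not_dvd hodd, zero_add]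
  -- multiplicities
  choose m i hmi using fun χ : IrrCharacter G =>
    exists_blockPart_translate (G := G) (C := (Subgroup.centralizer ({u} : Set G))) (x := u) rfl
      hζ χ
  have huK : u ∈ (Subgroup.centralizer ({u} : Set G)) :=
    Subgroup.mem_centralizer_singleton_iff.2 rfl
  have hz : (⟨u, huK⟩ : (Subgroup.centralizer ({u} : Set G))) ∈
      Subgroup.center (Subgroup.centralizer ({u} : Set G)) := by
    rw [Subgroup.mem_center_iff]
    exact fun c => Subtype.ext (Subgroup.mem_centralizer_singleton_iff.mp c.2)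
  choose ι hι using exists_central_root (G := (Subgroup.centralizer ({u} : Set G)))
    (n := orderOf u) (ζ := ζ) (orderOf_pos u) hζ hz
    (Subtype.ext (by rw [SubgroupClass.coe_pow]; exact pow_orderOf_eq_one u))
  have hpow : ∀ (φ : IrrCharacter (Subgroup.centralizer ({u} : Set G))) (k : ℕ)
      (c : (Subgroup.centralizer ({u} : Set G))),
      (φ : (Subgroup.centralizer ({u} : Set G)) → ℂ)
        ((⟨u, huK⟩ : (Subgroup.centralizer ({u} : Set G))) ^ k * c) =
          ζ ^ (k * ι φ) * (φ : (Subgroup.centralizer ({u} : Set G)) → ℂ) c := by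
    intro φ k
    induction k with
    | zero => simp
    | succ k ih =>
      intro c
      rw [pow_succ', mul_assoc, hι, ih, Nat.succ_mul, pow_add]
      ring
  have hgen : ∀ t : ℕ, Odd t → Subgroup.zpowers (u ^ t) = Subgroup.zpowers u := by
    intro t ht
    obtain ⟨k, hk⟩ := exists_orderOf_of_isPGroup hpair.pair.pgroup
    refine Subgroup.eq_of_le_of_card_ge (Subgroup.zpowers_le.2 (Subgroup.npow_mem_zpowers u t)) ?_
    rw [Nat.card_zpowers, Nat.card_zpowers, Nat.Coprime.orderOf_pow (hk ▸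
      Nat.Coprime.pow_left k (Nat.coprime_two_left.2 ht))]
  have hcen : ∀ t : ℕ, Odd t → Subgroup.centralizer ({u} : Set G) =
      Subgroup.centralizer ({u ^ t} : Set G) := fun t ht => by
    rw [centralizer_zpowers_eq, centralizer_zpowers_eq, hgen t ht]
  have hbel : ∀ t : ℕ, Odd t → DihBlocks.below D e (u ^ t) = eIn hb := fun t ht => by
    rw [hbe]
    simp only [DihBlocks.below, hgen t ht]
  have hnorm : ∀ t : ℕ, Odd t → colNorm M D e B (u ^ t) =
      (Nat.card (Subgroup.centralizer ({u} : Set G)) : ℂ) *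
        (exactIn (Subgroup.centralizer ({u} : Set G)) b).coeff 1 := by
    intro t ht
    have hp := DihBlocks.pairOf_below hP (pow_mem huD t)
    rw [hbel t ht] at hp
    simp only [colNorm, col, hbel t ht]
    exact sum_colOf_self_eq hM hB hp (hcen t ht) hb rfl
  refine ⟨⟨γ, hγ,
    fun χ => ∑ φ ∈ b.toFinset, Polynomial.C ((m χ φ : ℤ) * (d φ : ℤ)) * X ^ ι φ,
    fun χ t ht => ?_, fun t ht => ?_, fun χ hχ hh => ?_⟩⟩
  · rw [col, hbel t ht, colOf_eq_colVal (hcen t ht) hb χ, colVal, ← Finset.sum_subset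
      (Finset.subset_univ
        (Finset.univ.filter fun c => c ∈ (Subgroup.centralizer ({u} : Set G))))
      (fun c _ hc => by
        have : c ∉ (Subgroup.centralizer ({u} : Set G)) := fun hh =>
          hc (Finset.mem_filter.2 ⟨Finset.mem_univ _, hh⟩)
        simp only [exactIn, coeff_ofFun, subgroupBlockCoeff, dif_neg this, zero_mul]),
      Finset.sum_subtype (Finset.univ.filter fun c => c ∈ (Subgroup.centralizer ({u} : Set G)))
        (p := fun c => c ∈ (Subgroup.centralizer ({u} : Set G)))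
        (F := (inferInstance : Fintype (Subgroup.centralizer ({u} : Set G)))) (fun c => by simp)]
    have hterm : ∀ c : (Subgroup.centralizer ({u} : Set G)), (χ : G → ℂ) (u ^ t * (c : G)) =
        ∑ φ : IrrCharacter (Subgroup.centralizer ({u} : Set G)), (m χ φ : ℂ) * ζ ^ (t * ι φ) *
          (φ : (Subgroup.centralizer ({u} : Set G)) → ℂ) (1 * c) := by
      intro c
      have h2 := (hmi χ).1 ((⟨u, huK⟩ : (Subgroup.centralizer ({u} : Set G))) ^ t * c)
      simp only [Subgroup.coe_mul, SubgroupClass.coe_pow] at h2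
      rw [h2]
      exact Finset.sum_congr rfl fun φ _ => by rw [hpow, one_mul, mul_assoc]
    simp only [exactIn, coeff_ofFun, subgroupBlockCoeff, SetLike.coe_mem, dite_true,
      Subtype.coe_eta, hterm, Finset.mul_sum]
    rw [Finset.sum_comm]
    simp only [map_sum, map_mul, aeval_X_pow, map_intCast, eq_intCast, Finset.mul_sum]
    refine (Finset.sum_congr rfl fun φ _ => ?_).trans
      (Finset.sum_subset (Finset.subset_univ b.toFinset)
        (f := fun φ => (m χ φ : ℂ) * ζ ^ (t * ι φ) *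
          (blockInd b φ * (φ : (Subgroup.centralizer ({u} : Set G)) → ℂ) 1))
        fun φ _ hφ => by
          have : φ ∉ b := fun hh => hφ (Set.mem_toFinset.2 hh)
          simp [blockInd, this]).symm |>.trans (Finset.sum_congr rfl fun φ hφ => ?_)
    · rw [← omega_idemC b φ, ← sum_center_mul, Finset.mul_sum]
      refine Finset.sum_congr rfl fun c _ => ?_
      rw [coe_idemC, coeff_ofFun]
      ring
    · rw [blockInd, if_pos (Set.mem_toFinset.1 hφ), one_mul,
        hdd φ (Set.mem_toFinset.1 hφ) 1 h1, hg, pow_mul]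
      push_cast
      ring
  · rw [hnorm t ht]
    have h3 := sum_colOf_self hM hB (hbe.symm ▸ hpair) (hb := hb) (b := b)
    have h4 := hnorm 1 odd_one
    simp only [colNorm, col, hbel 1 odd_one, pow_one] at h4
    rw [← h4, ← hbe, h3, ← hm₀, ← hsum]
    push_cast
    rw [Finset.mul_sum]
    exact Finset.sum_congr rfl fun φ hφ => by
      rw [hgdeg' φ (Set.mem_toFinset.1 hφ)]; push_cast; ring
  · intro hdvd
    refine not_memIdeal_degree_blockPart hM hind hχ hh (m χ) (hmi χ).1 ?_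
    have hev : ((∑ φ ∈ b.toFinset,
        Polynomial.C ((m χ φ : ℤ) * (d φ : ℤ)) * X ^ ι φ).eval 1 : ℤ) =
        ∑ φ ∈ b.toFinset, (m χ φ : ℤ) * (d φ : ℤ) := by
      simp [Polynomial.eval_finsetSum]
    rw [hev] at hdvd
    have h3 : MemLocalIdeal M (((∑ φ ∈ b.toFinset, (m χ φ : ℤ) * (d φ : ℤ) : ℤ)) : ℂ) :=
      (CfsgLib.BlockReg.memIdeal_intCast_iff hM _).2 hdvd
    have h4 := CfsgLib.BlockReg.memIdeal_mul_right hM h3
      (CfsgLib.BlockReg.natCast_div_memRing hM (n := γ)
        (pow_ne_zero (CfsgLib.BlockReg.minExp 2 b) two_ne_zero) (Or.inr (by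
          rw [Nat.prime_two.factorization_pow, Finsupp.single_eq_same, hmin])))
    convert h4 using 1
    rw [Int.cast_sum, Finset.sum_mul]
    refine Finset.sum_congr rfl fun φ hφ => ?_
    rw [hgdeg' φ (Set.mem_toFinset.1 hφ)]
    push_cast
    ring

end CfsgLib.SdBlocks
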