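import Cfsg.Agent.Lib.SdBlocks.Transfer
import Cfsg.Agent.Lib.DihedralBlocks.ZColumn
import Cfsg.Agent.Lib.QuatBlocks.AMatrix
import Cfsg.Agent.Lib.DihedralBlocks.Count

/-!
# The data of a block with semidihedral defect group
-/

set_option autoImplicit false
set_option maxHeartbeats 1600000
set_option synthInstance.maxHeartbeats 400000

open scoped ComplexConjugate Classical
open Cfsg CfsgLib.Blocks CfsgLib.Blocks.Pairs CfsgLib.BlockRank CfsgLib.DihBlocks CfsgLib.QuatBlocks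

namespace CfsgLib.SdBlocks

universe u

variable {G : Type u} [Group G] [Fintype G] {M : Ideal AlgInt} [M.IsMaximal]
  [CharP (ResField M) 2] {B : Set (IrrCharacter G)} [Fintype B]

/-- A block with semidihedral defect group and everything chosen for it. -/
structure Out (M : Ideal AlgInt) [M.IsMaximal] [CharP (ResField M) 2]
    (B : Set (IrrCharacter G)) [Fintype B] where
  D : Subgroup G
  x : G
  s : G
  q : ℕ
  t : ℕ
  d : ℕ
  e : MonoidAlgebra (ResField M) G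
  T : Finset (Sec G)
  φ : Sec G → G
  ζ : ℂ
  hM : IsPModular 2 M
  hB : IsPBlock M B
  h : Sd D x s q
  hP : PairOf 2 (ebar hB) D e
  hno : NoExt 2 D e
  hT : SecData 2 M B D e T φ
  hq : q = 2 ^ t
  hζ : IsPrimitiveRoot ζ (2 * 2 ^ t)
  hd : 2 ^ d = 4 * q
  hdef : blockDefect 2 B = d

omit [Fintype B] in
/-- A semidihedral defect group gives the data. -/
theorem exists_out (hM : IsPModular 2 M) (hB : IsPBlock M B) [Fintype B] {D : Subgroup G} {x s : G}
    {q t : ℕ} (h : Sd D x s q) (hq : q = 2 ^ t) {e : MonoidAlgebra (ResField M) G}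
    (hP : PairOf 2 (ebar hB) D e) (hno : NoExt 2 D e) :
    ∃ O : Out M B, O.q = q ∧ O.t = t ∧ O.D = D ∧ O.x = x := by
  obtain ⟨T, φ, hT⟩ := exists_secData hM hB hP hno
  have hdef : 2 ^ blockDefect 2 B = 4 * q := by
    rw [← card_defectGroup hM hB ((isDefectGroup_iff_maxR hM hB).2 (maxR_of_noExt hP hno)), h.card]
  exact ⟨⟨D, x, s, q, t, blockDefect 2 B, e, T, φ, _, hM, hB, h, hP, hno, hT, hq,
    Complex.isPrimitiveRoot_exp (2 * 2 ^ t) (mul_ne_zero two_ne_zero (pow_ne_zero _ two_ne_zero)),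
    hdef, rfl⟩, rfl, rfl, rfl, rfl⟩

namespace Out

variable (O : Out M B)

theorem two_le_t : 2 ≤ O.t := by
  have h4 := O.h.four_le
  rw [O.hq] at h4
  by_contra hcon
  have := Nat.pow_le_pow_right two_pos (show O.t ≤ 1 by omega)
  omega

theorem two_pow_t : 2 ^ O.t = 2 * 2 ^ (O.t - 1) := by
  rw [← pow_succ', Nat.sub_add_cancel (by have := O.two_le_t; omega)]

theorem cast_two_pow : ((2 ^ O.d : ℕ) : ℂ) = 4 * 2 ^ O.t := by
  rw [O.hd, O.hq]
  push_cast
  rfl

theorem exists_L (k : ℕ) :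
    ∃ r : IrrCharacter G → ℕ → ℤ, 1 ≤ k → k ≤ O.t →
      ∃ L : Lvl M B O.D O.e O.x O.ζ O.t k, L.r = r := by
  by_cases hk : 1 ≤ k ∧ k ≤ O.t
  · obtain ⟨L⟩ := O.h.exists_lvl O.hM O.hP O.hno O.hq O.hζ hk.1 hk.2
    exact ⟨L.r, fun _ _ => ⟨L, rfl⟩⟩
  · exact ⟨fun _ _ => 0, fun h1 h2 => absurd ⟨h1, h2⟩ hk⟩

/-- The coordinates of the levels. -/
noncomputable def r (k : ℕ) : IrrCharacter G → ℕ → ℤ := (O.exists_L k).choose

theorem exists_lvl {k : ℕ} (hk : 1 ≤ k) (hkt : k ≤ O.t) :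
    ∃ L : Lvl M B O.D O.e O.x O.ζ O.t k, L.r = O.r k :=
  (O.exists_L k).choose_spec hk hkt

theorem odd_r {k : ℕ} (hk : 1 ≤ k) (hkt : k ≤ O.t) {χ : IrrCharacter G} (hχ : χ ∈ B)
    (hh : blockHeight 2 B (χ : G → ℂ) = 0) : ¬ (2 : ℤ) ∣ O.r k χ 0 := by
  obtain ⟨L, hL⟩ := O.exists_lvl hk hkt
  exact hL ▸ L.parity χ hχ hh

theorem gram_top {i j : ℕ} (hi : i < 2 ^ O.t) (hj : j < 2 ^ O.t) :
    ∑ χ ∈ B.toFinset, O.r O.t χ i * O.r O.t χ j = 2 * ((if i = j then 1 else 0) + sg O.t O.t i *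
      ((if i + j = 0 then 1 else 0) - if i + j = 2 ^ O.t then 1 else 0)) := by
  have ht : 1 ≤ O.t := by have := O.two_le_t; omega
  obtain ⟨L, hL⟩ := O.exists_lvl ht le_rfl
  have h1 := O.h.lvl_gram O.hM O.hP O.hno O.hq O.hζ ht le_rfl L hi hj
  rw [hL, O.hq] at h1
  refine mul_left_cancel₀ (pow_ne_zero O.t (two_ne_zero : (2 : ℤ) ≠ 0)) ?_
  rw [h1]
  push_cast
  ring

theorem gram_half {i j : ℕ} (hi : i ∈ Finset.Ico 1 (2 ^ (O.t - 1)))
    (hj : j ∈ Finset.Ico 1 (2 ^ (O.t - 1))) :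
    ∑ χ ∈ B.toFinset, O.r O.t χ i * O.r O.t χ j = if i = j then 2 else 0 := by
  rw [Finset.mem_Ico] at hi hj
  have h2 := O.two_pow_t
  rw [O.gram_top (by omega) (by omega), if_neg (by omega : ¬ i + j = 0),
    if_neg (by omega : ¬ i + j = 2 ^ O.t)]
  split_ifs <;> ring

/-- The characters of height zero. -/
noncomputable def H (_ : Out M B) : Finset (IrrCharacter G) :=
  B.toFinset.filter fun χ : IrrCharacter G => blockHeight 2 B (χ : G → ℂ) = 0

theorem mem_H {χ : IrrCharacter G} :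
    χ ∈ O.H ↔ χ ∈ B ∧ blockHeight 2 B (χ : G → ℂ) = 0 := by
  simp [H]

theorem H_sub : O.H ⊆ B.toFinset := Finset.filter_subset _ _

theorem card_H : O.H.card = 4 := by
  have ht : 1 ≤ O.t := by have := O.two_le_t; omega
  have hnorm : ∑ χ ∈ B.toFinset, O.r O.t χ 0 * O.r O.t χ 0 = 4 := by
    have h2 := Nat.two_pow_pos O.t
    rw [O.gram_top h2 h2, if_pos rfl, if_neg (by omega), sg, if_pos rfl]
    norm_num
  have hd2 : 2 ≤ blockDefect 2 B := by
    have h4 := O.h.four_le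
    rw [O.hdef]
    by_contra hlt
    have : 2 ^ O.d ≤ 2 ^ 1 := Nat.pow_le_pow_right two_pos (by omega)
    have := O.hd
    omega
  have h4 := StarAction.sq_dvd_sum_height_zero O.hM O.hB (n := 2) le_rfl hd2
  rw [← Finset.sum_subtype O.H (fun χ => O.mem_H) (fun χ => StarAction.redDeg 2 B χ ^ 2)] at h4
  have h8 : ∀ χ ∈ O.H, ∃ t, StarAction.redDeg 2 B χ ^ 2 = 8 * t + 1 := fun χ hχ => by
    obtain ⟨v, hv⟩ : Odd (StarAction.redDeg 2 B χ) :=
      Nat.not_even_iff_odd.1 fun h => (StarAction.pow_dvd_redDeg_iff (O.mem_H.1 hχ).1).1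
        (even_iff_two_dvd.1 h) (O.mem_H.1 hχ).2
    obtain ⟨t, ht⟩ := Nat.even_mul_succ_self v
    exact ⟨t, by rw [hv, show (2 * v + 1) ^ 2 = 4 * (v * (v + 1)) + 1 by ring, ht]; ring⟩
  choose! t ht' using h8
  rw [Finset.sum_congr rfl ht', Finset.sum_add_distrib, Finset.sum_const, smul_eq_mul, mul_one,
    ← Finset.mul_sum] at h4
  have h4' : 4 ∣ O.H.card := (Nat.dvd_add_right
    (dvd_mul_of_dvd_left (by norm_num : 4 ∣ 8) _)).1 (by simpa using h4)
  obtain ⟨ψ, hψ, hψh⟩ :=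
    CfsgLib.BlockReg.exists_minExp (p := 2) (CfsgLib.BlockReg.block_nonempty O.hM O.hB)
  have hpos : 0 < O.H.card := Finset.card_pos.2 ⟨ψ, O.mem_H.2
    ⟨hψ, by rw [CfsgLib.BlockReg.blockHeight_eq, hψh, Nat.sub_self]⟩⟩
  have hle : (O.H.card : ℤ) ≤ 4 := by
    rw [← hnorm, Finset.card_eq_sum_ones, Nat.cast_sum]
    refine (Finset.sum_le_sum fun χ hχ => ?_).trans
      (Finset.sum_le_sum_of_subset_of_nonneg O.H_sub fun χ _ _ => mul_self_nonneg _)
    have h0 : O.r O.t χ 0 ≠ 0 := fun h =>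
      O.odd_r ht le_rfl (O.mem_H.1 hχ).1 (O.mem_H.1 hχ).2 (h ▸ dvd_zero _)
    have := mul_self_pos.2 h0
    push_cast
    omega
  obtain ⟨c, hc⟩ := h4'
  omega

/-- The subsection of an element. -/
noncomputable def sc (u : G) : Sec G := sec O.D O.e O.T O.φ u

theorem sc_mem {u : G} (hu : u ∈ O.D) : O.sc u ∈ O.T := sec_mem O.hT hu

theorem fus_sc {u : G} (hu : u ∈ O.D) : Fus 2 O.D O.e u (O.φ (O.sc u)) := fus_sec O.hT hu

theorem phi_one : O.φ (O.sc 1) = 1 :=
  orderOf_eq_one_iff.1 ((O.fus_sc (one_mem _)).orderOf_eq.trans orderOf_one)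

theorem fst_one : (O.sc 1).1 = 1 := orderOf_eq_one_iff.1 (by
  rw [← O.hT.orderOf_eq (O.sc_mem (one_mem _)), O.phi_one, orderOf_one])

/-- The subsections of the cyclic part. -/
noncomputable def cyc : Finset (Sec G) := cycSec O.D O.e O.T O.φ O.x O.q

theorem card_cyc : O.cyc.card = O.q - 1 := by
  have h4 := O.h.four_le
  have h1 := Finset.card_eq_sum_card_fiberwise (s := cycIdx O.q) (t := O.cyc)
    (f := fun j => sec O.D O.e O.T O.φ (O.x ^ j))
    (fun j hj => Finset.mem_image_of_mem (fun j => sec O.D O.e O.T O.φ (O.x ^ j)) hj)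
  rw [Finset.sum_congr rfl (g := fun _ => 2) (fun t ht => by
    obtain ⟨i, hi, rfl⟩ := Finset.mem_image.1 ht
    rw [O.h.cyc_fibre O.hM O.hP O.hno O.hT hi, Finset.card_pair (O.h.sigma_ne hi).2.symm]),
    Finset.sum_const, smul_eq_mul] at h1
  have h2 : cycIdx O.q = Finset.range (2 * O.q) \ {0, O.q} := by
    ext j
    rw [mem_cycIdx]
    simp only [Finset.mem_sdiff, Finset.mem_range, Finset.mem_insert, Finset.mem_singleton]
    omega
  rw [h2, Finset.card_sdiff_of_subset (by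
      intro j hj
      simp only [Finset.mem_insert, Finset.mem_singleton] at hj
      rw [Finset.mem_range]
      omega), Finset.card_range, Finset.card_pair (by omega : 0 ≠ O.q)] at h1
  omega

/-- A set of subsections outside the cyclic part bounds the number of characters from below. -/
theorem card_ge (R : Finset (Sec G)) (hR : R ⊆ O.T) (hd : Disjoint R O.cyc) :
    (∑ t ∈ R, blockRank 2 t.2) + (O.q - 1) ≤ Nat.card B := by
  rw [O.hT.card, ← O.card_cyc, Finset.card_eq_sum_ones,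
    Finset.sum_congr rfl (s₁ := O.cyc) (g := fun t => blockRank 2 t.2) fun t ht => by
      obtain ⟨j, hj, rfl⟩ := Finset.mem_image.1 ht
      exact (sec_rank_one O.hP O.hT (sec_mem O.hT (O.h.pow_mem_D j))
        (fus_sec O.hT (O.h.pow_mem_D j)) (O.h.rankOneAt_pow O.hM O.hP O.hno
          (Subgroup.npow_mem_zpowers O.x j) (O.h.two_lt_orderOf hj))).symm,
    ← Finset.sum_union hd]
  exact Finset.sum_le_sum_of_subset (Finset.union_subset hR (O.h.cycSec_subset O.hT))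

theorem rank_s1 : blockRank 2 (O.sc 1).2 = blockRank 2 B :=
  O.hT.central _ (O.sc_mem (one_mem _)) (O.fst_one.symm ▸ one_mem _)

/-- The contribution of the identity at a character is at least one. -/
theorem one_le_contrib_one {χ : IrrCharacter G} (hχ : χ ∈ B) :
    1 ≤ (contrib 2 O.d (O.sc 1).1 (O.sc 1).2 χ χ).re := by
  have hm := O.sc_mem (one_mem O.D)
  obtain ⟨A, hA⟩ := exists_regMatrix O.hM O.hB
  obtain ⟨h1, -, -, -, h5⟩ := hA χ hχ χ hχ
  rw [contrib_central O.hM O.hB (O.fst_one.symm ▸ one_mem _) (O.hT.pelem _ hm)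
      (O.hT.induced _ hm) O.d hχ hχ, O.fst_one,
    div_self (CfsgLib.BlockReg.deg_ne_zero χ), map_one, one_mul, one_mul, ← O.hdef, ← h1,
    Complex.intCast_re]
  exact_mod_cast Int.add_one_le_iff.2 (h5 rfl)

/-- The diagonal bound. -/
theorem diag_le {χ : IrrCharacter G} (hχ : χ ∈ B) (R : Finset (Sec G)) (hR : R ⊆ O.T)
    (hd : Disjoint R O.cyc) :
    ∑ t ∈ R, (contrib 2 O.d t.1 t.2 χ χ).re + ((∑ k ∈ Finset.Ico 1 (O.t + 1),
      2 ^ k * ∑ i ∈ Finset.range (2 ^ k), O.r k χ i * O.r k χ i : ℤ) : ℝ) ≤ 4 * 2 ^ O.t := by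
  have hc := O.h.sum_cyclic O.hM O.hP O.hno O.hT O.hd (fun _ => 1) (fun _ _ _ => rfl) χ χ
  simp only [one_mul] at hc
  rw [O.h.sum_cycIdx O.hq, Finset.sum_congr rfl (s₁ := Finset.Ico 1 (O.t + 1))
    (g := fun k => ((2 ^ k * ∑ i ∈ Finset.range (2 ^ k), O.r k χ i * O.r k χ i : ℤ) : ℂ))
    fun k hk => by
      rw [Finset.mem_Ico] at hk
      obtain ⟨L, hL⟩ := O.exists_lvl hk.1 (by omega : k ≤ O.t)
      have h2 := L.sum_phi O.hq O.hζ (by omega : k ≤ O.t) χ χ
      rw [hL] at h2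
      exact h2, ← Int.cast_sum] at hc
  have h1 := congrArg Complex.re hc
  rw [Complex.re_sum, Complex.intCast_re] at h1
  rw [← h1, show cycSec O.D O.e O.T O.φ O.x O.q = O.cyc from rfl, ← Finset.sum_union hd]
  refine (Finset.sum_le_sum_of_subset_of_nonneg (Finset.union_subset hR (O.h.cycSec_subset O.hT))
    fun t _ _ => contrib_self_nonneg O.d t.1 _ t.2 χ).trans (le_of_eq ?_)
  rw [← Complex.re_sum, sum_contrib_eq O.hM O.hB O.hP O.hno O.hT hχ χ O.d, if_pos rfl,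
    O.cast_two_pow]
  norm_cast

/-- On the characters of height zero the coordinates of the top level vanish. -/
theorem top_zero {χ : IrrCharacter G} (hχ : χ ∈ O.H) (R : Finset (Sec G)) (hR : R ⊆ O.T)
    (hd : Disjoint R O.cyc) (hbig : 2 < ∑ t ∈ R, (contrib 2 O.d t.1 t.2 χ χ).re) {i : ℕ}
    (hi : i ∈ Finset.Ico 1 (2 ^ (O.t - 1))) : O.r O.t χ i = 0 := by
  rw [Finset.mem_Ico] at hi
  obtain ⟨hχB, hh⟩ := O.mem_H.1 hχ
  have ht := O.two_le_t
  have h2 := O.two_pow_t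
  by_contra hne
  have hge : ∀ k ∈ Finset.Ico 1 (O.t + 1),
      1 ≤ ∑ j ∈ Finset.range (2 ^ k), O.r k χ j * O.r k χ j := fun k hk => by
    rw [Finset.mem_Ico] at hk
    have h0 : O.r k χ 0 ≠ 0 := fun h0 =>
      O.odd_r hk.1 (by omega) hχB hh (h0 ▸ dvd_zero _)
    have := mul_self_pos.2 h0
    exact le_trans (by omega) (Finset.single_le_sum (f := fun j => O.r k χ j * O.r k χ j)
      (fun j _ => mul_self_nonneg _) (Finset.mem_range.2 (Nat.two_pow_pos k)))
  have htop : 3 ≤ ∑ j ∈ Finset.range (2 ^ O.t), O.r O.t χ j * O.r O.t χ j := by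
    obtain ⟨L, hL⟩ := O.exists_lvl (by omega : 1 ≤ O.t) le_rfl
    have hr := L.refl χ i hi.1 (by omega)
    rw [hL] at hr
    have hne' : O.r O.t χ (2 ^ O.t - i) ≠ 0 := by
      rw [hr, neg_ne_zero]
      exact mul_ne_zero
        (fun h0 => by have := sg_sq O.t O.t i; rw [h0] at this; simp at this) hne
    have hsub : ({0, i, 2 ^ O.t - i} : Finset ℕ) ⊆ Finset.range (2 ^ O.t) := by
      intro j hj
      simp only [Finset.mem_insert, Finset.mem_singleton] at hj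
      rw [Finset.mem_range]
      omega
    refine le_trans ?_ (Finset.sum_le_sum_of_subset_of_nonneg hsub fun j _ _ => mul_self_nonneg _)
    rw [Finset.sum_insert (by simp; omega), Finset.sum_pair (by omega)]
    have h0 : O.r O.t χ 0 ≠ 0 := fun h0 =>
      O.odd_r (by omega) le_rfl hχB hh (h0 ▸ dvd_zero _)
    have := mul_self_pos.2 h0
    have := mul_self_pos.2 hne
    have := mul_self_pos.2 hne'
    omega
  have hlev : (4 : ℤ) * 2 ^ O.t - 2 ≤ ∑ k ∈ Finset.Ico 1 (O.t + 1),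
      2 ^ k * ∑ j ∈ Finset.range (2 ^ k), O.r k χ j * O.r k χ j := by
    rw [Finset.sum_Ico_succ_top (by omega : 1 ≤ O.t)]
    have hlow : ∀ n, 1 ≤ n → n ≤ O.t → (2 : ℤ) ^ n - 2 ≤ ∑ k ∈ Finset.Ico 1 n,
        2 ^ k * ∑ j ∈ Finset.range (2 ^ k), O.r k χ j * O.r k χ j := by
      intro n hn hnt
      induction n, hn using Nat.le_induction with
      | base => simp
      | succ n hn ih =>
        rw [Finset.sum_Ico_succ_top hn, pow_succ]
        have h3 := le_mul_of_one_le_right (pow_nonneg (by norm_num : (0 : ℤ) ≤ 2) n)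
          (hge n (Finset.mem_Ico.2 ⟨hn, by omega⟩))
        have := ih (by omega)
        linarith
    have := hlow O.t (by omega) le_rfl
    have h5 := mul_le_mul_of_nonneg_left htop (pow_nonneg (by norm_num : (0 : ℤ) ≤ 2) O.t)
    linarith
  have hle := O.diag_le hχB R hR hd
  have h4 : ((4 * 2 ^ O.t - 2 : ℤ) : ℝ) ≤ ((∑ k ∈ Finset.Ico 1 (O.t + 1),
      2 ^ k * ∑ i ∈ Finset.range (2 ^ k), O.r k χ i * O.r k χ i : ℤ) : ℝ) := Int.cast_le.2 hlev
  push_cast at h4 hle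
  linarith

/-- The contributions of a subsection not fused to the top level are orthogonal to it. -/
theorem orth_top {t : Sec G} (ht : t ∈ O.T) (hord : orderOf (O.φ t) ≤ 2) (ψ : IrrCharacter G)
    {i : ℕ} (hi : i < 2 ^ O.t) :
    ∑ χ ∈ B.toFinset, contrib 2 O.d t.1 t.2 χ ψ * (O.r O.t χ i : ℂ) = 0 := by
  have h1t : 1 ≤ O.t := by have := O.two_le_t; omega
  obtain ⟨L, hL⟩ := O.exists_lvl h1t le_rfl
  have h1 := L.lin O.hζ le_rfl (fun χ => conj (contrib 2 O.d t.1 t.2 χ ψ)) (fun τ hτ => ?_) hi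
  · have h2 := congrArg conj h1
    simpa only [hL, map_sum, map_mul, map_intCast, Complex.conj_conj, map_zero] using h2
  · have hidx := O.h.level_index O.hq h1t le_rfl (o := 2 * τ + 1) (by omega) (odd_two_mul_add_one τ)
    have h2 := congrArg conj (sum_contrib_col_ne O.hM O.hP O.hT ht (O.h.pow_mem_D
      (2 ^ (O.t - O.t) * (2 * τ + 1))) (fun hf => ?_)
      (O.h.rankOneAt_pow O.hM O.hP O.hno (Subgroup.npow_mem_zpowers O.x _)
        (O.h.two_lt_orderOf hidx)) O.d ψ)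
    · simpa only [map_sum, map_mul, Complex.conj_conj, map_zero] using h2
    · have := hf.orderOf_eq
      have := O.h.two_lt_orderOf hidx
      omega

/-- The subsection of the central involution of `D` carries the block of its centralizer. -/
theorem exists_central : ∃ (b : Set (IrrCharacter (Subgroup.centralizer ({O.x ^ O.q} : Set G))))
    (hb : IsPBlock M b), eIn hb = below O.D O.e (O.x ^ O.q) ∧
      IsInducedBlock M (Subgroup.centralizer ({O.x ^ O.q} : Set G)) b B ∧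
      blockRank 2 (O.sc (O.x ^ O.q)).2 = blockRank 2 b ∧
      ∀ χ ψ : IrrCharacter G,
        contrib 2 O.d (O.sc (O.x ^ O.q)).1 (O.sc (O.x ^ O.q)).2 χ ψ =
          contrib 2 O.d (O.x ^ O.q) b χ ψ := by
  have hzD := O.h.pow_mem_D O.q
  obtain ⟨b, hb, hbe, hind⟩ := exists_induced O.hM O.hB (DihBlocks.pairOf_below O.hP hzD)
  refine ⟨b, hb, hbe, hind, rank_fus O.hP O.hT (O.sc_mem hzD) (O.fus_sc hzD) hb hbe, fun χ ψ => ?_⟩
  obtain ⟨g, hbs, hg, hbelow⟩ := O.hT.below_eq O.hP (O.sc_mem hzD)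
  obtain ⟨k, f, h1, hk, h2⟩ := (O.fus_sc hzD).symm
  obtain rfl : f = below O.D O.e (O.φ (O.sc (O.x ^ O.q))) :=
    SLE.unique O.hP.pair h1 (sle_below O.hP.pair (O.hT.mem _ (O.sc_mem hzD)))
  refine (contrib_conj (k := k * g) ?_ hbs hb ?_ O.d χ ψ).symm
  · exact (by group : k * g * (O.sc (O.x ^ O.q)).1 * (k * g)⁻¹ =
      k * (g * (O.sc (O.x ^ O.q)).1 * g⁻¹) * k⁻¹).trans (by rw [hg, hk])
  · rw [← conjA_conjA, hbelow, hbe]
    exact SLE.unique O.hP.pair h2 (sle_below O.hP.pair (h2.le (Subgroup.mem_zpowers _)))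

theorem s1_notMem : O.sc 1 ∉ O.cyc := O.h.sec_one_notMem O.hP O.hT

theorem sz_notMem : O.sc (O.x ^ O.q) ∉ O.cyc := O.h.sec_z_notMem O.hP O.hT

theorem s1_ne_sz : O.sc 1 ≠ O.sc (O.x ^ O.q) := O.h.sec_one_ne_z O.hP O.hT

theorem order_phi_z : orderOf (O.φ (O.sc (O.x ^ O.q))) = 2 :=
  (O.fus_sc (O.h.pow_mem_D O.q)).orderOf_eq.trans O.h.orderOf_z

end Out

end CfsgLib.SdBlocks
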