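import Cfsg.Agent.Lib.SdBlocks.OutData

/-!
# The invariants without the fusion of the elements of order four
-/

set_option autoImplicit false
set_option maxHeartbeats 1600000
set_option synthInstance.maxHeartbeats 400000

open scoped ComplexConjugate Classical
open Cfsg CfsgLib.Blocks CfsgLib.Blocks.Pairs CfsgLib.BlockRank CfsgLib.DihBlocks CfsgLib.QuatBlocks

namespace CfsgLib.SdBlocks

universe u

variable {G : Type u} [Group G] [Fintype G] {M : Ideal AlgInt} [M.IsMaximal]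
  [CharP (ResField M) 2] {B : Set (IrrCharacter G)} [Fintype B]

namespace Out

variable (O : Out M B)

section Unfused

variable (hF : ¬ Fus 2 O.D O.e (O.x ^ (O.q / 2)) (O.s * O.x))

include hF

theorem y_image {v : G} (hf : Fus 2 O.D O.e (O.s * O.x) v) : v ∉ Subgroup.zpowers O.x := fun hv =>
  hF (O.h.fus_four O.hP hv (hf.orderOf_eq.trans O.h.orderOf_y) O.h.y_out hf.symm)

theorem rankOne_y : RankOneAt M O.D O.e (O.s * O.x) := fun _ hb hbe =>
  (O.h.out_block O.hM O.hP O.hno O.h.y_mem (fun _ hv => O.y_image hF hv) (Or.inl O.h.orderOf_y)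
    hb hbe).1

theorem y_notMem : O.sc (O.s * O.x) ∉ O.cyc := by
  rw [cyc, sc, O.h.sec_mem_cycSec_iff O.hP O.hT O.h.y_mem]
  rintro ⟨j, -, hf⟩
  exact O.y_image hF hf.symm (Subgroup.npow_mem_zpowers O.x j)

theorem y_ne {u : G} (hu : u ∈ O.D) (ho : orderOf u ≠ 4) : O.sc (O.s * O.x) ≠ O.sc u :=
  fun he => ho (((sec_eq_iff O.hP.pair O.hT O.h.y_mem hu).1 he).orderOf_eq.trans O.h.orderOf_y)

theorem contrib_y_pos {χ : IrrCharacter G} (hχ : χ ∈ B)
    (hh : blockHeight 2 B (χ : G → ℂ) = 0) :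
    0 < (contrib 2 O.d (O.sc (O.s * O.x)).1 (O.sc (O.s * O.x)).2 χ χ).re := by
  have ht := O.two_le_t
  have hω : IsPrimitiveRoot (O.ζ ^ 2 ^ (O.t - 1)) 4 := prim_level O.hζ (by omega : 1 ≤ O.t)
  obtain ⟨Y⟩ := exists_orb O.hM O.hB O.hP O.h.y_mem (ζ := O.ζ ^ 2 ^ (O.t - 1)) (m₀ := 4)
    (by rw [O.h.orderOf_y]; exact hω)
    fun _ hb hbe => O.h.out_block O.hM O.hP O.hno O.h.y_mem (fun _ hv => O.y_image hF hv)
      (Or.inl O.h.orderOf_y) hb hbe
  have hval := Y.value χ 1 odd_one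
  have hnorm := Y.norm 1 odd_one
  rw [pow_one, pow_one] at hval
  rw [pow_one] at hnorm
  rw [CfsgLib.BlockReg.blockHeight_eq] at hh
  have hne : Polynomial.aeval (O.ζ ^ 2 ^ (O.t - 1)) (Y.poly χ) ≠ 0 := fun h0 => by
    refine Y.parity χ hχ (le_antisymm (Nat.sub_eq_zero_iff_le.1 hh)
      (CfsgLib.BlockReg.minExp_le hχ)) ?_
    have hdvd : Polynomial.cyclotomic 4 ℤ ∣ Y.poly χ := by
      rw [Polynomial.cyclotomic_eq_minpoly hω (by norm_num)]
      exact minpoly.isIntegrallyClosed_dvd (hω.isIntegral (by norm_num)) h0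
    have h2 := map_dvd (Polynomial.evalRingHom (1 : ℤ)) hdvd
    haveI : Fact (Nat.Prime 2) := ⟨Nat.prime_two⟩
    have he : (Polynomial.cyclotomic 4 ℤ).eval 1 = ((2 : ℕ) : ℤ) := by
      rw [show (4 : ℕ) = 2 ^ (1 + 1) by norm_num]
      exact Polynomial.eval_one_cyclotomic_prime_pow 1
    rw [Polynomial.coe_evalRingHom, he] at h2
    exact_mod_cast h2
  have h1 := contrib_fus O.hM O.hP O.hT (O.sc_mem O.h.y_mem) (O.fus_sc O.h.y_mem)
    (O.rankOne_y hF) O.d χ χ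
  rw [hnorm, hval, Complex.mul_conj, O.cast_two_pow] at h1
  have hd : (0 : ℝ) < (Y.deg : ℝ) ^ 2 * 4 := by
    have := Y.deg_pos
    positivity
  have h2 := congrArg Complex.re h1
  rw [show ((Y.deg : ℂ) ^ 2 * ((4 : ℕ) : ℂ)) = (((Y.deg : ℝ) ^ 2 * 4 : ℝ) : ℂ) by push_cast; rfl,
    show (4 * 2 ^ O.t : ℂ) = ((4 * 2 ^ O.t : ℝ) : ℂ) by push_cast; rfl, Complex.re_mul_ofReal,
    ← Complex.ofReal_mul, Complex.ofReal_re] at h2
  have hpos : 0 < Complex.normSq ((Y.deg : ℂ) *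
      Polynomial.aeval (O.ζ ^ 2 ^ (O.t - 1)) (Y.poly χ)) :=
    Complex.normSq_pos.2 (mul_ne_zero (Nat.cast_ne_zero.2 Y.deg_pos.ne') hne)
  by_contra hle
  have h3 := mul_nonpos_of_nonpos_of_nonneg (not_lt.1 hle) hd.le
  rw [h2] at h3
  have := mul_pos (show (0 : ℝ) < 4 * 2 ^ O.t by positivity) hpos
  linarith

end Unfused

/-- **The invariants when the block at the central involution has rank one.** -/
theorem invariants_nil (hF : ¬ Fus 2 O.D O.e (O.x ^ (O.q / 2)) (O.s * O.x))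
    {b : Set (IrrCharacter (Subgroup.centralizer ({O.x ^ O.q} : Set G)))} (hb : IsPBlock M b)
    (hbe : eIn hb = below O.D O.e (O.x ^ O.q)) (hl : blockRank 2 b = 1)
    (hbd : blockDefect 2 b = O.d) :
    Nat.card B = 2 ^ O.t + 3 ∧ blockRank 2 B ≤ 2 ∧
      ∀ χ ∈ B, blockHeight 2 B (χ : G → ℂ) ≤ 1 := by
  have ht := O.two_le_t
  have hzD := O.h.pow_mem_D O.q
  have hpz := DihBlocks.pairOf_below O.hP hzD
  have hloc : ∀ (b' : Set (IrrCharacter (Subgroup.centralizer ({O.x ^ O.q} : Set G))))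
      (hb' : IsPBlock M b'), eIn hb' = below O.D O.e (O.x ^ O.q) → b' = b := fun b' hb' h' =>
    eIn_injective hb' hb (h'.trans hbe.symm)
  obtain ⟨g, v, hg, hcol, hvsum, hv0, hvdvd, hvodd⟩ := exists_zColumn O.hM O.hB O.h.orderOf_z hpz
    fun b' hb' h' => by
      obtain rfl := hloc b' hb' h'
      exact ⟨hl, hbd.trans O.hdef.symm⟩
  rw [O.hdef, O.hd, O.hq] at hvsum
  push_cast at hvsum
  have hrz : RankOneAt M O.D O.e (O.x ^ O.q) := fun b' hb' h' => by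
    obtain rfl := hloc b' hb' h'
    exact hl
  -- the contributions at the involution
  have hcon : ∀ χ ψ : IrrCharacter G,
      contrib 2 O.d (O.sc (O.x ^ O.q)).1 (O.sc (O.x ^ O.q)).2 χ ψ = ((v χ * v ψ : ℤ) : ℂ) := by
    intro χ ψ
    have h1 := contrib_fus O.hM O.hP O.hT (O.sc_mem hzD) (O.fus_sc hzD) hrz O.d χ ψ
    have hn : colNorm M O.D O.e B (O.x ^ O.q) = g * conj g * (4 * 2 ^ O.t) := by
      simp only [colNorm, col, hcol, map_mul, map_intCast]
      rw [show (4 * 2 ^ O.t : ℂ) = ((∑ χ ∈ B.toFinset, v χ * v χ : ℤ) : ℂ) by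
        rw [hvsum]; push_cast; rfl, Int.cast_sum, Finset.mul_sum]
      exact Finset.sum_congr rfl fun χ _ => by push_cast; ring
    rw [hn, col, col, hcol, hcol, map_mul, map_intCast, O.cast_two_pow] at h1
    refine mul_right_cancel₀ (mul_ne_zero (mul_ne_zero hg ((_root_.map_ne_zero _).2 hg))
      (mul_ne_zero (by norm_num : (4 : ℂ) ≠ 0) (pow_ne_zero O.t two_ne_zero))) (h1.trans ?_)
    push_cast
    ring
  set R : Finset (Sec G) := {O.sc 1, O.sc (O.x ^ O.q), O.sc (O.s * O.x)} with hR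
  have hy := O.h.y_mem
  have hy1 : O.sc (O.s * O.x) ≠ O.sc 1 := O.y_ne hF (one_mem _) (by rw [orderOf_one]; norm_num)
  have hyz : O.sc (O.s * O.x) ≠ O.sc (O.x ^ O.q) :=
    O.y_ne hF hzD (by rw [O.h.orderOf_z]; norm_num)
  have hRT : R ⊆ O.T := by
    simp only [hR, Finset.insert_subset_iff, Finset.singleton_subset_iff]
    exact ⟨O.sc_mem (one_mem _), O.sc_mem hzD, O.sc_mem hy⟩
  have hRd : Disjoint R O.cyc := by
    simp only [hR, Finset.disjoint_insert_left, Finset.disjoint_singleton_left]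
    exact ⟨O.s1_notMem, O.sz_notMem, O.y_notMem hF⟩
  have hsumR : ∀ {V : Type} [AddCommMonoid V] (f : Sec G → V), ∑ t ∈ R, f t =
      f (O.sc 1) + (f (O.sc (O.x ^ O.q)) + f (O.sc (O.s * O.x))) := fun f => by
    rw [hR, Finset.sum_insert (by simp [O.s1_ne_sz, hy1.symm]), Finset.sum_pair hyz.symm]
  -- the rows
  set m := 2 ^ (O.t - 1) with hm
  have hgram : ∀ i ∈ Finset.Ico 1 m, ∀ l ∈ Finset.Ico 1 m,
      ∑ χ ∈ B.toFinset, O.r O.t χ i * O.r O.t χ l = if i = l then 2 else 0 :=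
    fun i hi l hl => O.gram_half hi hl
  obtain ⟨ψ, hψ⟩ := Finset.card_pos.1 (O.card_H.symm ▸ (by norm_num : 0 < 4))
  have horth : ∀ i ∈ Finset.Ico 1 m, ∑ χ ∈ B.toFinset, v χ * O.r O.t χ i = 0 := by
    intro i hi
    have h2 := O.two_pow_t
    have h1 := O.orth_top (O.sc_mem hzD) O.order_phi_z.le ψ
      (i := i) (by have := (Finset.mem_Ico.1 hi).2; omega)
    simp only [hcon] at h1
    have h3 : ((v ψ * ∑ χ ∈ B.toFinset, v χ * O.r O.t χ i : ℤ) : ℂ) = 0 := by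
      rw [← h1]
      push_cast
      rw [Finset.mul_sum]
      exact Finset.sum_congr rfl fun χ _ => by ring
    exact (mul_eq_zero.1 (Int.cast_eq_zero.1 h3)).resolve_left (hv0 ψ (O.mem_H.1 hψ).1)
  have hv : ∀ χ ∈ B.toFinset, v χ ≠ 0 := fun χ hχ => hv0 χ (Set.mem_toFinset.1 hχ)
  have hrow := row_sq_le B.toFinset (Finset.Ico 1 m) (O.r O.t) v hgram horth hv
  have hex : ∀ χ ∈ O.H, ∀ i ∈ Finset.Ico 1 m, O.r O.t χ i = 0 := by
    intro χ hχ i hi
    refine O.top_zero hχ R hRT hRd ?_ hi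
    obtain ⟨hχB, hh⟩ := O.mem_H.1 hχ
    have h1 := O.one_le_contrib_one hχB
    have h2 := O.contrib_y_pos hF hχB hh
    rw [hsumR, hcon, Complex.intCast_re]
    have h3 : (1 : ℝ) ≤ ((v χ * v χ : ℤ) : ℝ) := by
      have := mul_self_pos.2 (hv0 χ hχB)
      exact_mod_cast (by omega : (1 : ℤ) ≤ v χ * v χ)
    linarith
  obtain ⟨hk, hval⟩ := count_rows B.toFinset O.H O.H_sub O.card_H (m := m) Nat.one_le_two_pow
    (O.r O.t) v (fun i hi => by rw [hgram i hi i hi, if_pos rfl]) horth hrow hex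
    (by
      rw [hvsum, hm]
      push_cast
      rw [show (2 : ℤ) ^ O.t = 2 * 2 ^ (O.t - 1) by
        rw [← pow_succ', Nat.sub_add_cancel (by omega)]]
      ring) hv
    (fun χ hχ => hvodd χ (O.mem_H.1 hχ).1 (O.mem_H.1 hχ).2)
    (fun χ hχ hH => (dvd_pow_self (2 : ℤ) (fun h0 => hH (O.mem_H.2 ⟨Set.mem_toFinset.1 hχ, h0⟩))).trans
      (hvdvd χ (Set.mem_toFinset.1 hχ)))
  have hkB : Nat.card B = 2 ^ O.t + 3 := by
    rw [Nat.card_eq_fintype_card, ← Set.toFinset_card, hk, O.two_pow_t]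
  refine ⟨hkB, ?_, fun χ hχ => ?_⟩
  · have h1 := O.card_ge R hRT hRd
    rw [hsumR, O.rank_s1, rank_fus O.hP O.hT (O.sc_mem hzD) (O.fus_sc hzD) hb hbe, hl,
      sec_rank_one O.hP O.hT (O.sc_mem hy) (O.fus_sc hy) (O.rankOne_y hF), hkB] at h1
    have := O.hq
    have := O.h.four_le
    omega
  · by_cases hχH : χ ∈ O.H
    · rw [(O.mem_H.1 hχH).2]; exact Nat.zero_le 1
    have h2 := Int.natAbs_dvd_natAbs.2 (hvdvd χ hχ)
    have h3 : (v χ).natAbs = 2 := by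
      rcases hval χ (Set.mem_toFinset.2 hχ) hχH with h | h <;> rw [h] <;> rfl
    rw [h3, Int.natAbs_pow] at h2
    exact (Nat.pow_dvd_pow_iff_le_right (le_refl 2)).1 (by simpa using h2)

end Out

end CfsgLib.SdBlocks
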