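import Cfsg.Agent.Lib.SdBlocks.Orbit
import Cfsg.Agent.Lib.DihedralBlocks.CycloReal

/-!
# The subsections in the cyclic part of a semidihedral defect group
-/

set_option autoImplicit false
set_option maxHeartbeats 1600000
set_option synthInstance.maxHeartbeats 400000

open scoped ComplexConjugate Classical
open Cfsg CfsgLib.Blocks CfsgLib.Blocks.Pairs CfsgLib.BlockRank CfsgLib.DihBlocks CfsgLib.QuatBlocks

namespace CfsgLib.SdBlocks

universe u

/-- Summing over the levels of the `2`-adic valuation. -/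
theorem sum_range_two_pow {R : Type*} [AddCommMonoid R] (t : ℕ) : ∀ F : ℕ → R,
    ∑ j ∈ Finset.range (2 ^ (t + 1)), F j =
      F 0 + ∑ k ∈ Finset.range (t + 1), ∑ τ ∈ Finset.range (2 ^ k), F (2 ^ (t - k) * (2 * τ + 1)) := by
  have hsplit : ∀ (n : ℕ) (F : ℕ → R), ∑ j ∈ Finset.range (2 * n), F j =
      (∑ i ∈ Finset.range n, F (2 * i)) + ∑ i ∈ Finset.range n, F (2 * i + 1) := by
    intro n F
    induction n with
    | zero => simp
    | succ n ih =>
      rw [Finset.sum_range_succ _ n, Finset.sum_range_succ _ n, Nat.mul_succ,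
        Finset.sum_range_succ, Finset.sum_range_succ, ih]
      abel
  induction t with
  | zero => intro F; simp [Finset.sum_range_succ]
  | succ t ih =>
    intro F
    rw [pow_succ', hsplit, ih (fun i => F (2 * i)), Finset.sum_range_succ _ (t + 1), add_assoc]
    simp only [mul_zero, Nat.sub_self, pow_zero, one_mul]
    congr 2
    refine Finset.sum_congr rfl fun k hk => Finset.sum_congr rfl fun τ _ => ?_
    rw [← mul_assoc, ← pow_succ', show t + 1 - k = t - k + 1 by
      have := Finset.mem_range.1 hk; omega]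

variable {G : Type u} [Group G] [Fintype G] {M : Ideal AlgInt} [M.IsMaximal]
  [CharP (ResField M) 2] {D : Subgroup G} {e : MonoidAlgebra (ResField M) G}
  {B : Set (IrrCharacter G)} {T : Finset (Sec G)} {φ : Sec G → G} {x s : G} {q : ℕ}

/-- The subsection of an element of the defect group. -/
noncomputable def sec (D : Subgroup G) (e : MonoidAlgebra (ResField M) G) (T : Finset (Sec G))
    (φ : Sec G → G) (u : G) : Sec G :=
  if h : ∃ t ∈ T, Fus 2 D e u (φ t) then h.choose else ⟨1, ∅⟩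

theorem sec_mem (hT : SecData 2 M B D e T φ) {u : G} (hu : u ∈ D) : sec D e T φ u ∈ T := by
  have h := hT.surj u hu
  rw [sec, dif_pos h]
  exact h.choose_spec.1

theorem fus_sec (hT : SecData 2 M B D e T φ) {u : G} (hu : u ∈ D) :
    Fus 2 D e u (φ (sec D e T φ u)) := by
  have h := hT.surj u hu
  rw [sec, dif_pos h]
  exact h.choose_spec.2

theorem sec_eq (hP : IsPair 2 D e) (hT : SecData 2 M B D e T φ) {u : G} (hu : u ∈ D) {t : Sec G}
    (ht : t ∈ T) (hf : Fus 2 D e u (φ t)) : sec D e T φ u = t :=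
  hT.inj _ (sec_mem hT hu) t ht ((fus_sec hT hu).symm.trans hP hf)

theorem sec_eq_iff (hP : IsPair 2 D e) (hT : SecData 2 M B D e T φ) {u v : G} (hu : u ∈ D)
    (hv : v ∈ D) : sec D e T φ u = sec D e T φ v ↔ Fus 2 D e u v :=
  ⟨fun h => (fus_sec hT hu).trans hP (h ▸ (fus_sec hT hv).symm),
    fun h => sec_eq hP hT hu (sec_mem hT hv) (h.trans hP (fus_sec hT hv))⟩

theorem fus_refl {E : MonoidAlgebra (ResField M) G} (hP : PairOf 2 E D e) {u : G} (hu : u ∈ D) :
    Fus 2 D e u u := by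
  simpa using fus_conj_of_mem hP.pair hu (one_mem D)

/-- The indices of the elements of order greater than two of the cyclic part. -/
def cycIdx (q : ℕ) : Finset ℕ := (Finset.range (2 * q)).filter fun j => j ≠ 0 ∧ j ≠ q

theorem mem_cycIdx {q j : ℕ} : j ∈ cycIdx q ↔ j < 2 * q ∧ j ≠ 0 ∧ j ≠ q := by
  simp [cycIdx]

/-- The subsections in the cyclic part. -/
noncomputable def cycSec (D : Subgroup G) (e : MonoidAlgebra (ResField M) G) (T : Finset (Sec G))
    (φ : Sec G → G) (x : G) (q : ℕ) : Finset (Sec G) :=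
  (cycIdx q).image fun j => sec D e T φ (x ^ j)

/-- The contribution at a power of `x`, normalised. -/
noncomputable def Phi (M : Ideal AlgInt) [M.IsMaximal] (B : Set (IrrCharacter G)) [Fintype B]
    (D : Subgroup G) (e : MonoidAlgebra (ResField M) G) (x : G) (q j : ℕ)
    (χ ψ : IrrCharacter G) : ℂ :=
  (2 * q : ℂ) * (col M D e (x ^ j) χ * conj (col M D e (x ^ j) ψ)) / colNorm M D e B (x ^ j)

namespace Sd

omit [M.IsMaximal] [CharP (ResField M) 2] in
theorem two_lt_orderOf (h : Sd D x s q) {j : ℕ} (hj : j ∈ cycIdx q) : 2 < orderOf (x ^ j) := by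
  obtain ⟨hlt, h0, hq⟩ := mem_cycIdx.1 hj
  by_contra hcon
  have h1 : (x ^ j) ^ 2 = 1 := by
    have := orderOf_pos (x ^ j)
    exact orderOf_dvd_iff_pow_eq_one.1 (by interval_cases (orderOf (x ^ j)) <;> norm_num)
  rw [← pow_mul, ← orderOf_dvd_iff_pow_eq_one, h.order, mul_comm j 2] at h1
  obtain ⟨c, hc⟩ := Nat.dvd_of_mul_dvd_mul_left two_pos h1
  have : c < 2 := by nlinarith
  interval_cases c <;> omega

omit [M.IsMaximal] [CharP (ResField M) 2] in
theorem sigma_ne (h : Sd D x s q) {j : ℕ} (hj : j ∈ cycIdx q) :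
    (q - 1) * j % (2 * q) ∈ cycIdx q ∧ (q - 1) * j % (2 * q) ≠ j := by
  have h4 := h.four_le
  have hout := h.conj_out h.mem_s h.s_out (Subgroup.npow_mem_zpowers x j)
  have ho := h.two_lt_orderOf hj
  have hpow : x ^ ((q - 1) * j % (2 * q)) = (x ^ j) ^ (q - 1) := by
    rw [h.pow_mod_eq, mul_comm, pow_mul]
  have hord : orderOf (x ^ ((q - 1) * j % (2 * q))) = orderOf (x ^ j) := by
    rw [hpow, ← hout]
    exact MulEquiv.orderOf_eq (MulAut.conj s) _
  refine ⟨mem_cycIdx.2 ⟨Nat.mod_lt _ (by omega), fun h0 => ?_, fun h0 => ?_⟩, fun h0 => ?_⟩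
  · rw [h0, pow_zero, orderOf_one] at hord
    omega
  · rw [h0, h.orderOf_z] at hord
    omega
  · rw [h0] at hpow
    rw [← hpow, mul_inv_eq_iff_eq_mul] at hout
    rcases h.commute_out h.mem_s h.s_out (h.pow_mem_D j) hout.symm with h1 | h1 | h1 | h1
    · rw [h1, orderOf_one] at ho
      omega
    · rw [h1, h.orderOf_z] at ho
      omega
    · exact h.s_out ((inv_mem_iff).1 (h1 ▸ Subgroup.npow_mem_zpowers x j))
    · exact h.s_out ((inv_mem_iff).1 ((Subgroup.mul_mem_cancel_left _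
        (Subgroup.npow_mem_zpowers x q)).1 (h1 ▸ Subgroup.npow_mem_zpowers x j)))

theorem rankOneAt_pow (hM : IsPModular 2 M) (h : Sd D x s q) {hB : IsPBlock M B}
    (hP : PairOf 2 (ebar hB) D e) (hno : NoExt 2 D e) {u : G} (hu : u ∈ Subgroup.zpowers x)
    (ho : 2 < orderOf u) : RankOneAt M D e u :=
  fun _ hb hbe => (h.cyclic_block hM hP hno hu ho hb hbe).1

/-- The contribution of the subsection of `x ^ j`. -/
theorem contrib_cyc (hM : IsPModular 2 M) (h : Sd D x s q) [Fintype B] {hB : IsPBlock M B}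
    (hP : PairOf 2 (ebar hB) D e) (hno : NoExt 2 D e) (hT : SecData 2 M B D e T φ) {j : ℕ}
    (hj : j ∈ cycIdx q) {d : ℕ} (hd : 2 ^ d = 4 * q) (χ ψ : IrrCharacter G) :
    contrib 2 d (sec D e T φ (x ^ j)).1 (sec D e T φ (x ^ j)).2 χ ψ =
      2 * Phi M B D e x q j χ ψ := by
  have hN := colNorm_ne_zero hM hB hP (h.pow_mem_D j)
  refine mul_right_cancel₀ hN ?_
  rw [contrib_fus hM hP hT (sec_mem hT (h.pow_mem_D j)) (fus_sec hT (h.pow_mem_D j))
    (h.rankOneAt_pow hM hP hno (Subgroup.npow_mem_zpowers x j) (h.two_lt_orderOf hj)) d χ ψ, hd,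
    Phi, mul_assoc 2, div_mul_cancel₀ _ hN]
  push_cast
  ring

/-- The fibres of the map to the subsections of the cyclic part. -/
theorem cyc_fibre (hM : IsPModular 2 M) (h : Sd D x s q) {hB : IsPBlock M B}
    (hP : PairOf 2 (ebar hB) D e) (hno : NoExt 2 D e) (hT : SecData 2 M B D e T φ) {i : ℕ}
    (hi : i ∈ cycIdx q) :
    (cycIdx q).filter (fun j => sec D e T φ (x ^ j) = sec D e T φ (x ^ i)) =
      {i, (q - 1) * i % (2 * q)} := by
  have hsig := h.sigma_ne hi
  ext j
  simp only [Finset.mem_filter, Finset.mem_insert, Finset.mem_singleton]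
  rw [sec_eq_iff hP.pair hT (h.pow_mem_D j) (h.pow_mem_D i)]
  have hpow : x ^ ((q - 1) * i % (2 * q)) = (x ^ i) ^ (q - 1) := by
    rw [h.pow_mod_eq, mul_comm, pow_mul]
  constructor
  · rintro ⟨hj, hf⟩
    rcases h.fus_pow hM hP hno (Subgroup.npow_mem_zpowers x i) (Subgroup.npow_mem_zpowers x j)
      hf.symm with h1 | h1
    · exact Or.inl (h.pow_inj (mem_cycIdx.1 hj).1 (mem_cycIdx.1 hi).1 h1)
    · exact Or.inr (h.pow_inj (mem_cycIdx.1 hj).1 (mem_cycIdx.1 hsig.1).1 (h1.trans hpow.symm))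
  · rintro (rfl | rfl)
    · exact ⟨hi, fus_refl hP (h.pow_mem_D _)⟩
    · refine ⟨hsig.1, ?_⟩
      rw [hpow]
      exact (h.fus_sigma hP (Subgroup.npow_mem_zpowers x i)).symm

/-- The subsections of the cyclic part, summed over its elements. -/
theorem sum_cyclic (hM : IsPModular 2 M) (h : Sd D x s q) [Fintype B] {hB : IsPBlock M B}
    (hP : PairOf 2 (ebar hB) D e) (hno : NoExt 2 D e) (hT : SecData 2 M B D e T φ) {d : ℕ}
    (hd : 2 ^ d = 4 * q) (η : G → ℂ) (hη : ∀ u v, Fus 2 D e u v → η v = η u)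
    (χ ψ : IrrCharacter G) :
    ∑ t ∈ cycSec D e T φ x q, η (φ t) * contrib 2 d t.1 t.2 χ ψ =
      ∑ j ∈ cycIdx q, η (x ^ j) * Phi M B D e x q j χ ψ := by
  refine Eq.trans (Finset.sum_congr rfl fun t ht => ?_)
    (Finset.sum_fiberwise_of_maps_to (s := cycIdx q) (t := cycSec D e T φ x q)
      (g := fun j => sec D e T φ (x ^ j))
      (fun j hj => Finset.mem_image_of_mem (fun j => sec D e T φ (x ^ j)) hj) _)
  obtain ⟨i, hi, rfl⟩ := Finset.mem_image.1 ht
  rw [Finset.sum_congr rfl (g := fun _ => η (φ (sec D e T φ (x ^ i))) *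
      contrib 2 d (sec D e T φ (x ^ i)).1 (sec D e T φ (x ^ i)).2 χ ψ / 2) fun j hj => by
    obtain ⟨hj, heq⟩ := Finset.mem_filter.1 hj
    rw [← heq, hη _ _ (fus_sec hT (h.pow_mem_D j)), h.contrib_cyc hM hP hno hT hj hd]
    ring,
    Finset.sum_const, h.cyc_fibre hM hP hno hT hi, Finset.card_pair (h.sigma_ne hi).2.symm,
    two_nsmul, add_halves]

theorem cycSec_subset (h : Sd D x s q) (hT : SecData 2 M B D e T φ) :
    cycSec D e T φ x q ⊆ T := by
  intro t ht
  obtain ⟨i, -, rfl⟩ := Finset.mem_image.1 ht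
  exact sec_mem hT (h.pow_mem_D i)

theorem sec_mem_cycSec_iff (h : Sd D x s q) {hB : IsPBlock M B} (hP : PairOf 2 (ebar hB) D e)
    (hT : SecData 2 M B D e T φ) {v : G} (hv : v ∈ D) :
    sec D e T φ v ∈ cycSec D e T φ x q ↔ ∃ j ∈ cycIdx q, Fus 2 D e (x ^ j) v := by
  simp only [cycSec, Finset.mem_image]
  exact exists_congr fun j => and_congr_right fun _ => sec_eq_iff hP.pair hT (h.pow_mem_D j) hv

theorem sec_one_notMem (h : Sd D x s q) {hB : IsPBlock M B} (hP : PairOf 2 (ebar hB) D e)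
    (hT : SecData 2 M B D e T φ) : sec D e T φ 1 ∉ cycSec D e T φ x q := by
  rw [h.sec_mem_cycSec_iff hP hT (one_mem D)]
  rintro ⟨j, hj, hf⟩
  have h1 := hf.orderOf_eq
  have := h.two_lt_orderOf hj
  rw [orderOf_one] at h1
  omega

theorem sec_z_notMem (h : Sd D x s q) {hB : IsPBlock M B} (hP : PairOf 2 (ebar hB) D e)
    (hT : SecData 2 M B D e T φ) : sec D e T φ (x ^ q) ∉ cycSec D e T φ x q := by
  rw [h.sec_mem_cycSec_iff hP hT (h.pow_mem_D q)]
  rintro ⟨j, hj, hf⟩
  have h1 := hf.orderOf_eq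
  have := h.two_lt_orderOf hj
  rw [h.orderOf_z] at h1
  omega

theorem sec_one_ne_z (h : Sd D x s q) {hB : IsPBlock M B} (hP : PairOf 2 (ebar hB) D e)
    (hT : SecData 2 M B D e T φ) : sec D e T φ 1 ≠ sec D e T φ (x ^ q) := fun heq => by
  have h1 := ((sec_eq_iff hP.pair hT (one_mem D) (h.pow_mem_D q)).1 heq).orderOf_eq
  rw [h.orderOf_z, orderOf_one] at h1
  omega

omit [M.IsMaximal] [CharP (ResField M) 2] in
/-- Summing over the elements of the cyclic part by levels. -/
theorem sum_cycIdx {R : Type*} [AddCommGroup R] (h : Sd D x s q) {t : ℕ} (ht : q = 2 ^ t)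
    (F : ℕ → R) :
    ∑ j ∈ cycIdx q, F j = ∑ k ∈ Finset.Ico 1 (t + 1), ∑ τ ∈ Finset.range (2 ^ k),
      F (2 ^ (t - k) * (2 * τ + 1)) := by
  have hq := h.four_le
  have h1 := sum_range_two_pow t F
  rw [show Finset.range (t + 1) = Finset.Ico 0 (t + 1) from by rw [Finset.range_eq_Ico],
    Finset.sum_eq_sum_Ico_succ_bot (by omega : 0 < t + 1),
    show (2 : ℕ) ^ (t + 1) = 2 * q by rw [ht, pow_succ']] at h1
  simp only [pow_zero, Finset.range_one, Finset.sum_singleton, Nat.sub_zero, mul_zero, zero_add,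
    mul_one, ← ht] at h1
  have h2 := Finset.sum_filter_add_sum_filter_not (Finset.range (2 * q))
    (fun j => j ≠ 0 ∧ j ≠ q) F
  have h3 : (Finset.range (2 * q)).filter (fun j => ¬ (j ≠ 0 ∧ j ≠ q)) = {0, q} := by
    ext j
    simp only [Finset.mem_filter, Finset.mem_range, Finset.mem_insert, Finset.mem_singleton]
    omega
  rw [h3, Finset.sum_pair (by omega : 0 ≠ q), h1] at h2
  rw [cycIdx]
  exact add_right_cancel (h2.trans (by abel))

end Sd

end CfsgLib.SdBlocks
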