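import Cfsg.Agent.Lib.SdBlocks.Levels
import Cfsg.Agent.Lib.Blk83.SubsectionWeight

/-!
# The contributions of conjugate subsections
-/

set_option autoImplicit false
set_option maxHeartbeats 1600000
set_option synthInstance.maxHeartbeats 400000

open scoped ComplexConjugate Classical
open Cfsg CfsgLib.Blocks CfsgLib.Blocks.Pairs CfsgLib.BlockRank CfsgLib.DihBlocks CfsgLib.QuatBlocks

namespace CfsgLib.SdBlocks

universe u

variable {G : Type u} [Group G] [Fintype G] {M : Ideal AlgInt} [M.IsMaximal]
  [CharP (ResField M) 2]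

/-- Conjugate subsections have the same contributions. -/
theorem contrib_conj {k x y : G} (hy : k * x * k⁻¹ = y)
    {b : Set (IrrCharacter (Subgroup.centralizer ({x} : Set G)))}
    {b' : Set (IrrCharacter (Subgroup.centralizer ({y} : Set G)))}
    (hb : IsPBlock M b) (hb' : IsPBlock M b') (he : conjA k (eIn hb) = eIn hb') (d : ℕ)
    (χ ψ : IrrCharacter G) : contrib 2 d y b' χ ψ = contrib 2 d x b χ ψ := by
  subst hy
  let π : Subgroup.centralizer ({k * x * k⁻¹} : Set G) ≃* Subgroup.centralizer ({x} : Set G) :=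
    (MulEquiv.subgroupCongr (centralizer_conj_singleton k x)).trans
      (Subgroup.equivMapOfInjective (Subgroup.centralizer ({x} : Set G))
        (MulAut.conj k).toMonoidHom (MulAut.conj k).injective).symm
  have hπ : ∀ c : Subgroup.centralizer ({k * x * k⁻¹} : Set G),
      ((π c : Subgroup.centralizer ({x} : Set G)) : G) = k⁻¹ * (c : G) * k := by
    intro c
    have h1 : k * ((π c : Subgroup.centralizer ({x} : Set G)) : G) * k⁻¹ = (c : G) :=
      congrArg Subtype.val ((Subgroup.equivMapOfInjective (Subgroup.centralizer ({x} : Set G))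
        (MulAut.conj k).toMonoidHom (MulAut.conj k).injective).apply_symm_apply
          (MulEquiv.subgroupCongr (centralizer_conj_singleton k x) c))
    rw [← h1]
    group
  have hbb : pullSet π b = b' := by
    refine eIn_injective (isPBlock_pullSet π hb) hb' ?_
    rw [← he]
    ext g
    rw [coeff_conjA]
    by_cases hg : g ∈ Subgroup.centralizer ({k * x * k⁻¹} : Set G)
    · have hg' := hπ ⟨g, hg⟩
      rw [show k⁻¹ * g * k = ((π ⟨g, hg⟩ : Subgroup.centralizer ({x} : Set G)) : G) from hg'.symm,
        coeff_eIn, coeff_eIn]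
      congr 1
      apply Subtype.ext
      simp [subgroupBlockCoeff, blockCoeff_pullSet, hg]
    · rw [(isBlockIdem_eIn (isPBlock_pullSet π hb)).mem.supp g hg,
        (isBlockIdem_eIn hb).mem.supp _ fun hmem => hg ?_]
      rw [centralizer_conj_singleton]
      exact Subgroup.mem_map.2 ⟨_, hmem, by simp [mul_assoc]⟩
  subst hbb
  have hpart : ∀ θ : IrrCharacter G, ∀ c : Subgroup.centralizer ({k * x * k⁻¹} : Set G),
      blockPart (pullSet π b) (fun c : Subgroup.centralizer ({k * x * k⁻¹} : Set G) =>
        (θ : G → ℂ) (k * x * k⁻¹ * c)) c =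
      blockPart b (fun c : Subgroup.centralizer ({x} : Set G) => (θ : G → ℂ) (x * c)) (π c) := by
    intro θ c
    rw [← Blk83.blockPart_pullSet π b (isClassFunction_translate rfl θ) c]
    congr 1
    funext c'
    show (θ : G → ℂ) (k * x * k⁻¹ * c') = (θ : G → ℂ) (x * (π c' : G))
    rw [hπ, ← CfsgLib.Char.IsIrrCharacter.isClassFunction θ.2 (x * (k⁻¹ * (c' : G) * k)) k]
    congr 1
    group
  have hsum : ∀ F : Subgroup.centralizer ({x} : Set G) → ℂ,
      ∑ s ∈ regSet (G := Subgroup.centralizer ({k * x * k⁻¹} : Set G)) 2, F (π s) =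
        ∑ g ∈ regSet (G := Subgroup.centralizer ({x} : Set G)) 2, F g := by
    intro F
    refine Finset.sum_equiv π.toEquiv (fun s => ?_) fun s _ => rfl
    simp only [regSet, Finset.mem_filter, Finset.mem_univ, true_and]
    show IsPRegular 2 s ↔ IsPRegular 2 (π s)
    unfold IsPRegular
    rw [MulEquiv.orderOf_eq]
  simp only [contrib, regPair, hpart, Nat.card_congr π.toEquiv]
  rw [hsum fun g =>
    blockPart b (fun c : Subgroup.centralizer ({x} : Set G) => (χ : G → ℂ) (x * c)) g *
      conj (blockPart b (fun c : Subgroup.centralizer ({x} : Set G) => (ψ : G → ℂ) (x * c)) g)]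

end CfsgLib.SdBlocks
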